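import Mathlib
import Cfsg.Prelude.Def_CharExt
import Cfsg.Agent.Lib.Helper25.MatChar
import Cfsg.Agent.Lib.Helper2.CharEquiv

set_option autoImplicit false

namespace Cfsg.Agent.Lib.Helper25

open Cfsg

universe u v

variable {G : Type u} [Group G]

theorem detChar_eq [Finite G] {V : Type v} [AddCommGroup V] [Module ℂ V] [FiniteDimensional ℂ V]
    (ρ : Representation ℂ G V) :
    detChar ρ.character = fun g => LinearMap.det (ρ g) := by
  have h : IsCharacter G ρ.character := isCharacter_of_rep ρ
  unfold detChar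
  rw [dif_pos h]
  funext g
  have hσc : (Classical.choose (Classical.choose_spec h)).character = ρ.character :=
    Classical.choose_spec (Classical.choose_spec h)
  obtain ⟨e⟩ := Helper2.equiv_of_char_eq _ ρ hσc
  have h1 := e.1.2 g
  rw [← LinearMap.det_conj _ e.toLinearEquiv]
  congr 1
  rw [← LinearMap.comp_assoc]
  have h2 : (e.toLinearEquiv : _ →ₗ[ℂ] V) ∘ₗ (Classical.choose (Classical.choose_spec h)) g =
      ρ g ∘ₗ (e.toLinearEquiv : _ →ₗ[ℂ] V) := h1
  rw [h2, LinearMap.comp_assoc, LinearEquiv.comp_symm, LinearMap.comp_id]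

theorem detChar_eq' [Finite G] {V : Type v} [AddCommGroup V] [Module ℂ V] [FiniteDimensional ℂ V]
    (ρ : Representation ℂ G V) {χ : G → ℂ} (h : ρ.character = χ) (g : G) :
    detChar χ g = LinearMap.det (ρ g) := by
  rw [← h, detChar_eq]

theorem exists_hom_detChar [Finite G] {χ : G → ℂ} (h : IsCharacter G χ) :
    ∃ δ : G →* ℂˣ, ∀ g, detChar χ g = δ g := by
  obtain ⟨n, ρ, rfl⟩ := h
  refine ⟨(LinearMap.det.comp ρ).toHomUnits, fun g => ?_⟩
  rw [detChar_eq]
  rfl

theorem detChar_comp [Finite G] {H : Type u} [Group H] [Finite H] (f : H →* G) {χ : G → ℂ}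
    (h : IsCharacter G χ) : detChar (χ ∘ f) = detChar χ ∘ f := by
  obtain ⟨n, ρ, rfl⟩ := h
  let σ : Representation ℂ H (Fin n → ℂ) := ρ.comp f
  have h1 : σ.character = ρ.character ∘ f := rfl
  rw [← h1, detChar_eq, detChar_eq]
  rfl

theorem detChar_linear_mul [Finite G] (lam : G →* ℂˣ) {χ : G → ℂ} (h : IsCharacter G χ) {d : ℕ}
    (hd : χ 1 = d) :
    detChar (fun g => (lam g : ℂ) * χ g) = fun g => (lam g : ℂ) ^ d * detChar χ g := by
  obtain ⟨n, ρ, rfl⟩ := h
  have hn : n = d := by
    rw [Representation.char_one] at hd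
    simpa using hd
  subst hn
  let σ : Representation ℂ G (Fin n → ℂ) :=
    { toFun := fun g => (lam g : ℂ) • ρ g
      map_one' := by simp
      map_mul' := by
        intro a b
        simp only [map_mul, Units.val_mul]
        rw [smul_mul_smul_comm] }
  have hσ : σ.character = fun g => (lam g : ℂ) * ρ.character g := by
    funext g
    show LinearMap.trace ℂ _ ((lam g : ℂ) • ρ g) = _
    rw [map_smul]
    rfl
  rw [← hσ, detChar_eq, detChar_eq]
  funext g
  show LinearMap.det ((lam g : ℂ) • ρ g) = _
  rw [LinearMap.det_smul]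
  simp

theorem detChar_const [Finite G] (t : ℕ) : detChar (fun _ : G => (t : ℂ)) = fun _ => 1 := by
  have h : (Representation.trivial ℂ G (Fin t → ℂ)).character = fun _ : G => (t : ℂ) := by
    funext g
    simp [Representation.character, Representation.trivial]
  rw [← h, detChar_eq]
  funext g
  simp [Representation.trivial]

theorem isCharacter_const (t : ℕ) : IsCharacter G (fun _ : G => (t : ℂ)) := by
  have h : (Representation.trivial ℂ G (Fin t → ℂ)).character = fun _ : G => (t : ℂ) := by
    funext g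
    simp [Representation.character, Representation.trivial]
  rw [← h]
  exact ⟨t, _, rfl⟩

theorem detChar_nat_mul_linear [Finite G] (lam : G →* ℂˣ) (t : ℕ) :
    detChar (fun g => (t : ℂ) * (lam g : ℂ)) = fun g => (lam g : ℂ) ^ t := by
  have h := detChar_linear_mul lam (isCharacter_const (G := G) t) (d := t) rfl
  rw [detChar_const] at h
  have h2 : (fun g => (t : ℂ) * (lam g : ℂ)) = fun g => (lam g : ℂ) * (t : ℂ) := by
    funext g; ring
  rw [h2, h]
  simp

theorem detChar_linear [Finite G] (lam : G →* ℂˣ) :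
    detChar (fun g => (lam g : ℂ)) = fun g => (lam g : ℂ) := by
  have := detChar_nat_mul_linear lam 1
  simpa using this

end Cfsg.Agent.Lib.Helper25
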