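import Cfsg.Agent.Lib.Helper25.CliffordCorr

set_option autoImplicit false

namespace Cfsg.Agent.Lib.Helper25

open scoped ComplexConjugate
open Cfsg

universe u

variable {G : Type u} [Group G]

theorem indFun_mul_restrict [Fintype G] (H : Subgroup G) (φ : H → ℂ) {χ : G → ℂ}
    (hχ : IsClassFunction G χ) :
    indFun H (φ * fun h : H => χ h) = indFun H φ * χ := by
  funext g
  rw [Pi.mul_apply, indFun_apply, indFun_apply, mul_assoc, Finset.sum_mul]
  congr 1
  apply Finset.sum_congr rfl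
  intro x _
  have hx : χ (x⁻¹ * g * x) = χ g := by
    have := hχ g x⁻¹
    rwa [inv_inv] at this
  by_cases hy : x⁻¹ * g * x ∈ H
  · rw [extendByZero_mem H _ hy, extendByZero_mem H _ hy, Pi.mul_apply]
    show φ _ * χ (x⁻¹ * g * x) = _
    rw [hx]
  · rw [extendByZero_not_mem H _ hy, extendByZero_not_mem H _ hy, zero_mul]

theorem classInner_indFun_self_of_invariant [Fintype G] (N : Subgroup G) [hN : N.Normal]
    {θ : N → ℂ} (hθ : IsIrrCharacter N θ) (hinv : ∀ g : G, conjFun N θ g = θ) :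
    classInner (indFun N θ) (indFun N θ) = (N.index : ℂ) := by
  have hNc : (Nat.card N : ℂ) ≠ 0 := by exact_mod_cast Nat.card_pos.ne'
  have h := card_mul_classInner_indFun_self N hθ
  have hcard : Nat.card {g : G // ∀ h : N, θ ⟨g * h * g⁻¹, hN.conj_mem h h.2 g⟩ = θ h}
      = Nat.card G := by
    apply Nat.card_congr
    exact Equiv.subtypeUnivEquiv (fun g => (conjFun_eq_self_iff N θ g).mp (hinv g))
  rw [hcard, ← N.card_mul_index] at h
  push_cast at h
  exact mul_left_cancel₀ hNc h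

/-- The core of Isaacs 6.16 / Gallagher. -/
theorem gallagher_core [Fintype G] (N : Subgroup G) [hN : N.Normal] {φ ϑ : N → ℂ}
    (hφ : IsIrrCharacter N φ) (hφinv : ∀ g : G, conjFun N φ g = φ)
    (hϑinv : ∀ g : G, conjFun N ϑ g = ϑ) (hprod : IsIrrCharacter N (φ * ϑ)) {χ : G → ℂ}
    (hχ : IsIrrCharacter G χ) (hext : ∀ n : N, χ n = ϑ n) :
    (∀ β : G → ℂ, IsIrrCharacter G β → classInner (indFun N φ) β ≠ 0 →
      IsIrrCharacter G (β * χ) ∧
        classInner (indFun N (φ * ϑ)) (β * χ) = classInner (indFun N φ) β) ∧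
    (∀ β γ : G → ℂ, IsIrrCharacter G β → IsIrrCharacter G γ → classInner (indFun N φ) β ≠ 0 →
      classInner (indFun N φ) γ ≠ 0 → β ≠ γ → classInner (β * χ) (γ * χ) = 0) ∧
    (∀ ψ : G → ℂ, IsIrrCharacter G ψ → classInner (indFun N (φ * ϑ)) ψ ≠ 0 →
      ∃ β : G → ℂ, IsIrrCharacter G β ∧ classInner (indFun N φ) β ≠ 0 ∧ β * χ = ψ) := by
  classical
  have : Fintype (IrrCharacter G) := Fintype.ofFinite _
  have hχc := isCharacter_of_irr hχ
  have hcf := isClassFunction_of_isCharacter hχc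
  obtain ⟨e, he, hsum⟩ := Helper7.character_eq_sum_nat
    (isCharacter_indFun N φ (isCharacter_of_irr hφ))
  have hϑ : ϑ = fun n : N => χ n := funext fun n => (hext n).symm
  have hsum2 : indFun N (φ * ϑ) = ∑ β : IrrCharacter G, e β • ((β : G → ℂ) * χ) := by
    rw [hϑ, indFun_mul_restrict N φ hcf]
    conv_lhs => rw [hsum]
    rw [Finset.sum_mul]
    apply Finset.sum_congr rfl
    intro β _
    rw [smul_mul_assoc]
  have hmulc : ∀ β : IrrCharacter G, IsCharacter G ((β : G → ℂ) * χ) := fun β =>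
    Helper7.isCharacter_mul (isCharacter_of_irr β.2) hχc
  choose a ha using fun β γ : IrrCharacter G => Helper7.classInner_char_nat (hmulc β) (hmulc γ)
  have ha1 : ∀ β : IrrCharacter G, 1 ≤ a β β := by
    intro β
    rw [Nat.one_le_iff_ne_zero]
    intro h0
    have h1 := ha β β
    rw [h0, Nat.cast_zero] at h1
    have h2 := congrFun (Helper7.classInner_self_eq_zero h1) 1
    rw [Pi.mul_apply, Pi.zero_apply] at h2
    exact mul_ne_zero (Helper7.irr_apply_one_ne_zero β.2) (Helper7.irr_apply_one_ne_zero hχ) h2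
  have hprodinv : ∀ g : G, conjFun N (φ * ϑ) g = φ * ϑ := by
    intro g
    have h1 : conjFun N (φ * ϑ) g = conjFun N φ g * conjFun N ϑ g := rfl
    rw [h1, hφinv, hϑinv]
  have n1 := classInner_indFun_self_of_invariant N hφ hφinv
  have n2 := classInner_indFun_self_of_invariant N hprod hprodinv
  have inner2 : ∀ f : G → ℂ, classInner (indFun N (φ * ϑ)) f
      = ∑ β : IrrCharacter G, (e β : ℂ) * classInner ((β : G → ℂ) * χ) f := by
    intro f
    rw [hsum2, classInner_sum_left]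
    apply Finset.sum_congr rfl
    intro β _
    rw [← Nat.cast_smul_eq_nsmul ℂ, classInner_smul_left]
  have m1 : ∑ p : IrrCharacter G × IrrCharacter G, (if p.1 = p.2 then e p.1 * e p.2 else 0)
      = N.index := by
    have : ((∑ p : IrrCharacter G × IrrCharacter G,
        (if p.1 = p.2 then e p.1 * e p.2 else 0) : ℕ) : ℂ) = (N.index : ℂ) := by
      rw [← n1, Fintype.sum_prod_type]
      conv_rhs => rw [hsum]
      rw [classInner_sum_left]
      push_cast
      apply Finset.sum_congr rfl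
      intro β _
      rw [← Nat.cast_smul_eq_nsmul ℂ, classInner_smul_left, classInner_sum_right, Finset.mul_sum]
      apply Finset.sum_congr rfl
      intro γ _
      rw [← Nat.cast_smul_eq_nsmul ℂ, classInner_smul_right, Helper7.classInner_irr β.2 γ.2]
      by_cases h : β = γ
      · subst h
        simp
      · rw [if_neg h, if_neg (fun h' => h (Subtype.ext h'))]
        simp
    exact_mod_cast this
  have m2 : ∑ p : IrrCharacter G × IrrCharacter G, e p.1 * e p.2 * a p.1 p.2 = N.index := by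
    have : ((∑ p : IrrCharacter G × IrrCharacter G, e p.1 * e p.2 * a p.1 p.2 : ℕ) : ℂ)
        = (N.index : ℂ) := by
      rw [← n2, Fintype.sum_prod_type, inner2]
      push_cast
      apply Finset.sum_congr rfl
      intro β _
      rw [hsum2, classInner_sum_right, Finset.mul_sum]
      apply Finset.sum_congr rfl
      intro γ _
      rw [← Nat.cast_smul_eq_nsmul ℂ, classInner_smul_right, ha]
      simp
      ring
    exact_mod_cast this
  have hle : ∀ p ∈ (Finset.univ : Finset (IrrCharacter G × IrrCharacter G)),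
      (if p.1 = p.2 then e p.1 * e p.2 else 0) ≤ e p.1 * e p.2 * a p.1 p.2 := by
    rintro ⟨β, γ⟩ _
    by_cases h : β = γ
    · subst h
      simp only [if_true]
      exact Nat.le_mul_of_pos_right _ (ha1 β)
    · simp [h]
  have heq := (Finset.sum_eq_sum_iff_of_le hle).mp (m1.trans m2.symm)
  have hdiag : ∀ β : IrrCharacter G, e β ≠ 0 → a β β = 1 := by
    intro β hβ
    have := heq (β, β) (Finset.mem_univ _)
    simp only [if_true] at this
    have hpos : 0 < e β * e β := Nat.mul_pos (Nat.pos_of_ne_zero hβ) (Nat.pos_of_ne_zero hβ)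
    exact (Nat.eq_of_mul_eq_mul_left hpos (by rw [mul_one]; exact this)).symm
  have hoff : ∀ β γ : IrrCharacter G, e β ≠ 0 → e γ ≠ 0 → β ≠ γ → a β γ = 0 := by
    intro β γ hβ hγ hne
    have := heq (β, γ) (Finset.mem_univ _)
    simp only [if_neg hne] at this
    rcases Nat.mul_eq_zero.mp this.symm with h | h
    · rcases Nat.mul_eq_zero.mp h with h | h
      · exact absurd h hβ
      · exact absurd h hγ
    · exact h
  have hne_iff : ∀ β : IrrCharacter G, classInner (indFun N φ) (β : G → ℂ) ≠ 0 ↔ e β ≠ 0 := by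
    intro β
    rw [he β]
    exact Nat.cast_ne_zero
  have hirr : ∀ β : IrrCharacter G, e β ≠ 0 → IsIrrCharacter G ((β : G → ℂ) * χ) := by
    intro β hβ
    apply Helper7.isIrrCharacter_of_classInner_self_eq_one (hmulc β)
    rw [ha, hdiag β hβ, Nat.cast_one]
  refine ⟨?_, ?_, ?_⟩
  · intro β hβ hne
    have hβe := (hne_iff ⟨β, hβ⟩).mp hne
    refine ⟨hirr ⟨β, hβ⟩ hβe, ?_⟩
    rw [inner2, Finset.sum_eq_single (⟨β, hβ⟩ : IrrCharacter G)]
    · rw [show classInner (((⟨β, hβ⟩ : IrrCharacter G) : G → ℂ) * χ) (β * χ)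
          = a ⟨β, hβ⟩ ⟨β, hβ⟩ from ha ⟨β, hβ⟩ ⟨β, hβ⟩, hdiag _ hβe,
        show classInner (indFun N φ) β = e ⟨β, hβ⟩ from he ⟨β, hβ⟩]
      simp
    · intro γ _ hγ
      by_cases hγe : e γ = 0
      · rw [hγe]; simp
      · rw [show classInner ((γ : G → ℂ) * χ) (β * χ) = a γ ⟨β, hβ⟩ from ha γ ⟨β, hβ⟩,
          hoff γ ⟨β, hβ⟩ hγe hβe hγ]
        simp
    · intro h
      exact absurd (Finset.mem_univ _) h
  · intro β γ hβ hγ hβne hγne hne
    rw [show classInner (β * χ) (γ * χ) = a ⟨β, hβ⟩ ⟨γ, hγ⟩ from ha ⟨β, hβ⟩ ⟨γ, hγ⟩,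
      hoff ⟨β, hβ⟩ ⟨γ, hγ⟩ ((hne_iff ⟨β, hβ⟩).mp hβne) ((hne_iff ⟨γ, hγ⟩).mp hγne)
        (fun h => hne (congrArg Subtype.val h)), Nat.cast_zero]
  · intro ψ hψ hne
    rw [inner2] at hne
    obtain ⟨β, -, hβ⟩ := Finset.exists_ne_zero_of_sum_ne_zero hne
    obtain ⟨h1, h2⟩ := mul_ne_zero_iff.mp hβ
    have hβe : e β ≠ 0 := by exact_mod_cast h1
    refine ⟨β, β.2, (hne_iff β).mpr hβe, ?_⟩
    by_contra hcon
    exact h2 (Helper7.classInner_irr_ne (hirr β hβe) hψ hcon)

end Cfsg.Agent.Lib.Helper25
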