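import Mathlib
import Cfsg.Agent.Lib.Helper25.DetChar
import Cfsg.Agent.Lib.Helper25.IndChar
import Cfsg.Agent.Lib.Helper7.CharBasic

set_option autoImplicit false

namespace Cfsg.Agent.Lib.Helper25

open Cfsg

universe u

variable {G : Type u} [Group G]

theorem one_mem_of_forall_prime' (J : AddSubgroup ℤ)
    (h : ∀ p : ℕ, p.Prime → ∃ m ∈ J, ¬ (p : ℤ) ∣ m) : (1 : ℤ) ∈ J := by
  obtain ⟨a, ha⟩ := Int.subgroup_cyclic J
  have hmem : ∀ m ∈ J, a ∣ m := by
    intro m hm
    rw [ha, AddSubgroup.mem_closure_singleton] at hm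
    obtain ⟨k, hk⟩ := hm
    exact ⟨k, by rw [← hk]; simp [mul_comm]⟩
  have haJ : a ∈ J := by rw [ha]; exact AddSubgroup.mem_closure_singleton_self a
  have hunit : a.natAbs = 1 := by
    by_contra hne
    obtain ⟨p, hp, hpa⟩ := Nat.exists_prime_and_dvd hne
    obtain ⟨m, hm, hpm⟩ := h p hp
    exact hpm (dvd_trans (Int.natCast_dvd.2 hpa) (hmem m hm))
  rcases Int.natAbs_eq a with h1 | h1
  · rw [hunit] at h1
    rw [h1] at haJ
    exact_mod_cast haJ
  · rw [hunit] at h1
    rw [h1] at haJ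
    have := J.neg_mem haJ
    simpa using this

/-- The determinant of the character induced from an extension of an invariant linear character. -/
theorem exists_hom_pow_index [Finite G] (N : Subgroup G) [hN : N.Normal] (l : N →* ℂˣ)
    (hinv : ∀ (g : G) (n : N), l (MulAut.conjNormal g n) = l n) (H : Subgroup G) (hNH : N ≤ H)
    (ν : H →* ℂˣ) (hν : ∀ n : N, ν ⟨n, hNH n.2⟩ = l n) :
    ∃ δ : G →* ℂˣ, ∀ n : N, δ n = l n ^ H.index := by
  classical
  have : Fintype G := Fintype.ofFinite G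
  have hΨ : IsCharacter G (indFun H (fun h => (ν h : ℂ))) :=
    isCharacter_indFun H _ (Helper7.isCharacter_of_irr (Helper7.isIrrCharacter_of_hom ν))
  obtain ⟨δ, hδ⟩ := exists_hom_detChar hΨ
  refine ⟨δ, fun n => ?_⟩
  have h1 := detChar_comp N.subtype hΨ
  have h2 : indFun H (fun h => (ν h : ℂ)) ∘ N.subtype = fun n => (H.index : ℂ) * (l n : ℂ) := by
    funext n
    simp only [Function.comp_apply, Subgroup.subtype_apply]
    rw [indFun_apply]
    have h3 : ∀ x : G, extendByZero H (fun h => (ν h : ℂ)) (x⁻¹ * n * x) = (l n : ℂ) := by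
      intro x
      have hx : x⁻¹ * (n : G) * x ∈ N := by
        have := hN.conj_mem n n.2 x⁻¹
        simpa using this
      rw [extendByZero_mem _ _ (hNH hx)]
      have h4 := hν ⟨_, hx⟩
      simp only at h4
      rw [h4, ← hinv x⁻¹ n]
      congr 2
      apply Subtype.ext
      simp
    simp only [h3, Finset.sum_const, Finset.card_univ, nsmul_eq_mul]
    have h5 := H.card_mul_index
    have h6 : (Nat.card H : ℂ) ≠ 0 := by exact_mod_cast Nat.card_pos.ne'
    rw [← Nat.card_eq_fintype_card, ← h5]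
    push_cast
    field_simp
  rw [h2, detChar_nat_mul_linear] at h1
  have h7 := congrFun h1 n
  simp only [Function.comp_apply, Subgroup.subtype_apply, hδ] at h7
  apply Units.ext
  rw [← h7]
  simp

/-- Isaacs 6.26 for homomorphisms. -/
theorem exists_linear_extension [Finite G] (N : Subgroup G) [hN : N.Normal] (l : N →* ℂˣ)
    (hinv : ∀ (g : G) (n : N), l (MulAut.conjNormal g n) = l n) (o : ℕ) (ho : ∀ n, l n ^ o = 1)
    (hsyl : ∀ p : ℕ, p.Prime → p ∣ o → ∃ (H : Subgroup G) (hNH : N ≤ H) (ν : H →* ℂˣ),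
      Nat.Coprime H.index p ∧ ∀ n : N, ν ⟨n, hNH n.2⟩ = l n) :
    ∃ F : G →* ℂˣ, ∀ n : N, F n = l n := by
  let J : AddSubgroup ℤ :=
    { carrier := {k | ∃ F : G →* ℂˣ, ∀ n : N, F n = l n ^ k}
      zero_mem' := ⟨1, fun n => by simp⟩
      add_mem' := by
        rintro a b ⟨F, hF⟩ ⟨F', hF'⟩
        exact ⟨F * F', fun n => by rw [MonoidHom.mul_apply, hF, hF', zpow_add]⟩
      neg_mem' := by
        rintro a ⟨F, hF⟩
        exact ⟨F⁻¹, fun n => by rw [MonoidHom.inv_apply, hF, zpow_neg]⟩ }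
  have h1 : (1 : ℤ) ∈ J := by
    apply one_mem_of_forall_prime'
    intro p hp
    by_cases hpo : p ∣ o
    · obtain ⟨H, hNH, ν, hcop, hν⟩ := hsyl p hp hpo
      obtain ⟨δ, hδ⟩ := exists_hom_pow_index N l hinv H hNH ν hν
      refine ⟨H.index, ⟨δ, fun n => by rw [hδ, zpow_natCast]⟩, ?_⟩
      rw [Int.natCast_dvd_natCast]
      intro hdvd
      exact hp.one_lt.ne' (Nat.eq_one_of_dvd_coprimes hcop.symm dvd_rfl hdvd)
    · refine ⟨o, ⟨1, fun n => by rw [zpow_natCast, ho]; simp⟩, ?_⟩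
      rwa [Int.natCast_dvd_natCast]
  obtain ⟨F, hF⟩ := h1
  exact ⟨F, fun n => by rw [hF, zpow_one]⟩

theorem pow_index_mem_of_normal [Finite G] (N : Subgroup G) [N.Normal] (g : G) :
    g ^ N.index ∈ N := by
  rw [← QuotientGroup.eq_one_iff, QuotientGroup.mk_pow]
  exact pow_card_eq_one'

/-- Two extensions of the same linear character whose orders are coprime to the index agree. -/
theorem linear_extension_unique [Finite G] (N : Subgroup G) [hN : N.Normal] (F F' : G →* ℂˣ)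
    (h : ∀ n : N, F' n = F n) (o : ℕ) (ho : ∀ g, F g ^ o = 1) (ho' : ∀ g, F' g ^ o = 1)
    (hcop : Nat.Coprime N.index o) : F' = F := by
  ext g : 1
  have h1 : (F' g * (F g)⁻¹) ^ N.index = 1 := by
    rw [mul_pow, inv_pow, ← map_pow, ← map_pow]
    have := h ⟨g ^ N.index, pow_index_mem_of_normal N g⟩
    simp only at this
    rw [this, mul_inv_cancel]
  have h2 : (F' g * (F g)⁻¹) ^ o = 1 := by
    rw [mul_pow, inv_pow, ho, ho']
    simp
  have h3 := pow_gcd_eq_one.2 ⟨h1, h2⟩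
  rw [Nat.Coprime.gcd_eq_one hcop, pow_one] at h3
  exact mul_inv_eq_one.1 h3

/-- Isaacs 6.27 for homomorphisms. -/
theorem exists_coprime_linear_extension [Finite G] (N : Subgroup G) [hN : N.Normal] (l : N →* ℂˣ)
    (hinv : ∀ (g : G) (n : N), l (MulAut.conjNormal g n) = l n) (o : ℕ) (ho : ∀ n, l n ^ o = 1)
    (hcop : Nat.Coprime N.index o) :
    ∃ F : G →* ℂˣ, (∀ n : N, F n = l n) ∧ ∀ g, F g ^ o = 1 := by
  obtain ⟨s, t, hst⟩ : ∃ s t : ℤ, s * N.index + t * o = 1 := Nat.isCoprime_iff_coprime.2 hcop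
  obtain ⟨δ, hδ⟩ := exists_hom_pow_index N l hinv N le_rfl l (fun n => rfl)
  have hlz : ∀ (n : N) (j : ℤ), l n ^ (j * o) = 1 := by
    intro n j
    rw [mul_comm, zpow_mul, zpow_natCast, ho, one_zpow]
  have hl1 : ∀ n : N, l n ^ (s * N.index) = l n := by
    intro n
    have : s * (N.index : ℤ) = 1 - t * o := by linarith
    rw [this, zpow_sub, zpow_one, hlz]
    simp
  have hν : ∀ n : N, (δ ^ s) n = l n := by
    intro n
    rw [MonoidHom.zpow_apply, hδ, ← zpow_natCast, ← zpow_mul, mul_comm, hl1]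
  refine ⟨(δ ^ s) ^ (s * N.index), ?_, ?_⟩
  · intro n
    rw [MonoidHom.zpow_apply, hν, hl1]
  · intro g
    rw [MonoidHom.zpow_apply, ← zpow_natCast, ← zpow_mul]
    have h1 : s * (N.index : ℤ) * o = (N.index : ℤ) * (o * s) := by ring
    rw [h1, zpow_mul, zpow_natCast, ← map_pow]
    have h2 := hν ⟨g ^ N.index, pow_index_mem_of_normal N g⟩
    simp only at h2
    rw [h2, zpow_mul, zpow_natCast, ho, one_zpow]

end Cfsg.Agent.Lib.Helper25
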