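import Mathlib
import Cfsg.Agent.Lib.Helper25.DetChar
import Cfsg.Agent.Lib.Helper25.LinExt
import Cfsg.Agent.Lib.Helper25.Irr
import Cfsg.Agent.Lib.Helper25.Gallagher

set_option autoImplicit false

namespace Cfsg.Agent.Lib.Helper25

open Cfsg

universe u

variable {G : Type u} [Group G]

theorem isIrrCharacter_linear_mul (lam : G →* ℂˣ) {χ : G → ℂ} (h : IsIrrCharacter G χ) :
    IsIrrCharacter G (fun g => (lam g : ℂ) * χ g) := by
  obtain ⟨n, ρ, hirr, rfl⟩ := h
  let σ : Representation ℂ G (Fin n → ℂ) :=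
    { toFun := fun g => (lam g : ℂ) • ρ g
      map_one' := by simp
      map_mul' := by
        intro a b
        simp only [map_mul, Units.val_mul]
        rw [smul_mul_smul_comm] }
  have hσ : σ.character = fun g => (lam g : ℂ) * ρ.character g := by
    funext g
    show LinearMap.trace ℂ _ ((lam g : ℂ) • ρ g) = _
    rw [map_smul]
    rfl
  refine ⟨n, σ, ?_, hσ⟩
  rw [isIrreducible_iff] at hirr ⊢
  refine ⟨hirr.1, fun U hU => hirr.2 U (fun g v hv => ?_)⟩
  have h1 : σ g v ∈ U := hU g v hv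
  have h2 : σ g v = (lam g : ℂ) • ρ g v := rfl
  rw [h2] at h1
  have h3 := U.smul_mem ((lam g : ℂ)⁻¹) h1
  rwa [smul_smul, inv_mul_cancel₀ (Units.ne_zero _), one_smul] at h3

/-- Extensions of `θ` differ by linear characters of `G/N`. -/
theorem exists_linear_of_extensions [Finite G] (N : Subgroup G) [hN : N.Normal] {θ : N → ℂ}
    (hθ : IsIrrCharacter N θ) {χ χ' : G → ℂ} (hχ : IsIrrCharacter G χ)
    (hχ' : IsIrrCharacter G χ') (hext : ∀ n : N, χ n = θ n) (hext' : ∀ n : N, χ' n = θ n) :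
    ∃ b : G →* ℂˣ, (∀ n : N, b n = 1) ∧ χ' = fun g => (b g : ℂ) * χ g := by
  classical
  have : Fintype G := Fintype.ofFinite G
  have hχc := Helper7.isCharacter_of_irr hχ
  have hχ'c := Helper7.isCharacter_of_irr hχ'
  have hθinv : ∀ g : G, conjFun N θ g = θ := by
    intro g
    funext n
    rw [conjFun_apply, ← hext, ← hext]
    exact Helper7.isClassFunction_of_isCharacter hχc n g
  have h1N : IsIrrCharacter N (fun _ => (1 : ℂ)) := Helper7.isIrrCharacter_one
  have hmul : (fun _ : N => (1 : ℂ)) * θ = θ := by funext n; simp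
  obtain ⟨-, -, h3⟩ := gallagher_core N (φ := fun _ => (1 : ℂ)) (ϑ := θ) h1N
    (fun g => rfl) hθinv (by rw [hmul]; exact hθ) hχ hext
  have hne : classInner (indFun N ((fun _ : N => (1 : ℂ)) * θ)) χ' ≠ 0 := by
    rw [hmul, frobenius_reciprocity _ _ _ (Helper7.isClassFunction_of_isCharacter hχ'c)]
    have : (fun h : N => χ' h) = θ := funext hext'
    rw [this, Helper7.classInner_irr_self hθ]
    exact one_ne_zero
  obtain ⟨β, hβ, hβne, hβχ⟩ := h3 χ' hχ' hne
  have hβc := Helper7.isCharacter_of_irr hβ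
  have hβ1 : β 1 = 1 := by
    have h4 := congrFun hβχ 1
    rw [Pi.mul_apply] at h4
    have h5 : χ 1 = χ' 1 := by
      have a1 := hext 1
      have a2 := hext' 1
      simp only [OneMemClass.coe_one] at a1 a2
      rw [a1, a2]
    rw [← h5] at h4
    exact mul_right_cancel₀ (Helper7.irr_apply_one_ne_zero hχ) (by rw [h4, one_mul])
  obtain ⟨b, hb⟩ := Helper7.exists_hom_of_linear hβc hβ1
  refine ⟨b, ?_, ?_⟩
  · rw [frobenius_reciprocity _ _ _ (Helper7.isClassFunction_of_isCharacter hβc)] at hβne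
    have h6 : IsIrrCharacter N (fun n : N => β n) := by
      have : (fun n : N => β n) = fun n : N => ((b.comp N.subtype n : ℂˣ) : ℂ) := by
        funext n
        rw [hb]
        rfl
      rw [this]
      exact Helper7.isIrrCharacter_of_hom _
    have h7 : (fun _ : N => (1 : ℂ)) = fun n : N => β n := by
      by_contra hcon
      exact hβne (Helper7.classInner_irr_ne h1N h6 hcon)
    intro n
    apply Units.ext
    rw [← hb]
    exact (congrFun h7 n).symm
  · rw [← hβχ]
    funext g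
    rw [Pi.mul_apply, hb]

/-- Isaacs 6.24, uniqueness. -/
theorem extension_unique_of_det [Finite G] (N : Subgroup G) [hN : N.Normal] {θ : N → ℂ}
    (hθ : IsIrrCharacter N θ) {d : ℕ} (hd : θ 1 = d) (hcop : Nat.Coprime N.index d)
    {χ χ' : G → ℂ} (hχ : IsIrrCharacter G χ)
    (hχ' : IsIrrCharacter G χ') (hext : ∀ n : N, χ n = θ n) (hext' : ∀ n : N, χ' n = θ n)
    (hdet : detChar χ' = detChar χ) : χ' = χ := by
  obtain ⟨b, hbN, hb⟩ := exists_linear_of_extensions N hθ hχ hχ' hext hext'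
  have hχc := Helper7.isCharacter_of_irr hχ
  have hχ1 : χ 1 = d := by
    have := hext 1
    simp only [OneMemClass.coe_one] at this
    rw [this, hd]
  have h1 := detChar_linear_mul b hχc hχ1
  rw [← hb, hdet] at h1
  obtain ⟨δ, hδ⟩ := exists_hom_detChar hχc
  have h2 : ∀ g, b g ^ d = 1 := by
    intro g
    have h3 := congrFun h1 g
    simp only [hδ] at h3
    apply Units.ext
    have h4 : ((δ g : ℂˣ) : ℂ) ≠ 0 := Units.ne_zero _
    have h5 : ((b g : ℂˣ) : ℂ) ^ d * (δ g : ℂ) = 1 * (δ g : ℂ) := by rw [← h3, one_mul]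
    simpa using mul_right_cancel₀ h4 h5
  have h3 := linear_extension_unique N 1 b (fun n => by rw [hbN]; simp) d (fun g => by simp) h2 hcop
  rw [hb, h3]
  funext g
  simp

/-- Isaacs 6.24, existence. -/
theorem exists_extension_with_det [Finite G] (N : Subgroup G) [hN : N.Normal] {θ : N → ℂ}
    {d : ℕ} (hd : θ 1 = d) (hcop : Nat.Coprime N.index d)
    {η : G → ℂ} (hη : IsIrrCharacter G η) (hext : ∀ n : N, η n = θ n)
    (μ : G →* ℂˣ) (hμ : ∀ n : N, (μ n : ℂ) = detChar θ n) :
    ∃ χ : G → ℂ, IsIrrCharacter G χ ∧ (∀ n : N, χ n = θ n) ∧ detChar χ = fun g => (μ g : ℂ) := by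
  have hηc := Helper7.isCharacter_of_irr hη
  have hη1 : η 1 = d := by
    have := hext 1
    simp only [OneMemClass.coe_one] at this
    rw [this, hd]
  obtain ⟨δ, hδ⟩ := exists_hom_detChar hηc
  have hδN : ∀ n : N, δ n = μ n := by
    intro n
    apply Units.ext
    rw [← hδ, hμ]
    have h1 := detChar_comp N.subtype hηc
    have h2 : η ∘ N.subtype = θ := funext hext
    rw [h2] at h1
    rw [h1]
    rfl
  obtain ⟨s, t, hst⟩ : ∃ s t : ℤ, s * N.index + t * d = 1 := Nat.isCoprime_iff_coprime.2 hcop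
  let ν : G →* ℂˣ := μ * δ⁻¹
  have hνN : ∀ n : N, ν n = 1 := by
    intro n
    simp [ν, hδN]
  have hνk : ∀ g, ν g ^ N.index = 1 := by
    intro g
    rw [← map_pow]
    exact hνN ⟨g ^ N.index, pow_index_mem_of_normal N g⟩
  have hβd : ∀ g, ((ν ^ t) g) ^ d = ν g := by
    intro g
    rw [MonoidHom.zpow_apply, ← zpow_natCast, ← zpow_mul]
    have : t * (d : ℤ) = 1 - (N.index : ℤ) * s := by linarith
    rw [this, zpow_sub, zpow_one, zpow_mul, zpow_natCast, hνk]
    simp
  refine ⟨fun g => ((ν ^ t) g : ℂ) * η g, isIrrCharacter_linear_mul _ hη, ?_, ?_⟩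
  · intro n
    show (((ν ^ t) (n : G) : ℂˣ) : ℂ) * η n = θ n
    rw [MonoidHom.zpow_apply, hνN, hext]
    simp
  · rw [detChar_linear_mul _ hηc hη1]
    funext g
    rw [← Units.val_pow_eq_pow_val, hβd, hδ]
    simp [ν]

end Cfsg.Agent.Lib.Helper25
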