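import Mathlib
import Cfsg.Agent.Lib.Helper2.CharGal
import Cfsg.Agent.Lib.Helper2.CharDeg
import Cfsg.Agent.Lib.Helper11.GalChar

set_option autoImplicit false

namespace Cfsg.Agent.Lib.Helper25

open Cfsg
open Cfsg.Agent.Lib.Helper2

variable {G : Type*} [Group G]

/-- AM-GM over the Galois conjugates of a nonzero character value. -/
theorem card_embeddings_le_sum [Finite G] {χ : G → ℂ} (hχ : IsCharacter G χ) (g : G)
    (h0 : χ g ≠ 0) (z : cycField (Nat.card G)) (hz : (z : ℂ) = χ g)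
    [Fintype (cycField (Nat.card G) →ₐ[ℚ] ℂ)] :
    (Fintype.card (cycField (Nat.card G) →ₐ[ℚ] ℂ) : ℝ) ≤
      ∑ σ : cycField (Nat.card G) →ₐ[ℚ] ℂ, ‖σ z‖ ^ 2 := by
  classical
  have hfd := finiteDimensional_cycField (Nat.card G) Nat.card_pos.ne'
  have hz0 : z ≠ 0 := by
    intro h
    apply h0
    rw [← hz, h]; rfl
  have hzint : IsIntegral ℤ z := by
    have : IsIntegral ℤ (algebraMap (cycField (Nat.card G)) ℂ z) := by
      obtain ⟨n, ρ, rfl⟩ := hχ
      have := isIntegral_char ρ g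
      rw [← hz] at this
      exact this
    exact (isIntegral_algebraMap_iff (algebraMap (cycField (Nat.card G)) ℂ).injective).1 this
  set d := Fintype.card (cycField (Nat.card G) →ₐ[ℚ] ℂ) with hd
  have hdpos : 0 < d := Fintype.card_pos_iff.2 ⟨(cycField (Nat.card G)).val⟩
  have hdR : (0 : ℝ) < d := by exact_mod_cast hdpos
  have h1 := one_le_prod_norm_embeddings (cycField (Nat.card G)) z hzint hz0
  have h1' : 1 ≤ ∏ σ : cycField (Nat.card G) →ₐ[ℚ] ℂ, ‖σ z‖ := by convert h1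
  have h2 := Real.geom_mean_le_arith_mean_weighted Finset.univ
    (fun _ : cycField (Nat.card G) →ₐ[ℚ] ℂ => (1 / d : ℝ)) (fun σ => ‖σ z‖ ^ 2)
    (fun _ _ => by positivity) (by
      rw [Finset.sum_const, Finset.card_univ, nsmul_eq_mul, ← hd]
      field_simp) (fun _ _ => by positivity)
  rw [Real.finsetProd_rpow _ _ (fun _ _ => by positivity), Finset.prod_pow,
    ← Finset.mul_sum] at h2
  have h3 : (1 : ℝ) ≤ ((∏ σ : cycField (Nat.card G) →ₐ[ℚ] ℂ, ‖σ z‖) ^ 2) ^ (1 / d : ℝ) := by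
    apply Real.one_le_rpow _ (by positivity)
    exact one_le_pow₀ h1'
  have h4 := h3.trans h2
  rw [one_div, inv_mul_eq_div, le_div_iff₀ hdR, one_mul] at h4
  exact h4

/-- If `S` is closed under coprime powers and `χ` has no zero on `S`, then
`|S| ≤ ∑_{g ∈ S} |χ g|²`. -/
theorem card_le_sum_norm_sq [Finite G] {χ : G → ℂ} (hχ : IsCharacter G χ) (S : Finset G)
    (hS : ∀ g ∈ S, ∀ m : ℕ, m.Coprime (Nat.card G) → g ^ m ∈ S) (h0 : ∀ g ∈ S, χ g ≠ 0) :
    (S.card : ℝ) ≤ ∑ g ∈ S, ‖χ g‖ ^ 2 := by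
  classical
  have hfd := finiteDimensional_cycField (Nat.card G) Nat.card_pos.ne'
  set K := cycField (Nat.card G) with hK
  let x : G → K := fun g => ⟨χ g, char_mem_cycField hχ g⟩
  set d := Fintype.card (K →ₐ[ℚ] ℂ) with hd
  have hdpos : 0 < d := Fintype.card_pos_iff.2 ⟨K.val⟩
  have hdR : (0 : ℝ) < d := by exact_mod_cast hdpos
  have hsumσ : ∀ σ : K →ₐ[ℚ] ℂ, ∑ g ∈ S, ‖σ (x g)‖ ^ 2 = ∑ g ∈ S, ‖χ g‖ ^ 2 := by
    intro σ
    obtain ⟨m, hm, hσ⟩ := embedding_char σ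
    have h1 : ∀ g, σ (x g) = χ (g ^ m) := fun g => hσ _ hχ g (x g) rfl
    simp only [h1]
    have hinj : Function.Injective (fun g : G => g ^ m) := (powCoprime hm.symm).injective
    have himg : S.image (fun g : G => g ^ m) = S := by
      apply Finset.eq_of_subset_of_card_le
      · intro y hy
        obtain ⟨g, hg, rfl⟩ := Finset.mem_image.1 hy
        exact hS g hg m hm
      · rw [Finset.card_image_of_injective _ hinj]
    conv_rhs => rw [← himg]
    rw [Finset.sum_image (fun a _ b _ hab => hinj hab)]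
  have hg : ∀ g ∈ S, (d : ℝ) ≤ ∑ σ : K →ₐ[ℚ] ℂ, ‖σ (x g)‖ ^ 2 := fun g hgS =>
    card_embeddings_le_sum hχ g (h0 g hgS) (x g) rfl
  have htot : ∑ g ∈ S, ∑ σ : K →ₐ[ℚ] ℂ, ‖σ (x g)‖ ^ 2 = (d : ℝ) * ∑ g ∈ S, ‖χ g‖ ^ 2 := by
    rw [Finset.sum_comm]
    simp only [hsumσ, Finset.sum_const, Finset.card_univ, nsmul_eq_mul, ← hd]
  have h5 : (S.card : ℝ) * d ≤ ∑ g ∈ S, ∑ σ : K →ₐ[ℚ] ℂ, ‖σ (x g)‖ ^ 2 := by
    rw [← nsmul_eq_mul, ← Finset.sum_const]
    exact Finset.sum_le_sum hg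
  rw [htot, mul_comm] at h5
  exact le_of_mul_le_mul_left h5 hdR

/-- a coprime power has the element as a power. -/
theorem exists_pow_pow_eq [Finite G] (g : G) {m : ℕ} (hm : m.Coprime (Nat.card G)) :
    ∃ k : ℕ, k.Coprime (Nat.card G) ∧ (g ^ m) ^ k = g := by
  have hpos : 0 < Nat.card G := Nat.card_pos
  rcases Nat.lt_or_ge 1 (Nat.card G) with h1 | h1
  · obtain ⟨k, hk⟩ := Nat.exists_mul_mod_eq_one_of_coprime hm h1
    refine ⟨k, ?_, ?_⟩
    · have : (m * k).Coprime (Nat.card G) := by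
        rw [Nat.Coprime, Nat.gcd_comm, Nat.gcd_rec, hk.2]
        simp
      exact Nat.Coprime.coprime_mul_left this
    · rw [← pow_mul, ← pow_mod_natCard, hk.2, pow_one]
  · have : Nat.card G = 1 := le_antisymm h1 hpos
    have hsub : Subsingleton G := (Nat.card_eq_one_iff_unique.1 this).1
    exact ⟨1, by simp, Subsingleton.elim _ _⟩

theorem char_pow_eq_zero_iff [Finite G] {χ : G → ℂ} (hχ : IsCharacter G χ) (g : G) {m : ℕ}
    (hm : m.Coprime (Nat.card G)) : χ (g ^ m) = 0 ↔ χ g = 0 := by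
  obtain ⟨σ, hσ⟩ := Cfsg.Agent.Lib.Helper11.exists_embedding_pow (N := Nat.card G)
    Nat.card_pos.ne' hm
  have h := Cfsg.Agent.Lib.Helper11.embedding_char_pow σ hσ hχ g ⟨χ g, char_mem_cycField hχ g⟩ rfl
  rw [← h, map_eq_zero]
  constructor
  · intro h0
    exact congrArg Subtype.val h0
  · intro h0
    exact Subtype.ext h0

theorem sum_norm_sq_eq_card [Fintype G] {χ : G → ℂ} (hχ : IsIrrCharacter G χ) :
    ∑ g : G, ‖χ g‖ ^ 2 = (Nat.card G : ℝ) := by
  have h := sum_char_mul_conj hχ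
  simp only [Complex.mul_conj, Complex.normSq_eq_norm_sq] at h
  exact_mod_cast h

end Cfsg.Agent.Lib.Helper25
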