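import Mathlib
import Cfsg.Agent.Lib.Helper25.Gallagher
import Cfsg.Agent.Lib.Helper25.Kernel2
import Cfsg.Agent.Lib.Helper25.GalSum
import Cfsg.Agent.Lib.Helper25.DetExt
import Cfsg.Agent.Lib.Helper25.CliffordCorr
import Cfsg.Agent.Lib.Helper2.CharKer

set_option autoImplicit false

namespace Cfsg.Agent.Lib.Helper25

open Cfsg
open scoped ComplexConjugate

universe u

variable {X : Type u} [Group X]

theorem norm_eq_degree_of_comm_mod_ker [Finite X] {φ : X → ℂ} (hφ : IsIrrCharacter X φ) (d : X)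
    (h : ∀ c : X, φ (d * c * d⁻¹ * c⁻¹) = φ 1) : ‖φ d‖ = ‖φ 1‖ := by
  obtain ⟨n, ρ, hρ, rfl⟩ := hφ
  have hcomm : ∀ c : X, ρ d ∘ₗ ρ c = ρ c ∘ₗ ρ d := by
    intro c
    have h1 := h c
    rw [Representation.char_one] at h1
    have h2 := (Helper2.char_eq_finrank_iff ρ _).1 h1
    have h3 : ρ (d * c) = ρ (d * c * d⁻¹ * c⁻¹) * ρ (c * d) := by
      rw [← map_mul]; congr 1; group
    rw [h2, map_mul, map_mul] at h3
    exact h3
  obtain ⟨ω, hω⟩ := Helper2.schur ρ (ρ d) hcomm
  rw [(Helper2.norm_char_eq_iff ρ d).2 ⟨ω, hω⟩, Representation.char_one]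
  simp

theorem degree_sq_mul_card_le [Finite X] {φ : X → ℂ} (hφ : IsIrrCharacter X φ) (D : Subgroup X)
    (h : ∀ d ∈ D, ∀ c : X, φ (d * c * d⁻¹ * c⁻¹) = φ 1) :
    ‖φ 1‖ ^ 2 * (Nat.card D : ℝ) ≤ (Nat.card X : ℝ) := by
  classical
  cases nonempty_fintype X
  rw [← sum_norm_sq_eq_card hφ]
  have h1 : ∑ x ∈ Finset.univ.filter (· ∈ D), ‖φ x‖ ^ 2 ≤ ∑ x : X, ‖φ x‖ ^ 2 :=
    Finset.sum_le_sum_of_subset_of_nonneg (Finset.filter_subset _ _) (fun _ _ _ => by positivity)
  refine le_trans (le_of_eq ?_) h1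
  rw [Finset.sum_congr rfl (fun x hx => by
    rw [norm_eq_degree_of_comm_mod_ker hφ x (h x (Finset.mem_filter.1 hx).2)]),
    Finset.sum_const, nsmul_eq_mul, mul_comm]
  congr 2
  rw [Nat.card_eq_fintype_card, Fintype.card_subtype]

theorem linear_of_abelian_mod_ker [Finite X] {φ : X → ℂ} (hφ : IsIrrCharacter X φ)
    (h : ∀ x y : X, φ (x * y * x⁻¹ * y⁻¹) = φ 1) : φ 1 = 1 := by
  have h1 := degree_sq_mul_card_le hφ ⊤ (fun d _ c => h d c)
  obtain ⟨n, hn0, hn⟩ := Helper7.irr_apply_one hφ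
  rw [hn, Subgroup.card_top] at h1
  have hc : (0 : ℝ) < Nat.card X := by exact_mod_cast Nat.card_pos
  have h2 : ‖(n : ℂ)‖ ^ 2 ≤ 1 := by
    by_contra hcon
    push Not at hcon
    nlinarith
  rw [Complex.norm_natCast] at h2
  have h3 : (n : ℝ) ≤ 1 := by
    by_contra hcon
    push Not at hcon
    nlinarith
  have h4 : n ≤ 1 := by exact_mod_cast h3
  have : n = 1 := by omega
  rw [hn, this, Nat.cast_one]

theorem ker_of_constituent_indFun_one [Fintype X] (N : Subgroup X) [hN : N.Normal] {β : X → ℂ}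
    (hβ : IsIrrCharacter X β) (h : classInner (indFun N (fun _ => 1)) β ≠ 0) :
    ∀ n ∈ N, β n = β 1 := by
  classical
  have hcfβ := Helper7.isClassFunction_of_isCharacter (Helper7.isCharacter_of_irr hβ)
  rw [frobenius_reciprocity N _ β hcfβ] at h
  have h1 := avg_normal N hβ 1
  simp only [mul_one] at h1
  have h2 : classInner (fun _ : N => (1 : ℂ)) (fun h : N => β h)
      = conj ((Nat.card N : ℂ)⁻¹ * ∑ n : N, β (n : X)) := by
    unfold classInner
    simp [map_sum]
  rw [h2, h1] at h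
  by_contra hcon
  rw [if_neg hcon] at h
  exact h (map_zero _)

/-- Over an invariant character with abelian quotient, any two irreducible characters differ by a
linear character. -/
theorem exists_linear_mul_of_abelian_quotient [Fintype X] (N : Subgroup X) [hN : N.Normal] [Fintype N]
    (hab : ∀ x y : X, x * y * x⁻¹ * y⁻¹ ∈ N) {θ : N → ℂ} (hθ : IsIrrCharacter N θ)
    (hinv : ∀ g : X, conjFun N θ g = θ) {ψ ψ' : X → ℂ} (hψ : IsIrrCharacter X ψ)
    (hψ' : IsIrrCharacter X ψ') (h : classInner (fun n : N => ψ n) θ ≠ 0)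
    (h' : classInner (fun n : N => ψ' n) θ ≠ 0) :
    ∃ f : X →* ℂˣ, ψ = fun x => (f x : ℂ) * ψ' x := by
  classical
  have : Fintype (IrrCharacter X) := Fintype.ofFinite _
  have hcfψ := Helper7.isClassFunction_of_isCharacter (Helper7.isCharacter_of_irr hψ)
  have hcfψ' := Helper7.isClassFunction_of_isCharacter (Helper7.isCharacter_of_irr hψ')
  have h1 := indFun_mul_restrict N (fun _ => 1) hcfψ'
  have r := restrict_eq_smul_of_invariant N hψ hθ h hinv
  have r' := restrict_eq_smul_of_invariant N hψ' hθ h' hinv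
  have h2 : classInner (indFun N ((fun _ => 1) * fun n : N => ψ' n)) ψ ≠ 0 := by
    rw [frobenius_reciprocity N _ ψ hcfψ]
    have : ((fun _ => 1 : N → ℂ) * fun n : N => ψ' n) = fun n : N => ψ' n := by
      funext n; simp
    rw [this, r, r', classInner_smul_left, classInner_smul_right, Helper7.classInner_irr_self hθ]
    simp only [mul_one]
    exact mul_ne_zero h' ((map_ne_zero _).2 h)
  rw [h1] at h2
  obtain ⟨m, hm, hsum⟩ := Helper7.character_eq_sum_nat
    (isCharacter_indFun N (fun _ => 1) (Helper7.isCharacter_of_irr Helper7.isIrrCharacter_one))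
  have h3 : classInner (indFun N (fun _ => 1) * ψ') ψ
      = ∑ β : IrrCharacter X, (m β : ℂ) * classInner ((β : X → ℂ) * ψ') ψ := by
    conv_lhs => rw [hsum]
    rw [Finset.sum_mul, classInner_sum_left]
    apply Finset.sum_congr rfl
    intro β _
    rw [smul_mul_assoc, ← Nat.cast_smul_eq_nsmul ℂ, classInner_smul_left]
  rw [h3] at h2
  obtain ⟨β, -, hβ⟩ := Finset.exists_ne_zero_of_sum_ne_zero h2
  obtain ⟨hβ1, hβ2⟩ := mul_ne_zero_iff.1 hβ
  have hker := ker_of_constituent_indFun_one N β.2 (by rw [hm]; exact hβ1)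
  have hlin := linear_of_abelian_mod_ker β.2 (fun x y => hker _ (hab x y))
  obtain ⟨f, hf⟩ := Helper7.exists_hom_of_linear (Helper7.isCharacter_of_irr β.2) hlin
  refine ⟨f, ?_⟩
  have hirr := isIrrCharacter_linear_mul f hψ'
  have heq : ((β : X → ℂ) * ψ') = fun x => (f x : ℂ) * ψ' x := by
    funext x
    rw [Pi.mul_apply, hf]
  rw [heq, Helper7.classInner_irr hirr hψ] at hβ2
  by_contra hne
  rw [if_neg (fun h => hne h.symm)] at hβ2
  exact hβ2 rfl

end Cfsg.Agent.Lib.Helper25
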