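import Mathlib

set_option autoImplicit false

namespace Cfsg.Agent.Lib.Helper25

/-- If `M` implements conjugation by `g₀` then `M ^ i` implements conjugation by `g₀ ^ i`. -/
theorem conj_zpow_hom {G A : Type*} [Group G] [Group A] (N : Subgroup G) [hN : N.Normal] (g₀ : G)
    (f : N →* A) (M : A)
    (h1 : ∀ n : N, M * f n * M⁻¹ = f (MulAut.conjNormal g₀ n)) (i : ℤ) (n : N) :
    M ^ i * f n * (M ^ i)⁻¹ = f (MulAut.conjNormal (g₀ ^ i) n) := by
  let S : Subgroup (G × A) :=
    { carrier := {x | ∀ n : N, x.2 * f n * x.2⁻¹ = f (MulAut.conjNormal x.1 n)}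
      one_mem' := by
        intro n
        simp
      mul_mem' := by
        intro x y hx hy n
        have h2 := hy n
        have h3 := hx (MulAut.conjNormal y.1 n)
        simp only [Prod.snd_mul, Prod.fst_mul, map_mul, MulAut.mul_apply]
        rw [← h3, ← h2]
        group
      inv_mem' := by
        intro x hx n
        have h3 := hx (MulAut.conjNormal x.1⁻¹ n)
        have h4 : MulAut.conjNormal x.1 (MulAut.conjNormal x.1⁻¹ n) = n := by
          rw [← MulAut.mul_apply, ← map_mul]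
          simp
        rw [h4] at h3
        simp only [Prod.snd_inv, Prod.fst_inv, inv_inv]
        rw [← h3]
        group }
  have hmem : (g₀, M) ∈ S := h1
  have := S.zpow_mem hmem i
  exact this n

theorem exists_hom_extension_cyclic {G A : Type*} [Group G] [Group A] (N : Subgroup G)
    [hN : N.Normal] (g₀ : G) (hgen : ∀ g : G, ∃ i : ℤ, g * g₀ ^ i ∈ N)
    (f : N →* A) (M : A)
    (h1 : ∀ n : N, M * f n * M⁻¹ = f (MulAut.conjNormal g₀ n))
    (h2 : ∀ (i : ℤ) (h : g₀ ^ i ∈ N), f ⟨g₀ ^ i, h⟩ = M ^ i) :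
    ∃ F : G →* A, (∀ n : N, F n = f n) ∧ F g₀ = M := by
  let φ : Multiplicative ℤ →* MulAut N := zpowersHom (MulAut N) (MulAut.conjNormal g₀)
  let fg : Multiplicative ℤ →* A := zpowersHom A M
  let pg : Multiplicative ℤ →* G := zpowersHom G g₀
  have hφ : ∀ z : Multiplicative ℤ, φ z = MulAut.conjNormal (g₀ ^ z.toAdd) := by
    intro z
    simp only [φ, zpowersHom_apply, map_zpow]
  have hA : ∀ z, f.comp (φ z).toMonoidHom = (MulAut.conj (fg z)).toMonoidHom.comp f := by
    intro z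
    ext n
    simp only [MonoidHom.comp_apply, MulEquiv.coe_toMonoidHom, MulAut.conj_apply, hφ]
    rw [← conj_zpow_hom N g₀ f M h1]
    simp [fg, zpowersHom_apply]
  have hG : ∀ z, N.subtype.comp (φ z).toMonoidHom =
      (MulAut.conj (pg z)).toMonoidHom.comp N.subtype := by
    intro z
    ext n
    simp only [MonoidHom.comp_apply, MulEquiv.coe_toMonoidHom, MulAut.conj_apply, hφ,
      Subgroup.subtype_apply, MulAut.conjNormal_apply]
    simp [pg, zpowersHom_apply]
  let π : N ⋊[φ] Multiplicative ℤ →* G := SemidirectProduct.lift N.subtype pg hG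
  let Φ : N ⋊[φ] Multiplicative ℤ →* A := SemidirectProduct.lift f fg hA
  have hπ : ∀ x : N ⋊[φ] Multiplicative ℤ, π x = x.1 * g₀ ^ x.2.toAdd := by
    intro x
    simp [π, SemidirectProduct.lift, pg, zpowersHom_apply]
  have hΦ : ∀ x : N ⋊[φ] Multiplicative ℤ, Φ x = f x.1 * M ^ x.2.toAdd := by
    intro x
    simp [Φ, SemidirectProduct.lift, fg, zpowersHom_apply]
  have hsurj : Function.Surjective π := by
    intro g
    obtain ⟨i, hi⟩ := hgen g
    refine ⟨⟨⟨g * g₀ ^ i, hi⟩, Multiplicative.ofAdd (-i)⟩, ?_⟩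
    rw [hπ]
    simp
  have hker : π.ker ≤ Φ.ker := by
    intro x hx
    rw [MonoidHom.mem_ker] at hx ⊢
    rw [hπ] at hx
    rw [hΦ]
    have h3 : g₀ ^ x.2.toAdd = ((x.1⁻¹ : N) : G) := by
      rw [Subgroup.coe_inv]
      exact eq_inv_of_mul_eq_one_right hx
    have h4 : g₀ ^ x.2.toAdd ∈ N := by rw [h3]; exact (x.1⁻¹).2
    rw [← h2 _ h4, ← map_mul]
    have : x.1 * ⟨g₀ ^ x.2.toAdd, h4⟩ = 1 := Subtype.ext hx
    rw [this, map_one]
  refine ⟨π.liftOfSurjective hsurj ⟨Φ, hker⟩, ?_, ?_⟩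
  · intro n
    have h3 : (n : G) = π (SemidirectProduct.inl n) := by simp [π]
    rw [h3]
    rw [MonoidHom.liftOfRightInverse_comp_apply]
    simp [Φ]
  · have h3 : g₀ = π (SemidirectProduct.inr (Multiplicative.ofAdd 1)) := by
      simp [π, pg, zpowersHom_apply]
    conv_lhs => rw [h3]
    rw [MonoidHom.liftOfRightInverse_comp_apply]
    simp [Φ, fg, zpowersHom_apply]

end Cfsg.Agent.Lib.Helper25
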