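import Mathlib
import Cfsg.Agent.Lib.Helper25.CycExt
import Cfsg.Agent.Lib.Helper25.Monomial
import Cfsg.Agent.Lib.Helper2.CharEquiv
import Cfsg.Agent.Lib.Helper2.CharInner

set_option autoImplicit false

namespace Cfsg.Agent.Lib.Helper25

open Cfsg

universe u

/-- Isaacs 11.22: invariant irreducible characters extend over cyclic quotients. -/
theorem exists_extension_of_cyclic_quotient {G : Type u} [Group G] [Finite G] (N : Subgroup G)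
    [hN : N.Normal] (hcyc : IsCyclic (G ⧸ N)) (ϑ : N → ℂ) (hϑ : IsIrrCharacter N ϑ)
    (hinv : ∀ (g : G) (n : N), ϑ (MulAut.conjNormal g n) = ϑ n) :
    ∃ χ : G → ℂ, IsIrrCharacter G χ ∧ ∀ n : N, χ n = ϑ n := by
  classical
  obtain ⟨d, ρ, hirr, hρ⟩ := hϑ
  obtain ⟨q, hq⟩ := hcyc.exists_generator
  obtain ⟨g₀, rfl⟩ := QuotientGroup.mk_surjective q
  have hgen : ∀ g : G, ∃ i : ℤ, g * g₀ ^ i ∈ N := by
    intro g
    obtain ⟨j, hj⟩ := Subgroup.mem_zpowers_iff.1 (hq (g : G ⧸ N))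
    refine ⟨-j, ?_⟩
    rw [← QuotientGroup.eq_one_iff, QuotientGroup.mk_mul, QuotientGroup.mk_zpow, ← hj]
    simp
  -- the conjugate representation
  let ρ' : Representation ℂ N (Fin d → ℂ) := ρ.comp (MulAut.conjNormal g₀ : MulAut N).toMonoidHom
  have hchar : ρ.character = ρ'.character := by
    funext n
    have h1 : ρ'.character n = ρ.character (MulAut.conjNormal g₀ n) := rfl
    rw [h1, hρ, hinv]
  obtain ⟨e⟩ := Helper2.equiv_of_char_eq ρ ρ' hchar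
  obtain ⟨E, he⟩ : ∃ E : (Fin d → ℂ) ≃ₗ[ℂ] (Fin d → ℂ), ∀ n : N, E.toLinearMap ∘ₗ ρ n =
      ρ (MulAut.conjNormal g₀ n) ∘ₗ E.toLinearMap := ⟨e.toLinearEquiv, fun n => e.1.2 n⟩
  let f : N →* ((Fin d → ℂ) →ₗ[ℂ] (Fin d → ℂ))ˣ := ρ.asGroupHom
  let M₀ : ((Fin d → ℂ) →ₗ[ℂ] (Fin d → ℂ))ˣ :=
    ⟨E.toLinearMap, E.symm.toLinearMap, E.comp_symm, E.symm_comp⟩
  have hM₀ : ∀ n : N, M₀ * f n * M₀⁻¹ = f (MulAut.conjNormal g₀ n) := by
    intro n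
    rw [mul_inv_eq_iff_eq_mul]
    apply Units.ext
    simp only [Units.val_mul, f, Representation.asGroupHom_apply]
    exact he n
  set m := orderOf (g₀ : G ⧸ N) with hm
  have hmpos : 0 < m := orderOf_pos _
  have hmem : ∀ i : ℤ, g₀ ^ i ∈ N ↔ (m : ℤ) ∣ i := by
    intro i
    rw [← QuotientGroup.eq_one_iff, QuotientGroup.mk_zpow, orderOf_dvd_iff_zpow_eq_one]
  have ha : g₀ ^ (m : ℤ) ∈ N := (hmem m).2 dvd_rfl
  let a : N := ⟨g₀ ^ (m : ℤ), ha⟩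
  let T := (f a)⁻¹ * M₀ ^ (m : ℤ)
  have hTcomm : ∀ n : N, T * f n = f n * T := by
    intro n
    have h1 := conj_zpow_hom N g₀ f M₀ hM₀ m n
    have h2 : MulAut.conjNormal (g₀ ^ (m : ℤ)) n = a * n * a⁻¹ := by
      apply Subtype.ext
      rw [MulAut.conjNormal_apply]
      rfl
    rw [h2, map_mul, map_mul, map_inv] at h1
    simp only [T]
    calc (f a)⁻¹ * M₀ ^ (m : ℤ) * f n
        = (f a)⁻¹ * (M₀ ^ (m : ℤ) * f n * (M₀ ^ (m : ℤ))⁻¹) * M₀ ^ (m : ℤ) := by group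
      _ = (f a)⁻¹ * (f a * f n * (f a)⁻¹) * M₀ ^ (m : ℤ) := by rw [h1]
      _ = f n * ((f a)⁻¹ * M₀ ^ (m : ℤ)) := by group
  obtain ⟨c, hc⟩ := Helper2.schur ρ (T : (Fin d → ℂ) →ₗ[ℂ] (Fin d → ℂ)) (by
    intro n
    have := congrArg Units.val (hTcomm n)
    simp only [Units.val_mul, f, Representation.asGroupHom_apply] at this
    exact this)
  have hnt := Helper2.nontrivial_of_irr ρ
  have hc0 : c ≠ 0 := by
    rintro rfl
    rw [zero_smul] at hc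
    have h1 : (T : (Fin d → ℂ) →ₗ[ℂ] (Fin d → ℂ)) * (T⁻¹ : _ˣ) = 1 := by
      rw [← Units.val_mul, mul_inv_cancel]; rfl
    rw [hc, zero_mul] at h1
    exact zero_ne_one h1
  obtain ⟨c', hc'⟩ := IsAlgClosed.exists_pow_nat_eq c hmpos
  have hc'0 : c' ≠ 0 := by
    rintro rfl
    rw [zero_pow hmpos.ne'] at hc'
    exact hc0 hc'.symm
  let s : ((Fin d → ℂ) →ₗ[ℂ] (Fin d → ℂ))ˣ :=
    Units.map (algebraMap ℂ ((Fin d → ℂ) →ₗ[ℂ] (Fin d → ℂ))).toMonoidHom (Units.mk0 c' hc'0)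
  have hscomm : ∀ x : ((Fin d → ℂ) →ₗ[ℂ] (Fin d → ℂ))ˣ, s * x = x * s := by
    intro x
    apply Units.ext
    simp only [Units.val_mul, s, Units.coe_map, Units.val_mk0]
    exact Algebra.commutes c' (x : (Fin d → ℂ) →ₗ[ℂ] (Fin d → ℂ))
  have hsT : s ^ (m : ℤ) = T := by
    apply Units.ext
    rw [zpow_natCast, Units.val_pow_eq_pow_val, hc]
    simp only [s, Units.coe_map, Units.val_mk0]
    show (algebraMap ℂ ((Fin d → ℂ) →ₗ[ℂ] (Fin d → ℂ)) c') ^ m = _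
    rw [← map_pow, hc', Algebra.algebraMap_eq_smul_one]
    rfl
  let M := s⁻¹ * M₀
  have hsinv : ∀ x : ((Fin d → ℂ) →ₗ[ℂ] (Fin d → ℂ))ˣ, s⁻¹ * x = x * s⁻¹ := by
    intro x
    rw [inv_mul_eq_iff_eq_mul, ← mul_assoc, hscomm, mul_assoc, mul_inv_cancel, mul_one]
  have hM1 : ∀ n : N, M * f n * M⁻¹ = f (MulAut.conjNormal g₀ n) := by
    intro n
    rw [← hM₀ n]
    simp only [M, mul_inv_rev, inv_inv]
    calc s⁻¹ * M₀ * f n * (M₀⁻¹ * s) = s⁻¹ * (M₀ * f n * M₀⁻¹) * s := by group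
      _ = (M₀ * f n * M₀⁻¹) * s⁻¹ * s := by rw [hsinv]
      _ = _ := by group
  have hMm : M ^ (m : ℤ) = f a := by
    have hcm : Commute s⁻¹ M₀ := hsinv M₀
    simp only [M]
    rw [hcm.mul_zpow, inv_zpow, hsT, inv_mul_eq_iff_eq_mul, hTcomm a]
    simp only [T]
    group
  have hM2 : ∀ (i : ℤ) (h : g₀ ^ i ∈ N), f ⟨g₀ ^ i, h⟩ = M ^ i := by
    intro i h
    obtain ⟨t, rfl⟩ := (hmem i).1 h
    have h3 : (⟨g₀ ^ ((m : ℤ) * t), h⟩ : N) = a ^ t := by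
      apply Subtype.ext
      simp [a, zpow_mul]
    rw [h3, map_zpow, ← hMm, ← zpow_mul]
  obtain ⟨F, hF, -⟩ := exists_hom_extension_cyclic N g₀ hgen f M hM1 hM2
  let ρh : Representation ℂ G (Fin d → ℂ) :=
    (Units.coeHom ((Fin d → ℂ) →ₗ[ℂ] (Fin d → ℂ))).comp F
  have hres : ∀ n : N, ρh n = ρ n := by
    intro n
    show ((F n : _ˣ) : (Fin d → ℂ) →ₗ[ℂ] (Fin d → ℂ)) = ρ n
    rw [hF n]
    exact Representation.asGroupHom_apply ρ n
  have hcomp : (ρh.comp N.subtype : Representation ℂ N (Fin d → ℂ)) = ρ := by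
    ext n : 1
    exact hres n
  have hirr' : ρh.IsIrreducible := isIrreducible_of_comp ρh N.subtype (by rw [hcomp]; exact hirr)
  refine ⟨ρh.character, ⟨d, ρh, hirr', rfl⟩, ?_⟩
  intro n
  rw [← hρ]
  show LinearMap.trace ℂ _ (ρh n) = LinearMap.trace ℂ _ (ρ n)
  rw [hres]

end Cfsg.Agent.Lib.Helper25
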