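import Mathlib
import Cfsg.Agent.Lib.Helper25.DetExt
import Cfsg.Agent.Lib.Helper25.CycExt2
import Cfsg.Agent.Lib.Helper1.Wielandt

set_option autoImplicit false

namespace Cfsg.Agent.Lib.Helper25

open Cfsg

universe u

theorem isSolvable_quotient_subgroupOf {G : Type u} [Group G] (N M : Subgroup G) [N.Normal]
    [Group.IsSolvable (G ⧸ N)] : Group.IsSolvable (M ⧸ N.subgroupOf M) := by
  let f : M ⧸ N.subgroupOf M →* G ⧸ N :=
    QuotientGroup.map (N.subgroupOf M) N M.subtype (fun x hx => hx)
  apply solvable_of_solvable_injective (f := f)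
  rw [injective_iff_map_eq_one]
  intro x
  induction x using QuotientGroup.induction_on with
  | H m =>
    intro h
    have h1 : ((m : G) : G ⧸ N) = 1 := h
    rw [QuotientGroup.eq_one_iff] at h1 ⊢
    exact h1

/-- Isaacs 6.25. -/
theorem exists_extension_of_det_solvable_aux : ∀ (k : ℕ) (G : Type u) [Group G] [Finite G]
    (N : Subgroup G) [hN : N.Normal], N.index = k → Group.IsSolvable (G ⧸ N) →
    ∀ (θ : N → ℂ), IsIrrCharacter N θ → (∀ (g : G) (n : N), θ (MulAut.conjNormal g n) = θ n) →
    ∀ (d : ℕ), θ 1 = d → Nat.Coprime N.index d →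
    ∀ μ : G →* ℂˣ, (∀ n : N, (μ n : ℂ) = detChar θ n) →
    ∃ χ : G → ℂ, IsIrrCharacter G χ ∧ ∀ n : N, χ n = θ n := by
  intro k
  induction k using Nat.strong_induction_on with
  | _ k ih =>
    intro G _ _ N hN hk hsolv θ hθ hinv d hd hcop μ hμ
    by_cases htriv : Subsingleton (G ⧸ N)
    · exact exists_extension_of_cyclic_quotient N isCyclic_of_subsingleton θ hθ hinv
    · rw [not_subsingleton_iff_nontrivial] at htriv
      obtain ⟨Mb, hMbn, hMbp⟩ := Helper1.exists_normal_prime_index (G := G ⧸ N)
      let M : Subgroup G := Mb.comap (QuotientGroup.mk' N)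
      haveI hMn : M.Normal := hMbn.comap _
      have hMidx : M.index = Mb.index :=
        Subgroup.index_comap_of_surjective Mb (QuotientGroup.mk'_surjective N)
      have hNM : N ≤ M := by
        intro n hn
        show QuotientGroup.mk' N n ∈ Mb
        have : QuotientGroup.mk' N n = 1 := (QuotientGroup.eq_one_iff n).2 hn
        rw [this]
        exact Mb.one_mem
      have hidx := Subgroup.relIndex_mul_index hNM
      have hMp : M.index.Prime := hMidx ▸ hMbp
      let N' : Subgroup M := N.subgroupOf M
      have hN'idx : N'.index = N.relIndex M := rfl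
      have hpos : 0 < N.relIndex M := by
        rcases Nat.eq_zero_or_pos (N.relIndex M) with h0 | h0
        · rw [h0, zero_mul] at hidx
          exact absurd hidx.symm Subgroup.index_ne_zero_of_finite
        · exact h0
      have hlt : N'.index < k := by
        rw [hN'idx, ← hk, ← hidx]
        have := hMp.one_lt
        nlinarith
      let e : N' ≃* N := Subgroup.subgroupOfEquivOfLe hNM
      let θ' : N' → ℂ := fun x => θ (e x)
      have hθ' : IsIrrCharacter N' θ' := isIrrCharacter_comp_surjective e.toMonoidHom e.surjective hθ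
      have hinvG : ∀ (g : G) (x : N') (y : N'), ((y : M) : G) = g * ((x : M) : G) * g⁻¹ →
          θ' y = θ' x := by
        intro g x y hy
        show θ (e y) = θ (e x)
        rw [← hinv g (e x)]
        congr 1
        apply Subtype.ext
        rw [MulAut.conjNormal_apply]
        exact hy
      have hinv' : ∀ (m : M) (x : N'), θ' (MulAut.conjNormal m x) = θ' x := by
        intro m x
        apply hinvG (m : G) x
        simp [MulAut.conjNormal_apply]
      have hd' : θ' 1 = d := by
        show θ (e 1) = d
        rw [map_one, hd]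
      have hcop' : Nat.Coprime N'.index d :=
        Nat.Coprime.coprime_dvd_left ⟨_, (hN'idx ▸ hidx).symm⟩ hcop
      have hdet' : detChar θ' = detChar θ ∘ e.toMonoidHom :=
        detChar_comp e.toMonoidHom (Helper7.isCharacter_of_irr hθ)
      have hμ' : ∀ x : N', ((μ.comp M.subtype (x : M) : ℂˣ) : ℂ) = detChar θ' x := by
        intro x
        rw [hdet']
        exact hμ (e x)
      obtain ⟨ψ₀, hψ₀, hψ₀N⟩ := ih _ hlt M N' rfl (isSolvable_quotient_subgroupOf N M) θ' hθ' hinv'
        d hd' hcop' (μ.comp M.subtype) hμ'
      obtain ⟨ψ, hψ, hψN, hψdet⟩ := exists_extension_with_det N' hd' hcop' hψ₀ hψ₀N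
        (μ.comp M.subtype) hμ'
      have hψinv : ∀ (g : G) (m : M), ψ (MulAut.conjNormal g m) = ψ m := by
        intro g
        have hirr : IsIrrCharacter M (fun m => ψ ((MulAut.conjNormal g : MulAut M).toMonoidHom m)) :=
          isIrrCharacter_comp_surjective _ (MulAut.conjNormal g : MulAut M).surjective hψ
        have hextg : ∀ x : N', (fun m => ψ ((MulAut.conjNormal g : MulAut M).toMonoidHom m)) x =
            θ' x := by
          intro x
          have hmem : (MulAut.conjNormal g (x : M) : M) ∈ N' := by
            show ((MulAut.conjNormal g (x : M) : M) : G) ∈ N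
            rw [MulAut.conjNormal_apply]
            exact hN.conj_mem _ x.2 g
          have h1 := hψN ⟨_, hmem⟩
          simp only at h1
          show ψ (MulAut.conjNormal g (x : M)) = θ' x
          rw [h1]
          apply hinvG g x
          simp [MulAut.conjNormal_apply]
        have hdetg : detChar (fun m => ψ ((MulAut.conjNormal g : MulAut M).toMonoidHom m)) =
            detChar ψ := by
          have h1 := detChar_comp (MulAut.conjNormal g : MulAut M).toMonoidHom
            (Helper7.isCharacter_of_irr hψ)
          have h2 : (fun m => ψ ((MulAut.conjNormal g : MulAut M).toMonoidHom m)) =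
              ψ ∘ (MulAut.conjNormal g : MulAut M).toMonoidHom := rfl
          rw [h2, h1, hψdet]
          funext m
          simp only [Function.comp_apply, MonoidHom.comp_apply, Subgroup.subtype_apply,
            MulEquiv.coe_toMonoidHom, MulAut.conjNormal_apply, map_mul, map_inv]
          congr 1
          rw [mul_comm, inv_mul_cancel_left]
        have := extension_unique_of_det N' hθ' hd' hcop' hψ hirr hψN hextg hdetg
        intro m
        exact congrFun this m
      have hcyc : IsCyclic (G ⧸ M) := by
        haveI : Fact M.index.Prime := ⟨hMp⟩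
        exact isCyclic_of_prime_card (p := M.index) rfl
      obtain ⟨χ, hχ, hχM⟩ := exists_extension_of_cyclic_quotient M hcyc ψ hψ hψinv
      refine ⟨χ, hχ, fun n => ?_⟩
      have h1 := hχM ⟨n, hNM n.2⟩
      simp only at h1
      rw [h1]
      have h2 := hψN ⟨⟨n, hNM n.2⟩, n.2⟩
      simp only at h2
      rw [h2]
      rfl

theorem exists_extension_of_det_solvable {G : Type u} [Group G] [Finite G]
    (N : Subgroup G) [hN : N.Normal] (hsolv : Group.IsSolvable (G ⧸ N))
    {θ : N → ℂ} (hθ : IsIrrCharacter N θ) (hinv : ∀ (g : G) (n : N), θ (MulAut.conjNormal g n) = θ n)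
    {d : ℕ} (hd : θ 1 = d) (hcop : Nat.Coprime N.index d)
    (μ : G →* ℂˣ) (hμ : ∀ n : N, (μ n : ℂ) = detChar θ n) :
    ∃ χ : G → ℂ, IsIrrCharacter G χ ∧ ∀ n : N, χ n = θ n :=
  exists_extension_of_det_solvable_aux _ G N rfl hsolv θ hθ hinv d hd hcop μ hμ

end Cfsg.Agent.Lib.Helper25
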