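import Cfsg.Agent.Lib.Helper25.Monomial

set_option autoImplicit false

namespace Cfsg.Agent.Lib.Helper25

open Cfsg

universe u

theorem nilpotent_monomial_aux (n : ℕ) : ∀ (G : Type u) [Group G] [Fintype G]
    [Group.IsNilpotent G], Nat.card G = n → ∀ χ : G → ℂ, IsIrrCharacter G χ →
      ∃ (H : Subgroup G) (lam : H →* ℂˣ), χ = indFun H (fun h => (lam h : ℂ)) := by
  induction n using Nat.strong_induction_on with
  | _ n ih =>
  intro G _ _ _ hcard χ hχ
  obtain ⟨m, ρ, hρ, rfl⟩ := id hχ
  by_cases hker : MonoidHom.ker ρ = ⊥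
  swap
  · let σ : Representation ℂ (G ⧸ MonoidHom.ker ρ) (Fin m → ℂ) :=
      QuotientGroup.lift (MonoidHom.ker ρ) ρ (fun g hg => MonoidHom.mem_ker.mp hg)
    have hσ : σ.IsIrreducible := isIrreducible_of_comp σ (QuotientGroup.mk' (MonoidHom.ker ρ)) hρ
    have : Fintype (G ⧸ MonoidHom.ker ρ) := Fintype.ofFinite _
    have hlt : Nat.card (G ⧸ MonoidHom.ker ρ) < n := by
      have h1 := Subgroup.card_eq_card_quotient_mul_card_subgroup (MonoidHom.ker ρ)
      have h2 := (Subgroup.one_lt_card_iff_ne_bot (MonoidHom.ker ρ)).mpr hker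
      have h3 : 0 < Nat.card (G ⧸ MonoidHom.ker ρ) := Nat.card_pos
      rw [hcard] at h1
      nlinarith
    obtain ⟨Hbar, lbar, hl⟩ := ih _ hlt (G ⧸ MonoidHom.ker ρ) rfl σ.character ⟨m, σ, hσ, rfl⟩
    obtain ⟨H, hNH, rfl⟩ : ∃ H : Subgroup G, MonoidHom.ker ρ ≤ H ∧
        Hbar = H.map (QuotientGroup.mk' (MonoidHom.ker ρ)) := by
      refine ⟨Hbar.comap (QuotientGroup.mk' (MonoidHom.ker ρ)), ?_,
        (Subgroup.map_comap_eq_self_of_surjective
          (QuotientGroup.mk'_surjective (MonoidHom.ker ρ)) Hbar).symm⟩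
      intro g hg
      rw [Subgroup.mem_comap]
      have : QuotientGroup.mk' (MonoidHom.ker ρ) g = 1 :=
        (QuotientGroup.eq_one_iff g).mpr hg
      rw [this]
      exact Subgroup.one_mem _
    refine ⟨H, lbar.comp ((QuotientGroup.mk' (MonoidHom.ker ρ)).subgroupMap H), ?_⟩
    funext g
    have h1 := indFun_inflation (MonoidHom.ker ρ) H hNH
      (fun h => ((lbar.comp ((QuotientGroup.mk' (MonoidHom.ker ρ)).subgroupMap H)) h : ℂ))
      (fun q => (lbar q : ℂ)) (fun x => rfl) g
    rw [← h1, ← hl]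
    rfl
  · by_cases hcomm : ∀ a b : G, a * b = b * a
    · have : IsMulCommutative G := ⟨⟨hcomm⟩⟩
      have h1 := Helper7.irr_apply_one_of_comm hχ
      obtain ⟨f, hf⟩ := Helper7.exists_hom_of_linear (isCharacter_of_irr hχ) h1
      refine ⟨⊤, f.comp (⊤ : Subgroup G).subtype, ?_⟩
      have h2 := indFun_top (isClassFunction_of_isCharacter (isCharacter_of_irr hχ))
      conv_lhs => rw [← h2]
      congr 1
      funext h
      exact hf h
    · obtain ⟨A, hAn, hAc, hAZ⟩ := exists_normal_abelian_noncentral hcomm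
      rcases scalar_or_induced A hAc ρ hρ with hs | ⟨T, ψ, hT, hAT, hψ, hind⟩
      · exfalso
        apply hAZ
        intro a ha
        rw [Subgroup.mem_center_iff]
        intro g
        obtain ⟨c, hc⟩ := hs a ha
        have h3 : ρ (g * a) = ρ (a * g) := by
          rw [map_mul, map_mul, hc]
          ext
          simp
        exact (MonoidHom.ker_eq_bot_iff ρ).mp hker h3
      · have : Fintype T := Fintype.ofFinite _
        have hlt : Nat.card T < n := by
          rw [← hcard]
          apply lt_of_le_of_ne (Subgroup.card_le_card_group T)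
          intro h4
          exact hT (Subgroup.eq_top_of_card_eq T h4)
        obtain ⟨H', μ, hμ⟩ := ih _ hlt T rfl ψ hψ
        obtain ⟨H, hHT, rfl⟩ : ∃ H : Subgroup G, H ≤ T ∧ H' = H.subgroupOf T :=
          ⟨H'.map T.subtype, Subgroup.map_subtype_le H',
            (Subgroup.comap_map_eq_self_of_injective T.subtype_injective H').symm⟩
        refine ⟨H, μ.comp (Subgroup.subgroupOfEquivOfLe hHT).symm.toMonoidHom, ?_⟩
        rw [← hind, hμ, ← indFun_trans H T hHT]
        congr 2

end Cfsg.Agent.Lib.Helper25
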