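import Mathlib
import Cfsg.Agent.Lib.Helper25.FrobSchur
import Cfsg.Agent.Lib.Helper25.Irr
import Cfsg.Agent.Lib.Helper2.CharEquiv
import Cfsg.Agent.Lib.Helper7.CharBasic

set_option autoImplicit false

namespace Cfsg.Agent.Lib.Helper25

open Cfsg Matrix

universe u

theorem mul_single_mul_apply {n : ℕ} (X Y : Matrix (Fin n) (Fin n) ℂ) (i j k l : Fin n) :
    (X * Matrix.single k l (1 : ℂ) * Y) i j = X i k * Y l j := by
  rw [Matrix.mul_apply, Finset.sum_eq_single l]
  · rw [Matrix.mul_apply, Finset.sum_eq_single k]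
    · simp
    · intro b _ hb
      simp [Ne.symm hb]
    · simp
  · intro b _ hb
    rw [Matrix.mul_apply, Finset.sum_eq_zero, zero_mul]
    intro a _
    simp [Ne.symm hb]
  · simp

/-- Schur orthogonality for matrix coefficients. -/
theorem schur_orth {G : Type u} [Group G] [Fintype G] {n : ℕ}
    (ρ : Representation ℂ G (Fin n → ℂ)) [ρ.IsIrreducible] (i k l j : Fin n) :
    ∑ g, mat ρ g i k * mat ρ g⁻¹ l j =
      (Nat.card G : ℂ) / n * (if k = l then 1 else 0) * (if i = j then 1 else 0) := by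
  classical
  set T : Matrix (Fin n) (Fin n) ℂ := ∑ g, mat ρ g * Matrix.single k l (1 : ℂ) * mat ρ g⁻¹ with hT
  have hcomm : ∀ h, T * mat ρ h = mat ρ h * T := by
    intro h
    rw [hT, Finset.sum_mul, Finset.mul_sum]
    refine Fintype.sum_equiv (Equiv.mulLeft h⁻¹) _ _ (fun g => ?_)
    simp only [Equiv.coe_mulLeft, _root_.mul_inv_rev, inv_inv, mat_mul, Matrix.mul_assoc]
    rw [← Matrix.mul_assoc (mat ρ h) (mat ρ h⁻¹), ← mat_mul ρ h h⁻¹, mul_inv_cancel, mat_one,
      Matrix.one_mul]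
  have h1 := Helper2.schur_trace ρ (Matrix.toLin' T) (fun g => by
    have e : ρ g = Matrix.toLin' (mat ρ g) := (Matrix.toLin'_toMatrix' _).symm
    rw [e, ← Matrix.toLin'_mul, ← Matrix.toLin'_mul, hcomm])
  have htr : LinearMap.trace ℂ _ (Matrix.toLin' T) = (Nat.card G : ℂ) * (if k = l then 1 else 0) := by
    rw [Matrix.trace_toLin'_eq, hT, Matrix.trace_sum]
    have : ∀ g : G, (mat ρ g * Matrix.single k l (1 : ℂ) * mat ρ g⁻¹).trace =
        if k = l then 1 else 0 := by
      intro g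
      rw [Matrix.trace_mul_comm, ← Matrix.mul_assoc, ← mat_mul, inv_mul_cancel, mat_one,
        Matrix.one_mul]
      by_cases hkl : k = l
      · subst hkl
        simp
      · rw [Matrix.trace_single_eq_of_ne _ _ _ hkl, if_neg hkl]
    simp only [this, Finset.sum_const, Finset.card_univ, nsmul_eq_mul, Nat.card_eq_fintype_card]
  have h2 : T = ((Nat.card G : ℂ) * (if k = l then 1 else 0) / n) • (1 : Matrix (Fin n) (Fin n) ℂ) := by
    apply (Matrix.toLin' (R := ℂ)).injective
    rw [h1, htr, map_smul, Matrix.toLin'_one]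
    simp
  have h3 : T i j = ∑ g, mat ρ g i k * mat ρ g⁻¹ l j := by
    simp only [hT, Matrix.sum_apply, mul_single_mul_apply]
  rw [← h3, h2, Matrix.smul_apply, Matrix.one_apply, smul_eq_mul]
  ring

theorem sum_trace_smul {G : Type u} [Group G] [Fintype G] {n : ℕ}
    (ρ : Representation ℂ G (Fin n → ℂ)) [ρ.IsIrreducible] (A : Matrix (Fin n) (Fin n) ℂ) :
    ∑ g, (mat ρ g * A).trace • mat ρ g⁻¹ = ((Nat.card G : ℂ) / n) • A := by
  classical
  ext l j
  simp only [Matrix.sum_apply, Matrix.smul_apply, smul_eq_mul]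
  have h1 : ∀ g : G, (mat ρ g * A).trace * mat ρ g⁻¹ l j =
      ∑ i, ∑ k, A k i * (mat ρ g i k * mat ρ g⁻¹ l j) := by
    intro g
    simp only [Matrix.trace, Matrix.diag_apply, Matrix.mul_apply, Finset.sum_mul]
    exact Finset.sum_congr rfl fun i _ => Finset.sum_congr rfl fun k _ => by ring
  simp only [h1]
  calc ∑ g, ∑ i, ∑ k, A k i * (mat ρ g i k * mat ρ g⁻¹ l j)
      = ∑ i, ∑ k, ∑ g, A k i * (mat ρ g i k * mat ρ g⁻¹ l j) := by
        rw [Finset.sum_comm]
        exact Finset.sum_congr rfl fun i _ => Finset.sum_comm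
    _ = ∑ i, ∑ k, A k i * ((Nat.card G : ℂ) / n * (if k = l then 1 else 0) *
          (if i = j then 1 else 0)) := by
        simp only [← Finset.mul_sum, schur_orth]
    _ = (Nat.card G : ℂ) / n * A l j := by
        simp only [mul_ite, mul_one, mul_zero, Finset.sum_ite_eq', Finset.sum_ite_eq,
          Finset.mem_univ, if_true, ite_mul, zero_mul]
        simp [mul_comm]

theorem sum_trace_mul_trace {G : Type u} [Group G] [Fintype G] {n : ℕ}
    (ρ : Representation ℂ G (Fin n → ℂ)) [ρ.IsIrreducible] (A B : Matrix (Fin n) (Fin n) ℂ) :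
    ∑ g, (mat ρ g * A).trace * (B * mat ρ g⁻¹).trace = (Nat.card G : ℂ) / n * (B * A).trace := by
  have h := congrArg (fun M => (B * M).trace) (sum_trace_smul ρ A)
  simp only [Finset.mul_sum, Matrix.trace_sum, Matrix.mul_smul, Matrix.trace_smul, smul_eq_mul] at h
  exact h

/-- A representation whose character is an irreducible character is irreducible. -/
theorem isIrreducible_of_isIrrCharacter {G : Type u} [Group G] [Finite G] {n : ℕ}
    (σ : Representation ℂ G (Fin n → ℂ)) (h : IsIrrCharacter G σ.character) : σ.IsIrreducible := by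
  obtain ⟨d', τ, hτirr, hτ⟩ := h
  obtain ⟨e⟩ := Helper2.equiv_of_char_eq τ σ hτ
  refine isIrreducible_transport τ σ e.toLinearEquiv id Function.surjective_id (fun g v => ?_) hτirr
  have := LinearMap.congr_fun (e.1.2 g) v
  exact this.symm

/-- Isaacs 8.14(b): if `χ_N` is irreducible then `∑_{n ∈ N} |χ(ng)|² = |N|`. -/
theorem coset_norm {G : Type u} [Group G] [Finite G] (N : Subgroup G) [Fintype N] {χ : G → ℂ}
    (hχ : IsCharacter G χ) (hres : IsIrrCharacter N (fun n : N => χ n)) (g : G) :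
    ∑ n : N, χ (n * g) * (starRingEnd ℂ) (χ (n * g)) = Nat.card N := by
  have hχ' := hχ
  obtain ⟨d, ρ, rfl⟩ := hχ
  let σ : Representation ℂ N (Fin d → ℂ) := ρ.comp N.subtype
  have hσ : σ.character = fun n : N => ρ.character n := rfl
  haveI hirr : σ.IsIrreducible := isIrreducible_of_isIrrCharacter σ (by rw [hσ]; exact hres)
  have h1 := sum_trace_mul_trace σ (mat ρ g) (mat ρ g⁻¹)
  have hd : (d : ℂ) ≠ 0 := by
    have := Helper2.finrank_pos_of_irr σ
    simp only [Module.finrank_fin_fun] at this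
    exact_mod_cast this.ne'
  rw [← mat_mul, inv_mul_cancel, mat_one, Matrix.trace_one, Fintype.card_fin,
    div_mul_cancel₀ _ hd] at h1
  rw [← h1]
  refine Finset.sum_congr rfl (fun n _ => ?_)
  have h2 : mat σ n = mat ρ n := rfl
  have h3 : mat σ n⁻¹ = mat ρ (n : G)⁻¹ := rfl
  rw [h2, h3, ← mat_mul, ← mat_mul, trace_mat, trace_mat, ← Helper7.char_inv_eq_conj hχ']
  simp

end Cfsg.Agent.Lib.Helper25
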