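import Mathlib
import Cfsg.Agent.Lib.Helper25.CosetNorm
import Cfsg.Agent.Lib.Helper11.GenChar
import Cfsg.Agent.Lib.Helper2.Brauer7

set_option autoImplicit false

namespace Cfsg.Agent.Lib.Helper25

open Cfsg

universe u

/-- Patching (Isaacs 8.15): a class function that restricts to a character on each `N E`,
`E` solvable, and to an irreducible character on `N`, is an irreducible character. -/
theorem isIrrCharacter_of_patch {G : Type u} [Group G] [Finite G] (N : Subgroup G)
    {θ : N → ℂ} (hθ : IsIrrCharacter N θ) (f : G → ℂ) (hcf : IsClassFunction G f)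
    (hres : ∀ n : N, f n = θ n)
    (hE : ∀ E : Subgroup G, Group.IsSolvable E → IsCharacter ↥(N ⊔ E) (fun h => f h)) :
    IsIrrCharacter G f := by
  classical
  have : Fintype G := Fintype.ofFinite G
  have hgen : IsGeneralizedCharacter G f := by
    apply Helper2.brauer_characterization f hcf
    intro E p hp hEl
    haveI := Helper2.IsElementary.isNilpotent hp hEl
    have h1 := hE E inferInstance
    have h2 := Helper7.isCharacter_comp_hom h1 (Subgroup.inclusion (le_sup_right : E ≤ N ⊔ E))
    exact Helper11.genChar_of_char h2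
  have hcoset : ∀ g : G, ∑ n : N, f (n * g) * (starRingEnd ℂ) (f (n * g)) = Nat.card N := by
    intro g
    have hψ := hE (Subgroup.zpowers g) (isSolvable_of_comm (fun a b => by
      obtain ⟨i, hi⟩ := Subgroup.mem_zpowers_iff.1 a.2
      obtain ⟨j, hj⟩ := Subgroup.mem_zpowers_iff.1 b.2
      apply Subtype.ext
      rw [Subgroup.coe_mul, Subgroup.coe_mul, ← hi, ← hj, ← zpow_add, ← zpow_add, add_comm]))
    have hNH : N ≤ N ⊔ Subgroup.zpowers g := le_sup_left
    let e : N.subgroupOf (N ⊔ Subgroup.zpowers g) ≃* N := Subgroup.subgroupOfEquivOfLe hNH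
    have hirr : IsIrrCharacter (N.subgroupOf (N ⊔ Subgroup.zpowers g))
        (fun x : N.subgroupOf (N ⊔ Subgroup.zpowers g) =>
          (fun h : ↥(N ⊔ Subgroup.zpowers g) => f h) x) := by
      have h1 := isIrrCharacter_comp_surjective e.toMonoidHom e.surjective hθ
      have h2 : (fun x : N.subgroupOf (N ⊔ Subgroup.zpowers g) => θ (e.toMonoidHom x)) =
          fun x : N.subgroupOf (N ⊔ Subgroup.zpowers g) =>
            (fun h : ↥(N ⊔ Subgroup.zpowers g) => f h) x := by
        funext x
        exact (hres (e x)).symm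
      rw [← h2]
      exact h1
    have hg : g ∈ N ⊔ Subgroup.zpowers g :=
      (le_sup_right : Subgroup.zpowers g ≤ _) (Subgroup.mem_zpowers g)
    have h3 := coset_norm (N.subgroupOf (N ⊔ Subgroup.zpowers g)) hψ hirr ⟨g, hg⟩
    rw [← Nat.card_congr e.toEquiv, ← h3]
    exact (Fintype.sum_equiv e.toEquiv _ _ (fun x => rfl)).symm
  have hNC : (Nat.card N : ℂ) ≠ 0 := by exact_mod_cast Nat.card_pos.ne'
  have hGC : (Nat.card G : ℂ) ≠ 0 := by exact_mod_cast Nat.card_pos.ne'
  have hnorm : classInner f f = 1 := by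
    unfold classInner
    have h1 : (Nat.card N : ℂ) * ∑ g : G, f g * (starRingEnd ℂ) (f g) =
        ∑ g : G, ∑ n : N, f (n * g) * (starRingEnd ℂ) (f (n * g)) := by
      rw [Finset.sum_comm]
      have h2 : ∀ n : N, ∑ g : G, f (n * g) * (starRingEnd ℂ) (f (n * g)) =
          ∑ g : G, f g * (starRingEnd ℂ) (f g) :=
        fun n => Fintype.sum_equiv (Equiv.mulLeft (n : G)) _ _ (fun g => rfl)
      simp only [h2, Finset.sum_const, Finset.card_univ, nsmul_eq_mul, Nat.card_eq_fintype_card]
    simp only [hcoset, Finset.sum_const, Finset.card_univ, nsmul_eq_mul] at h1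
    rw [← Nat.card_eq_fintype_card] at h1
    have h3 : ∑ g : G, f g * (starRingEnd ℂ) (f g) = Nat.card G := by
      apply mul_left_cancel₀ hNC
      rw [h1]; ring
    rw [h3, inv_mul_cancel₀ hGC]
  rcases Helper11.genChar_norm_one hgen hnorm with h | h
  · exact h
  · exfalso
    obtain ⟨d, hd0, hd⟩ := Helper7.irr_apply_one hθ
    obtain ⟨e, he0, he⟩ := Helper7.irr_apply_one h
    have h1 := hres 1
    simp only [OneMemClass.coe_one] at h1
    simp only [Pi.neg_apply, h1, hd] at he
    have h2 : ((d + e : ℕ) : ℂ) = 0 := by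
      push_cast
      linear_combination -he
    have h3 : d + e = 0 := by exact_mod_cast h2
    omega

end Cfsg.Agent.Lib.Helper25
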