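import Mathlib
import Cfsg.Agent.Lib.Helper25.Patch
import Cfsg.Agent.Lib.Helper25.DetExt2

set_option autoImplicit false

namespace Cfsg.Agent.Lib.Helper25

open Cfsg

universe u

/-- A character whose restriction to a subgroup is irreducible is irreducible. -/
theorem isIrrCharacter_of_restrict {K : Type u} [Group K] [Finite K] (M : Subgroup K) {χ : K → ℂ}
    (hχ : IsCharacter K χ) (h : IsIrrCharacter M (fun m : M => χ m)) : IsIrrCharacter K χ := by
  obtain ⟨d, ρ, rfl⟩ := hχ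
  let σ : Representation ℂ M (Fin d → ℂ) := ρ.comp M.subtype
  have hσ : σ.character = fun n : M => ρ.character n := rfl
  have hirr : σ.IsIrreducible := isIrreducible_of_isIrrCharacter σ (by rw [hσ]; exact h)
  exact ⟨d, ρ, isIrreducible_of_comp ρ M.subtype hirr, rfl⟩

section

variable {G : Type u} [Group G] [Finite G] (N : Subgroup G) [hN : N.Normal] (θ : N → ℂ)
  (μ : G →* ℂˣ)

/-- `ψ` is a character of `H` extending `θ` with determinant `μ`. -/
def IsGoodExt (H : Subgroup G) (ψ : H → ℂ) : Prop :=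
  IsCharacter H ψ ∧ (∀ (n : N) (h : (n : G) ∈ H), ψ ⟨n, h⟩ = θ n) ∧
    detChar ψ = fun h : H => ((μ (h : G) : ℂˣ) : ℂ)

variable {N θ μ}

omit hN in
theorem IsGoodExt.restrict_irr (hθ : IsIrrCharacter N θ) {H : Subgroup G} (hNH : N ≤ H)
    {ψ : H → ℂ} (h : IsGoodExt N θ μ H ψ) :
    IsIrrCharacter (N.subgroupOf H) (fun x : N.subgroupOf H => ψ x) := by
  let e : N.subgroupOf H ≃* N := Subgroup.subgroupOfEquivOfLe hNH
  have h1 := isIrrCharacter_comp_surjective e.toMonoidHom e.surjective hθ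
  have h2 : (fun x : N.subgroupOf H => θ (e.toMonoidHom x)) = fun x : N.subgroupOf H => ψ x := by
    funext x
    exact (h.2.1 (e x) x.1.2).symm
  rw [← h2]
  exact h1

omit hN in
theorem IsGoodExt.irr (hθ : IsIrrCharacter N θ) {H : Subgroup G} (hNH : N ≤ H)
    {ψ : H → ℂ} (h : IsGoodExt N θ μ H ψ) : IsIrrCharacter H ψ :=
  isIrrCharacter_of_restrict (N.subgroupOf H) h.1 (h.restrict_irr hθ hNH)

theorem IsGoodExt.unique (hθ : IsIrrCharacter N θ) {d : ℕ} (hd : θ 1 = d)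
    (hcop : Nat.Coprime N.index d) {H : Subgroup G} (hNH : N ≤ H)
    {ψ ψ' : H → ℂ} (h : IsGoodExt N θ μ H ψ) (h' : IsGoodExt N θ μ H ψ') : ψ' = ψ := by
  have hidx := Subgroup.relIndex_mul_index hNH
  have hcop' : Nat.Coprime (N.subgroupOf H).index d :=
    Nat.Coprime.coprime_dvd_left ⟨_, hidx.symm⟩ hcop
  refine extension_unique_of_det (N.subgroupOf H) (h.restrict_irr hθ hNH) (d := d) ?_ hcop'
    (h.irr hθ hNH) (h'.irr hθ hNH) (fun _ => rfl) (fun x => ?_) (by rw [h.2.2, h'.2.2])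
  · have := h.2.1 1 H.one_mem
    rw [hd] at this
    exact this
  · have h1 := h.2.1 ⟨x, x.2⟩ x.1.2
    have h2 := h'.2.1 ⟨x, x.2⟩ x.1.2
    exact h2.trans h1.symm

omit hN in
theorem IsGoodExt.pull {H H' : Subgroup G} (c : H' →* H)
    (hc : ∀ (n : N) (h' : (n : G) ∈ H'), ∃ n' : N, (c ⟨n, h'⟩ : G) = n' ∧ θ n' = θ n)
    (hμ : ∀ h : H', μ (c h) = μ h) {ψ : H → ℂ} (h : IsGoodExt N θ μ H ψ) :
    IsGoodExt N θ μ H' (ψ ∘ c) := by
  refine ⟨Helper7.isCharacter_comp_hom h.1 c, ?_, ?_⟩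
  · intro n h'
    obtain ⟨n', hn', hθn⟩ := hc n h'
    rw [← hθn, Function.comp_apply]
    have h1 : (n' : G) ∈ H := by rw [← hn']; exact (c ⟨n, h'⟩).2
    rw [← h.2.1 n' h1]
    congr 1
    exact Subtype.ext hn'
  · rw [detChar_comp c h.1, h.2.2]
    funext x
    simp only [Function.comp_apply, hμ]

theorem exists_isGoodExt (hθ : IsIrrCharacter N θ)
    (hinv : ∀ (g : G) (n : N), θ (MulAut.conjNormal g n) = θ n) {d : ℕ} (hd : θ 1 = d)
    (hcop : Nat.Coprime N.index d) (hμ : ∀ n : N, (μ n : ℂ) = detChar θ n)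
    (E : Subgroup G) [Group.IsSolvable E] : ∃ ψ : ↥(N ⊔ E) → ℂ, IsGoodExt N θ μ (N ⊔ E) ψ := by
  have hNH : N ≤ N ⊔ E := le_sup_left
  have hidx := Subgroup.relIndex_mul_index hNH
  have hcop' : Nat.Coprime (N.subgroupOf (N ⊔ E)).index d :=
    Nat.Coprime.coprime_dvd_left ⟨_, hidx.symm⟩ hcop
  let e : N.subgroupOf (N ⊔ E) ≃* N := Subgroup.subgroupOfEquivOfLe hNH
  have hθ' : IsIrrCharacter (N.subgroupOf (N ⊔ E)) (fun x => θ (e.toMonoidHom x)) :=
    isIrrCharacter_comp_surjective e.toMonoidHom e.surjective hθ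
  have hsolv : Group.IsSolvable (↥(N ⊔ E) ⧸ N.subgroupOf (N ⊔ E)) := by
    let φ : E →* ↥(N ⊔ E) ⧸ N.subgroupOf (N ⊔ E) :=
      (QuotientGroup.mk' _).comp (Subgroup.inclusion (le_sup_right : E ≤ N ⊔ E))
    apply Group.isSolvable_of_surjective (f := φ)
    intro q
    induction q using QuotientGroup.induction_on with
    | H x =>
      have hx : (x : G) ∈ ((N ⊔ E : Subgroup G) : Set G) := x.2
      rw [Subgroup.normal_mul] at hx
      obtain ⟨n, hn, y, hy, hny⟩ := hx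
      refine ⟨⟨y, hy⟩, ?_⟩
      show ((Subgroup.inclusion (le_sup_right : E ≤ N ⊔ E) ⟨y, hy⟩ : ↥(N ⊔ E)) :
        ↥(N ⊔ E) ⧸ N.subgroupOf (N ⊔ E)) = (x : ↥(N ⊔ E) ⧸ N.subgroupOf (N ⊔ E))
      rw [QuotientGroup.eq]
      show (((Subgroup.inclusion (le_sup_right : E ≤ N ⊔ E) ⟨y, hy⟩)⁻¹ * x : ↥(N ⊔ E)) : G) ∈ N
      simp only [Subgroup.coe_mul, Subgroup.coe_inv, Subgroup.coe_inclusion]
      rw [← hny]
      have := hN.conj_mem n hn y⁻¹
      simpa [mul_assoc] using this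
  have hinv' : ∀ (m : ↥(N ⊔ E)) (x : N.subgroupOf (N ⊔ E)),
      (fun x => θ (e.toMonoidHom x)) (MulAut.conjNormal m x) = (fun x => θ (e.toMonoidHom x)) x := by
    intro m x
    show θ (e (MulAut.conjNormal m x)) = θ (e x)
    rw [← hinv (m : G) (e x)]
    congr 1
  have hd' : (fun x => θ (e.toMonoidHom x)) 1 = d := by
    show θ (e.toMonoidHom 1) = d
    rw [map_one, hd]
  have hdet' : detChar (fun x => θ (e.toMonoidHom x)) = detChar θ ∘ e.toMonoidHom :=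
    detChar_comp e.toMonoidHom (Helper7.isCharacter_of_irr hθ)
  have hμ' : ∀ x : N.subgroupOf (N ⊔ E), ((μ.comp (N ⊔ E).subtype (x : ↥(N ⊔ E)) : ℂˣ) : ℂ) =
      detChar (fun x => θ (e.toMonoidHom x)) x := by
    intro x
    rw [hdet']
    exact hμ (e x)
  obtain ⟨ψ₀, hψ₀, hψ₀N⟩ := exists_extension_of_det_solvable (N.subgroupOf (N ⊔ E)) hsolv hθ' hinv'
    hd' hcop' (μ.comp (N ⊔ E).subtype) hμ'
  obtain ⟨ψ, hψ, hψN, hψdet⟩ := exists_extension_with_det (N.subgroupOf (N ⊔ E)) hd' hcop' hψ₀ hψ₀N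
    (μ.comp (N ⊔ E).subtype) hμ'
  refine ⟨ψ, Helper7.isCharacter_of_irr hψ, ?_, hψdet⟩
  intro n h
  exact hψN ⟨⟨n, h⟩, n.2⟩

end

theorem isSolvable_zpowers {G : Type u} [Group G] (g : G) :
    Group.IsSolvable (Subgroup.zpowers g) :=
  isSolvable_of_comm (fun a b => by
    obtain ⟨i, hi⟩ := Subgroup.mem_zpowers_iff.1 a.2
    obtain ⟨j, hj⟩ := Subgroup.mem_zpowers_iff.1 b.2
    apply Subtype.ext
    rw [Subgroup.coe_mul, Subgroup.coe_mul, ← hi, ← hj, ← zpow_add, ← zpow_add, add_comm])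

/-- Gallagher: if `θ(1)` is coprime to `|G:N|` and `det θ` extends, then `θ` extends. -/
theorem gallagher_extension {G : Type u} [Group G] [Finite G] (N : Subgroup G) [hN : N.Normal]
    {θ : N → ℂ} (hθ : IsIrrCharacter N θ)
    (hinv : ∀ (g : G) (n : N), θ (MulAut.conjNormal g n) = θ n) {d : ℕ} (hd : θ 1 = d)
    (hcop : Nat.Coprime N.index d) (μ : G →* ℂˣ) (hμ : ∀ n : N, (μ n : ℂ) = detChar θ n) :
    ∃ χ : G → ℂ, IsIrrCharacter G χ ∧ ∀ n : N, χ n = θ n := by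
  classical
  have hex : ∀ g : G, ∃ ψ, IsGoodExt N θ μ (N ⊔ Subgroup.zpowers g) ψ := fun g => by
    haveI := isSolvable_zpowers g
    exact exists_isGoodExt hθ hinv hd hcop hμ (Subgroup.zpowers g)
  choose Ψ hΨ using hex
  have hgmem : ∀ g : G, g ∈ N ⊔ Subgroup.zpowers g := fun g =>
    (le_sup_right : Subgroup.zpowers g ≤ _) (Subgroup.mem_zpowers g)
  let f : G → ℂ := fun g => Ψ g ⟨g, hgmem g⟩
  have F1 : ∀ (H : Subgroup G) (_ : N ≤ H) (ψ : H → ℂ), IsGoodExt N θ μ H ψ →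
      ∀ h : H, f h = ψ h := by
    intro H hNH ψ hψ h
    have hle : N ⊔ Subgroup.zpowers (h : G) ≤ H := sup_le hNH (Subgroup.zpowers_le.2 h.2)
    have hpull := IsGoodExt.pull (N := N) (θ := θ) (μ := μ) (Subgroup.inclusion hle)
      (fun n h' => ⟨n, rfl, rfl⟩) (fun _ => rfl) hψ
    have h1 := IsGoodExt.unique hθ hd hcop le_sup_left (hΨ h) hpull
    show Ψ h ⟨h, _⟩ = ψ h
    rw [← h1]
    rfl
  have hcf : IsClassFunction G f := by
    intro g x
    have hle : N ⊔ Subgroup.zpowers (x * g * x⁻¹) ≤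
        (N ⊔ Subgroup.zpowers g).comap (MulAut.conj x⁻¹).toMonoidHom := by
      apply sup_le
      · intro n hn
        apply (le_sup_left : N ≤ N ⊔ Subgroup.zpowers g)
        exact hN.conj_mem n hn x⁻¹
      · rw [Subgroup.zpowers_le, Subgroup.mem_comap]
        have : (MulAut.conj x⁻¹).toMonoidHom (x * g * x⁻¹) = g := by
          simp [MulAut.conj_apply, mul_assoc]
        rw [this]
        exact hgmem g
    let c : ↥(N ⊔ Subgroup.zpowers (x * g * x⁻¹)) →* ↥(N ⊔ Subgroup.zpowers g) :=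
      ((MulAut.conj x⁻¹).toMonoidHom.comp (N ⊔ Subgroup.zpowers (x * g * x⁻¹)).subtype).codRestrict
        (N ⊔ Subgroup.zpowers g) (fun h => hle h.2)
    have hpull := IsGoodExt.pull (N := N) (θ := θ) (μ := μ) c
      (fun n h' => ⟨MulAut.conjNormal x⁻¹ n, rfl, hinv x⁻¹ n⟩)
      (fun h => by
        show μ (x⁻¹ * (h : G) * x⁻¹⁻¹) = μ h
        rw [inv_inv, map_mul, map_mul, map_inv, mul_comm, mul_inv_cancel_left]) (hΨ g)
    have h1 := F1 _ le_sup_left _ hpull ⟨x * g * x⁻¹, hgmem _⟩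
    simp only at h1
    rw [h1, Function.comp_apply]
    show Ψ g _ = Ψ g _
    congr 1
    apply Subtype.ext
    show x⁻¹ * (x * g * x⁻¹) * x⁻¹⁻¹ = g
    group
  refine ⟨f, isIrrCharacter_of_patch N hθ f hcf ?_ ?_, ?_⟩
  · intro n
    exact (hΨ n).2.1 n _
  · intro E hE
    obtain ⟨ψ, hψ⟩ := exists_isGoodExt hθ hinv hd hcop hμ E
    have : (fun h : ↥(N ⊔ E) => f h) = ψ := funext (F1 _ le_sup_left ψ hψ)
    rw [this]
    exact hψ.1
  · intro n
    exact (hΨ n).2.1 n _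

end Cfsg.Agent.Lib.Helper25
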