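import Mathlib
import Cfsg.Prelude.Def_Blocks
import Cfsg.Agent.Lib.Helper25.Monomial
import Cfsg.Agent.Lib.Helper24.CenterDvd
import Cfsg.Agent.Lib.Helper2.CharKer
import Cfsg.Agent.S0165

set_option autoImplicit false

namespace Cfsg.Agent.Lib.Helper25

open Cfsg
open Cfsg.Agent.Lib.Helper7

universe u
variable {G : Type u} [Group G]

/-- The codegree, as written in the statements. -/
noncomputable def cod (χ : G → ℂ) : ℕ :=
  Nat.card G / (Nat.card {g : G // χ g = χ 1} * charDegree χ)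

theorem charDegree_eq {χ : G → ℂ} {d : ℕ} (hd : χ 1 = d) : charDegree χ = d := by
  simp [charDegree, hd]

/-- Kernel data of an irreducible representation. -/
theorem ker_data [Finite G] {n : ℕ} (ρ : Representation ℂ G (Fin n → ℂ)) [ρ.IsIrreducible] :
    (∀ g, g ∈ MonoidHom.ker ρ ↔ ρ.character g = ρ.character 1) ∧ ρ.character 1 = n ∧ 0 < n ∧
      n ∣ (MonoidHom.ker ρ).index := by
  have h1 : ρ.character 1 = n := by rw [Representation.char_one]; simp
  refine ⟨fun g => ?_, h1, ?_, ?_⟩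
  · rw [MonoidHom.mem_ker, Representation.char_one, Cfsg.Agent.Lib.Helper2.char_eq_finrank_iff]
    rfl
  · have := Cfsg.Agent.Lib.Helper2.finrank_pos_of_irr ρ
    simpa using this
  · have := Cfsg.Agent.Lib.Helper24.finrank_dvd_index_of_scalar ρ (MonoidHom.ker ρ)
      (fun a ha => ⟨1, by rw [MonoidHom.mem_ker.1 ha, one_smul]⟩)
    simpa using this

theorem card_ker_eq [Finite G] {n : ℕ} (ρ : Representation ℂ G (Fin n → ℂ)) [ρ.IsIrreducible] :
    Nat.card {g : G // ρ.character g = ρ.character 1} = Nat.card (MonoidHom.ker ρ) :=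
  Nat.card_congr (Equiv.subtypeEquivRight (fun g => ((ker_data ρ).1 g).symm))

theorem cod_mul [Finite G] {n : ℕ} (ρ : Representation ℂ G (Fin n → ℂ)) [ρ.IsIrreducible] :
    cod ρ.character * n = (MonoidHom.ker ρ).index := by
  obtain ⟨-, h1, h0, c, hc⟩ := ker_data ρ
  rw [cod, card_ker_eq, charDegree_eq h1, ← (MonoidHom.ker ρ).card_mul_index, hc, ← mul_assoc,
    Nat.mul_div_cancel_left _ (Nat.mul_pos Nat.card_pos h0), mul_comm]

theorem cod_spec [Finite G] {χ : G → ℂ} (hχ : IsIrrCharacter G χ) :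
    cod χ * (Nat.card {g : G // χ g = χ 1} * charDegree χ) = Nat.card G := by
  obtain ⟨n, ρ, hirr, rfl⟩ := hχ
  rw [card_ker_eq, charDegree_eq (ker_data ρ).2.1, ← (MonoidHom.ker ρ).card_mul_index,
    ← cod_mul ρ]
  ring

/-- If `p` does not divide the codegree, `χ` vanishes at elements of order `p` modulo the
kernel. -/
theorem eq_zero_of_not_dvd_cod [Finite G] {χ : G → ℂ} (hχ : IsIrrCharacter G χ) {p : ℕ}
    (hp : p.Prime) (hcod : ¬ p ∣ cod χ) {x : G} (hx : χ x ≠ χ 1) (hxp : χ (x ^ p) = χ 1) :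
    χ x = 0 := by
  obtain ⟨n, ρ, hirr, rfl⟩ := hχ
  set K := MonoidHom.ker ρ with hK
  let σ : Representation ℂ (G ⧸ K) (Fin n → ℂ) := QuotientGroup.lift K ρ (fun g hg => hg)
  have hσ : σ.comp (QuotientGroup.mk' K) = ρ := by
    ext1 g
    rfl
  have hσirr : σ.IsIrreducible := by
    apply isIrreducible_of_comp σ (QuotientGroup.mk' K)
    have : (σ.comp (QuotientGroup.mk' K) : Representation ℂ G (Fin n → ℂ)) = ρ := hσ
    rw [this]
    exact hirr
  have hchar : ∀ g : G, σ.character (QuotientGroup.mk' K g) = ρ.character g := fun g => rfl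
  have hcard : Nat.card (G ⧸ K) = cod ρ.character * n := (cod_mul ρ).symm
  have hpos : Nat.card (G ⧸ K) ≠ 0 := Nat.card_pos.ne'
  rw [← hchar]
  apply Cfsg.Agent.S0165.result σ p ((Nat.card (G ⧸ K)).factorization p) hp
    (Nat.ordProj_dvd _ _) (Nat.pow_succ_factorization_not_dvd hpos hp)
  · have h1 : p ^ (Nat.card (G ⧸ K)).factorization p ∣ cod ρ.character * n := by
      rw [← hcard]; exact Nat.ordProj_dvd _ _
    have h2 : Nat.Coprime (p ^ (Nat.card (G ⧸ K)).factorization p) (cod ρ.character) :=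
      Nat.Coprime.pow_left _ ((Nat.Prime.coprime_iff_not_dvd hp).2 hcod)
    have := h2.dvd_of_dvd_mul_left h1
    simpa using this
  · have h1 : orderOf (QuotientGroup.mk' K x) = p := by
      haveI : Fact p.Prime := ⟨hp⟩
      apply orderOf_eq_prime
      · rw [← map_pow]
        exact (QuotientGroup.eq_one_iff _).2 (((ker_data ρ).1 _).2 hxp)
      · intro h
        exact hx (((ker_data ρ).1 _).1 ((QuotientGroup.eq_one_iff _).1 h))
    rw [h1]

end Cfsg.Agent.Lib.Helper25
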