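import Cfsg.Agent.Lib.Helper25.Irr
import Cfsg.Agent.Lib.Helper25.Core
import Cfsg.Agent.Lib.Helper2.CharReg
import Cfsg.Agent.Lib.Helper24.Integrality

set_option autoImplicit false

namespace Cfsg.Agent.Lib.Helper25

open scoped ComplexConjugate
open Cfsg

universe u

variable {G : Type u} [Group G]

theorem card_fixed_irr_mul [Fintype G] (α : G ≃* G) :
    (Nat.card {χ : IrrCharacter G // (χ : G → ℂ) ∘ α = (χ : G → ℂ)} : ℂ) * Nat.card G
      = ∑ g : G, (Nat.card {x : G // x * α g * x⁻¹ = g} : ℂ) := by
  classical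
  have := Helper2.finite_irrCharacter (G := G)
  have : Fintype (IrrCharacter G) := Fintype.ofFinite _
  have hG : (Nat.card G : ℂ) ≠ 0 := by exact_mod_cast Nat.card_pos.ne'
  simp_rw [← Helper2.column_orthogonality]
  rw [Finset.sum_comm]
  have h1 : ∀ χ : IrrCharacter G, ∑ g : G, (χ : G → ℂ) (α g) * conj ((χ : G → ℂ) g)
      = (if (χ : G → ℂ) ∘ α = (χ : G → ℂ) then 1 else 0) * (Nat.card G : ℂ) := by
    intro χ
    have h2 := classInner_irr (isIrrCharacter_comp_surjective α.toMonoidHom α.surjective χ.2) χ.2
    unfold classInner at h2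
    have h3 : ∑ g : G, (χ : G → ℂ) (α g) * conj ((χ : G → ℂ) g)
        = (Nat.card G : ℂ) * ((Nat.card G : ℂ)⁻¹ *
          ∑ g : G, (χ : G → ℂ) (α.toMonoidHom g) * conj ((χ : G → ℂ) g)) := by
      rw [← mul_assoc, mul_inv_cancel₀ hG, one_mul]
      rfl
    rw [h3, h2, mul_comm]
    rfl
  simp_rw [h1]
  rw [← Finset.sum_mul, Finset.sum_boole, Nat.card_eq_fintype_card, Fintype.card_subtype]

theorem sum_card_centralizer_of_class [Fintype G] [DecidableEq (ConjClasses G)]
    (C : ConjClasses G) :
    ∑ g ∈ Finset.univ.filter (fun g : G => ConjClasses.mk g = C),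
      (Nat.card (Subgroup.centralizer ({g} : Set G)) : ℂ) = Nat.card G := by
  classical
  set S := Finset.univ.filter (fun g : G => ConjClasses.mk g = C) with hS
  have hne : S.Nonempty := by
    obtain ⟨g, hg⟩ := ConjClasses.exists_rep C
    exact ⟨g, by simp [hS, hg]⟩
  have hc : (S.card : ℂ) ≠ 0 := by exact_mod_cast hne.card_pos.ne'
  have h1 : ∀ g ∈ S, (Nat.card (Subgroup.centralizer ({g} : Set G)) : ℂ)
      = (Nat.card G : ℂ) / S.card := by
    intro g hg
    have hg' : ConjClasses.mk g = C := (Finset.mem_filter.mp hg).2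
    have h2 := Subgroup.card_mul_index (Subgroup.centralizer ({g} : Set G))
    rw [Helper24.index_centralizer_eq_ncard] at h2
    have h3 : {h : G | IsConj g h} = (S : Set G) := by
      ext h
      simp only [hS, Set.mem_ofPred_eq, Finset.coe_filter, Finset.mem_univ, true_and]
      rw [← hg', ConjClasses.mk_eq_mk_iff_isConj, isConj_comm]
    rw [h3, Set.ncard_coe_finset] at h2
    rw [eq_div_iff hc]
    exact_mod_cast h2
  rw [Finset.sum_congr rfl h1, Finset.sum_const, nsmul_eq_mul]
  field_simp

theorem sum_card_conj_eq [Fintype G] (α : G ≃* G) :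
    ∑ g : G, (Nat.card {x : G // x * α g * x⁻¹ = g} : ℂ)
      = (Nat.card {C : ConjClasses G // ConjClasses.map α.toMonoidHom C = C} : ℂ)
        * Nat.card G := by
  classical
  have h1 : ∀ g : G, (Nat.card {x : G // x * α g * x⁻¹ = g} : ℂ)
      = if ConjClasses.map α.toMonoidHom (ConjClasses.mk g) = ConjClasses.mk g then
          (Nat.card (Subgroup.centralizer ({g} : Set G)) : ℂ) else 0 := by
    intro g
    have e : ConjClasses.map α.toMonoidHom (ConjClasses.mk g) = ConjClasses.mk (α g) := rfl
    rw [e]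
    split_ifs with h
    · rw [ConjClasses.mk_eq_mk_iff_isConj] at h
      have h2 : Nat.card {x : G // x * α g * x⁻¹ = g} = Nat.card {x : G // x * g * x⁻¹ = α g} := by
        apply Nat.card_congr
        exact
          { toFun := fun x => ⟨x.1⁻¹, by
              obtain ⟨x, hx⟩ := x
              show x⁻¹ * g * x⁻¹⁻¹ = α g
              conv_lhs => rw [← hx]
              group⟩
            invFun := fun x => ⟨x.1⁻¹, by
              obtain ⟨x, hx⟩ := x
              show x⁻¹ * α g * x⁻¹⁻¹ = g
              rw [← hx]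
              group⟩
            left_inv := fun x => by simp
            right_inv := fun x => by simp }
      rw [h2, Helper2.card_conj_eq g (α g) h.symm]
    · rw [ConjClasses.mk_eq_mk_iff_isConj] at h
      rw [Helper2.card_conj_eq_zero _ _ h, Nat.cast_zero]
  simp_rw [h1]
  rw [← Finset.sum_fiberwise Finset.univ (fun g : G => ConjClasses.mk g)]
  have h2 : ∀ C : ConjClasses G,
      ∑ g ∈ Finset.univ.filter (fun g : G => ConjClasses.mk g = C),
        (if ConjClasses.map α.toMonoidHom (ConjClasses.mk g) = ConjClasses.mk g then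
          (Nat.card (Subgroup.centralizer ({g} : Set G)) : ℂ) else 0)
      = (if ConjClasses.map α.toMonoidHom C = C then 1 else 0) * (Nat.card G : ℂ) := by
    intro C
    rw [← sum_card_centralizer_of_class C, Finset.mul_sum]
    apply Finset.sum_congr rfl
    intro g hg
    rw [(Finset.mem_filter.mp hg).2]
    split_ifs <;> simp
  simp_rw [h2]
  rw [← Finset.sum_mul, Finset.sum_boole,
    Nat.card_eq_fintype_card (α := {C : ConjClasses G // ConjClasses.map α.toMonoidHom C = C}),
    Fintype.card_subtype]

/-- Brauer's permutation lemma. -/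
theorem brauer_permutation [Finite G] (α : G ≃* G) :
    Nat.card {C : ConjClasses G // ConjClasses.map α.toMonoidHom C = C}
      = Nat.card {χ : IrrCharacter G // (χ : G → ℂ) ∘ α = (χ : G → ℂ)} := by
  cases nonempty_fintype G
  have hG : (Nat.card G : ℂ) ≠ 0 := by exact_mod_cast Nat.card_pos.ne'
  have h := (card_fixed_irr_mul α).trans (sum_card_conj_eq α)
  have h2 := mul_right_cancel₀ hG h
  exact_mod_cast h2.symm

end Cfsg.Agent.Lib.Helper25
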