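import Mathlib

set_option autoImplicit false

namespace Cfsg.Agent.Lib.Helper25

variable {Γ : Type*} [Group Γ]

/-- The fixed points of `s` in `G`. -/
def fixSub (G : Subgroup Γ) (s : Γ) : Subgroup Γ := G ⊓ Subgroup.centralizer {s}

theorem mem_fixSub {G : Subgroup Γ} {s x : Γ} : x ∈ fixSub G s ↔ x ∈ G ∧ x * s = s * x := by
  unfold fixSub
  rw [Subgroup.mem_inf, Subgroup.mem_centralizer_singleton_iff]

theorem fixSub_le (G : Subgroup Γ) (s : Γ) : fixSub G s ≤ G := inf_le_left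

/-- the power trick: `s` is a fixed power of `c s`. -/
theorem exists_pow_trick (G : Subgroup Γ) [Finite G] (s : Γ)
    (hcop : (Nat.card G).Coprime (orderOf s)) :
    ∃ m : ℕ, s ^ m = s ∧ ∀ c ∈ G, c * s = s * c → (c * s) ^ m = s := by
  obtain ⟨m, hm0, hm1⟩ := Nat.chineseRemainder hcop 0 1
  have hs : s ^ m = s := by
    conv_rhs => rw [← pow_one s]
    exact pow_eq_pow_iff_modEq.2 hm1
  refine ⟨m, hs, fun c hc hcomm => ?_⟩
  have h1 : c ^ m = 1 := by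
    obtain ⟨k, hk⟩ := (Nat.modEq_zero_iff_dvd).1 hm0
    have h2 : (⟨c, hc⟩ : G) ^ Nat.card G = 1 := pow_card_eq_one'
    have h3 : c ^ Nat.card G = 1 := congrArg Subtype.val h2
    rw [hk, pow_mul, h3, one_pow]
  have : Commute c s := hcomm
  rw [this.mul_pow, h1, hs, one_mul]

/-- The conjugation map `G × C → G`, `(h,c) ↦ h c s h⁻¹ s⁻¹`. -/
def glaubMap (G : Subgroup Γ) (s : Γ) (hs : ∀ g ∈ G, s * g * s⁻¹ ∈ G) :
    G × fixSub G s → G := fun hc =>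
  ⟨hc.1 * hc.2 * (s * (hc.1 : Γ)⁻¹ * s⁻¹),
    G.mul_mem (G.mul_mem hc.1.2 (fixSub_le G s hc.2.2)) (hs _ (G.inv_mem hc.1.2))⟩

theorem glaubMap_mul (G : Subgroup Γ) (s : Γ) (hs : ∀ g ∈ G, s * g * s⁻¹ ∈ G)
    (hc : G × fixSub G s) :
    (glaubMap G s hs hc : Γ) * s = hc.1 * (hc.2 * s) * (hc.1 : Γ)⁻¹ := by
  simp only [glaubMap]
  group

/-- two points in the same fibre differ by an element of `C`. -/
theorem glaubMap_eq (G : Subgroup Γ) [Finite G] (s : Γ) (hs : ∀ g ∈ G, s * g * s⁻¹ ∈ G)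
    (hcop : (Nat.card G).Coprime (orderOf s)) {a b : G × fixSub G s}
    (h : glaubMap G s hs a = glaubMap G s hs b) :
    (b.1 : Γ)⁻¹ * a.1 ∈ fixSub G s := by
  obtain ⟨m, hm, hpow⟩ := exists_pow_trick G s hcop
  have h1 : (a.1 : Γ) * (a.2 * s) * (a.1 : Γ)⁻¹ = b.1 * (b.2 * s) * (b.1 : Γ)⁻¹ := by
    rw [← glaubMap_mul G s hs, ← glaubMap_mul G s hs, h]
  have h2 := congrArg (· ^ m) h1
  simp only [conj_pow] at h2
  rw [hpow _ (fixSub_le G s a.2.2) (mem_fixSub.1 a.2.2).2,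
    hpow _ (fixSub_le G s b.2.2) (mem_fixSub.1 b.2.2).2] at h2
  refine mem_fixSub.2 ⟨G.mul_mem (G.inv_mem b.1.2) a.1.2, ?_⟩
  calc (b.1 : Γ)⁻¹ * a.1 * s = (b.1 : Γ)⁻¹ * (a.1 * s * (a.1 : Γ)⁻¹) * a.1 := by group
    _ = (b.1 : Γ)⁻¹ * (b.1 * s * (b.1 : Γ)⁻¹) * a.1 := by rw [h2]
    _ = s * ((b.1 : Γ)⁻¹ * a.1) := by group

theorem glaub_fiber_le [Finite Γ] [Fintype Γ] (G : Subgroup Γ) [Fintype G] (s : Γ)
    [Fintype (fixSub G s)] [DecidableEq G]
    (hs : ∀ g ∈ G, s * g * s⁻¹ ∈ G)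
    (hcop : (Nat.card G).Coprime (orderOf s)) (y : G) :
    (Finset.univ.filter (fun hc => glaubMap G s hs hc = y)).card ≤ Fintype.card (fixSub G s) := by
  classical
  rcases (Finset.univ.filter (fun hc => glaubMap G s hs hc = y)).eq_empty_or_nonempty with h | h
  · rw [h]; simp
  obtain ⟨b, hb⟩ := h
  rw [Finset.mem_filter] at hb
  rw [← Finset.card_univ]
  refine Finset.card_le_card_of_injOn
    (fun a => if h : glaubMap G s hs a = y then
      ⟨(b.1 : Γ)⁻¹ * a.1, glaubMap_eq G s hs hcop (h.trans hb.2.symm)⟩ else 1)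
    (fun _ _ => Finset.mem_coe.2 (Finset.mem_univ _)) ?_
  intro a ha a' ha' haa
  simp only [Finset.coe_filter, Finset.mem_univ, true_and, Set.mem_ofPred_eq] at ha ha'
  simp only [ha, ha', dif_pos] at haa
  have h1 : (a.1 : Γ) = a'.1 := by
    have := congrArg Subtype.val haa
    simpa using this
  have h2 : (a.1 : Γ) * (a.2 * s) * (a.1 : Γ)⁻¹ = a'.1 * (a'.2 * s) * (a'.1 : Γ)⁻¹ := by
    rw [← glaubMap_mul G s hs, ← glaubMap_mul G s hs, ha, ha']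
  rw [← h1] at h2
  have h3 : (a.2 : Γ) = a'.2 := by
    have := mul_right_cancel (mul_left_cancel (mul_right_cancel h2))
    exact this
  exact Prod.ext (Subtype.ext h1) (Subtype.ext h3)

theorem glaub_fiber_eq [Finite Γ] [Fintype Γ] (G : Subgroup Γ) [Fintype G] (s : Γ)
    [Fintype (fixSub G s)] [DecidableEq G]
    (hs : ∀ g ∈ G, s * g * s⁻¹ ∈ G)
    (hcop : (Nat.card G).Coprime (orderOf s)) (y : G) :
    (Finset.univ.filter (fun hc => glaubMap G s hs hc = y)).card = Fintype.card (fixSub G s) := by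
  classical
  have h1 : ∑ y : G, (Finset.univ.filter (fun hc => glaubMap G s hs hc = y)).card
      = ∑ _y : G, Fintype.card (fixSub G s) := by
    rw [← Finset.card_eq_sum_card_fiberwise (fun _ _ => Finset.mem_coe.2 (Finset.mem_univ _))]
    simp [Fintype.card_prod]
  exact (Finset.sum_eq_sum_iff_of_le (fun y _ => glaub_fiber_le G s hs hcop y)).1 h1 y
    (Finset.mem_univ y)

/-- Every element of the coset `G s` is `G`-conjugate to an element `c s`, `c ∈ C_G(s)`. -/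
theorem exists_conj_fix [Finite Γ] (G : Subgroup Γ) (s : Γ) (hs : ∀ g ∈ G, s * g * s⁻¹ ∈ G)
    (hcop : (Nat.card G).Coprime (orderOf s)) (y : Γ) (hy : y ∈ G) :
    ∃ h ∈ G, ∃ c ∈ fixSub G s, y * s = h * (c * s) * h⁻¹ := by
  classical
  cases nonempty_fintype Γ
  have h := glaub_fiber_eq G s hs hcop ⟨y, hy⟩
  have hpos : 0 < (Finset.univ.filter (fun hc => glaubMap G s hs hc = ⟨y, hy⟩)).card := by
    rw [h]; exact Fintype.card_pos
  obtain ⟨a, ha⟩ := Finset.card_pos.1 hpos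
  rw [Finset.mem_filter] at ha
  refine ⟨a.1, a.1.2, a.2, a.2.2, ?_⟩
  rw [← glaubMap_mul G s hs, ha.2]

/-- The sum formula. -/
theorem glaub_sum [Fintype Γ] (G : Subgroup Γ) [Fintype G] (s : Γ)
    [Fintype (fixSub G s)] (hs : ∀ g ∈ G, s * g * s⁻¹ ∈ G)
    (hcop : (Nat.card G).Coprime (orderOf s)) (F : Γ → ℂ)
    (hF : ∀ h ∈ G, ∀ x, F (h * x * h⁻¹) = F x) :
    (Nat.card G : ℂ) * ∑ c : fixSub G s, F (c * s) =
      (Nat.card (fixSub G s) : ℂ) * ∑ g : G, F (g * s) := by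
  classical
  have h1 : ∑ hc : G × fixSub G s, F (glaubMap G s hs hc * s) =
      (Nat.card G : ℂ) * ∑ c : fixSub G s, F (c * s) := by
    rw [Fintype.sum_prod_type]
    simp only [glaubMap_mul, hF _ (Subtype.coe_prop _)]
    simp [Nat.card_eq_fintype_card]
  rw [← h1, ← Finset.sum_fiberwise Finset.univ (glaubMap G s hs), Finset.mul_sum]
  refine Finset.sum_congr rfl fun y _ => ?_
  rw [Finset.sum_congr rfl (g := fun _ => F (y * s))]
  · rw [Finset.sum_const, glaub_fiber_eq G s hs hcop y, nsmul_eq_mul, Nat.card_eq_fintype_card]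
  · intro a ha
    rw [(Finset.mem_filter.1 ha).2]

/-- An `s`-invariant class of `G` meets `C_G(s)`. -/
theorem exists_conj_mem_fixSub [Finite Γ] (G : Subgroup Γ) (s : Γ)
    (hs : ∀ g ∈ G, s * g * s⁻¹ ∈ G) (hcop : (Nat.card G).Coprime (orderOf s))
    (x : Γ) (hx : x ∈ G) (g : Γ) (hg : g ∈ G) (h : s * x * s⁻¹ = g * x * g⁻¹) :
    ∃ k ∈ G, k * x * k⁻¹ ∈ fixSub G s := by
  obtain ⟨m, hm, hpow⟩ := exists_pow_trick G s hcop
  obtain ⟨k, hk, c, hc, hy⟩ := exists_conj_fix G s hs hcop g⁻¹ (G.inv_mem hg)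
  have h1 : Commute (g⁻¹ * s) x := by
    show g⁻¹ * s * x = x * (g⁻¹ * s)
    calc g⁻¹ * s * x = g⁻¹ * (s * x * s⁻¹) * s := by group
      _ = g⁻¹ * (g * x * g⁻¹) * s := by rw [h]
      _ = x * (g⁻¹ * s) := by group
  have h2 : Commute (k * s * k⁻¹) x := by
    have := h1.pow_left m
    rw [hy, conj_pow, hpow c (fixSub_le G s hc) (mem_fixSub.1 hc).2] at this
    exact this
  refine ⟨k⁻¹, G.inv_mem hk, mem_fixSub.2 ⟨G.mul_mem (G.mul_mem (G.inv_mem hk) hx)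
    (G.inv_mem (G.inv_mem hk)), ?_⟩⟩
  have h3 : k * s * k⁻¹ * x = x * (k * s * k⁻¹) := h2
  calc k⁻¹ * x * k⁻¹⁻¹ * s = k⁻¹ * (x * (k * s * k⁻¹)) * k := by group
    _ = k⁻¹ * (k * s * k⁻¹ * x) * k := by rw [h3]
    _ = s * (k⁻¹ * x * k⁻¹⁻¹) := by group

/-- Two elements of `C_G(s)` that are `G`-conjugate are `C_G(s)`-conjugate. -/
theorem exists_conj_fixSub_of_conj [Finite Γ] (G : Subgroup Γ) (s : Γ)
    (hs : ∀ g ∈ G, s * g * s⁻¹ ∈ G) (hcop : (Nat.card G).Coprime (orderOf s))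
    (x : Γ) (hx : x ∈ fixSub G s) (g : Γ) (hg : g ∈ G) (hy : g * x * g⁻¹ ∈ fixSub G s) :
    ∃ c ∈ fixSub G s, c * x * c⁻¹ = g * x * g⁻¹ := by
  set Gx : Subgroup Γ := G ⊓ Subgroup.centralizer {x} with hGx
  have hxs : x * s = s * x := (mem_fixSub.1 hx).2
  have hys : g * x * g⁻¹ * s = s * (g * x * g⁻¹) := (mem_fixSub.1 hy).2
  have hmem : ∀ z, z ∈ Gx ↔ z ∈ G ∧ z * x = x * z := by
    intro z
    rw [hGx, Subgroup.mem_inf, Subgroup.mem_centralizer_singleton_iff]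
  have hs' : ∀ z ∈ Gx, s * z * s⁻¹ ∈ Gx := by
    intro z hz
    obtain ⟨hz1, hz2⟩ := (hmem z).1 hz
    refine (hmem _).2 ⟨hs z hz1, ?_⟩
    calc s * z * s⁻¹ * x = s * z * (s⁻¹ * (x * s)) * s⁻¹ := by group
      _ = s * (z * x) * s⁻¹ := by rw [hxs]; group
      _ = s * (x * z) * s⁻¹ := by rw [hz2]
      _ = (s * x) * z * s⁻¹ := by group
      _ = x * (s * z * s⁻¹) := by rw [← hxs]; group
  have hcop' : (Nat.card Gx).Coprime (orderOf s) :=
    Nat.Coprime.coprime_dvd_left (Subgroup.card_dvd_of_le inf_le_left) hcop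
  have hw : g⁻¹ * (s * g * s⁻¹) ∈ Gx := by
    refine (hmem _).2 ⟨G.mul_mem (G.inv_mem hg) (hs g hg), ?_⟩
    calc g⁻¹ * (s * g * s⁻¹) * x = g⁻¹ * s * g * (s⁻¹ * (x * s)) * s⁻¹ := by group
      _ = g⁻¹ * (s * (g * x * g⁻¹)) * g * s⁻¹ := by rw [hxs]; group
      _ = g⁻¹ * (g * x * g⁻¹ * s) * g * s⁻¹ := by rw [hys]
      _ = x * (g⁻¹ * (s * g * s⁻¹)) := by group
  obtain ⟨m, hm, hpow⟩ := exists_pow_trick Gx s hcop'
  obtain ⟨k, hk, c, hc, he⟩ := exists_conj_fix Gx s hs' hcop' _ hw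
  have he' : g⁻¹ * s * g = k * (c * s) * k⁻¹ := by
    rw [← he]; group
  have h2 := congrArg (· ^ m) he'
  simp only [conj_pow] at h2
  have h2' : g⁻¹ * s ^ m * g = (g⁻¹ * s * g) ^ m := by
    have := conj_pow (i := m) (a := g⁻¹) (b := s)
    rw [inv_inv] at this
    exact this.symm
  rw [← h2', hm, hpow c (fixSub_le Gx s hc) (mem_fixSub.1 hc).2] at h2
  obtain ⟨hk1, hk2⟩ := (hmem k).1 hk
  refine ⟨g * k, mem_fixSub.2 ⟨G.mul_mem hg hk1, ?_⟩, ?_⟩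
  · calc g * k * s = g * (k * s * k⁻¹) * k := by group
      _ = g * (g⁻¹ * s * g) * k := by rw [h2]
      _ = s * (g * k) := by group
  · calc g * k * x * (g * k)⁻¹ = g * (k * x) * k⁻¹ * g⁻¹ := by group
      _ = g * (x * k) * k⁻¹ * g⁻¹ := by rw [hk2]
      _ = g * x * g⁻¹ := by group

end Cfsg.Agent.Lib.Helper25
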