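import Mathlib
import Cfsg.Agent.Lib.Helper25.Glaub1
import Cfsg.Agent.Lib.Helper25.BrauerPerm
import Cfsg.Agent.Lib.Helper7.CharColumn

set_option autoImplicit false

namespace Cfsg.Agent.Lib.Helper25

open Cfsg

variable {Γ : Type*} [Group Γ]

/-- conjugation by `s` as an endomorphism of `G`. -/
def conjHom (G : Subgroup Γ) (s : Γ) (hs : ∀ g ∈ G, s * g * s⁻¹ ∈ G) : G →* G where
  toFun g := ⟨s * g * s⁻¹, hs g g.2⟩
  map_one' := by ext; simp
  map_mul' a b := by ext; simp

theorem conjHom_injective (G : Subgroup Γ) (s : Γ) (hs : ∀ g ∈ G, s * g * s⁻¹ ∈ G) :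
    Function.Injective (conjHom G s hs) := by
  intro a b h
  have := congrArg Subtype.val h
  simp only [conjHom, MonoidHom.coe_mk, OneHom.coe_mk] at this
  exact Subtype.ext (mul_left_cancel (mul_right_cancel this))

/-- conjugation by `s` as an automorphism of `G`. -/
noncomputable def conjAut (G : Subgroup Γ) [Finite G] (s : Γ) (hs : ∀ g ∈ G, s * g * s⁻¹ ∈ G) :
    G ≃* G :=
  MulEquiv.ofBijective (conjHom G s hs) (Finite.injective_iff_bijective.1 (conjHom_injective G s hs))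

theorem conjAut_apply (G : Subgroup Γ) [Finite G] (s : Γ) (hs : ∀ g ∈ G, s * g * s⁻¹ ∈ G) (g : G) :
    (conjAut G s hs g : Γ) = s * g * s⁻¹ := rfl

theorem card_conjClasses_fixSub [Finite Γ] (G : Subgroup Γ) (s : Γ)
    (hs : ∀ g ∈ G, s * g * s⁻¹ ∈ G) (hcop : (Nat.card G).Coprime (orderOf s)) :
    Nat.card (ConjClasses (fixSub G s)) =
      Nat.card {K : ConjClasses G // ConjClasses.map (conjAut G s hs).toMonoidHom K = K} := by
  have hfix : ∀ c : fixSub G s, conjAut G s hs (Subgroup.inclusion (fixSub_le G s) c) =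
      Subgroup.inclusion (fixSub_le G s) c := by
    intro c
    apply Subtype.ext
    rw [conjAut_apply]
    have := (mem_fixSub.1 c.2).2
    show s * (c : Γ) * s⁻¹ = c
    rw [← this]; group
  let f : ConjClasses (fixSub G s) →
      {K : ConjClasses G // ConjClasses.map (conjAut G s hs).toMonoidHom K = K} := fun c =>
    ⟨ConjClasses.map (Subgroup.inclusion (fixSub_le G s)) c, by
      obtain ⟨c, rfl⟩ := ConjClasses.exists_rep c
      show ConjClasses.mk (conjAut G s hs (Subgroup.inclusion (fixSub_le G s) c)) = _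
      rw [hfix]; rfl⟩
  refine Nat.card_congr (Equiv.ofBijective f ⟨?_, ?_⟩)
  · intro a b hab
    obtain ⟨a, rfl⟩ := ConjClasses.exists_rep a
    obtain ⟨b, rfl⟩ := ConjClasses.exists_rep b
    have h1 : ConjClasses.mk (Subgroup.inclusion (fixSub_le G s) a) =
        ConjClasses.mk (Subgroup.inclusion (fixSub_le G s) b) := congrArg Subtype.val hab
    rw [ConjClasses.mk_eq_mk_iff_isConj, isConj_iff] at h1
    obtain ⟨g, hg⟩ := h1
    have hg' : (g : Γ) * a * (g : Γ)⁻¹ = b := congrArg Subtype.val hg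
    obtain ⟨c, hc, hcx⟩ := exists_conj_fixSub_of_conj G s hs hcop a a.2 g g.2 (by rw [hg']; exact b.2)
    rw [ConjClasses.mk_eq_mk_iff_isConj, isConj_iff]
    refine ⟨⟨c, hc⟩, Subtype.ext ?_⟩
    show c * (a : Γ) * c⁻¹ = b
    rw [hcx, hg']
  · rintro ⟨K, hK⟩
    obtain ⟨x, rfl⟩ := ConjClasses.exists_rep K
    have h1 : ConjClasses.mk (conjAut G s hs x) = ConjClasses.mk x := hK
    rw [ConjClasses.mk_eq_mk_iff_isConj, isConj_comm, isConj_iff] at h1
    obtain ⟨g, hg⟩ := h1
    have hg' : (g : Γ) * x * (g : Γ)⁻¹ = s * x * s⁻¹ := congrArg Subtype.val hg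
    obtain ⟨k, hk, hkx⟩ := exists_conj_mem_fixSub G s hs hcop x x.2 g g.2 hg'.symm
    refine ⟨ConjClasses.mk ⟨k * x * k⁻¹, hkx⟩, Subtype.ext ?_⟩
    show ConjClasses.mk (Subgroup.inclusion (fixSub_le G s) ⟨k * x * k⁻¹, hkx⟩) = ConjClasses.mk x
    rw [ConjClasses.mk_eq_mk_iff_isConj, isConj_comm, isConj_iff]
    exact ⟨⟨k, hk⟩, Subtype.ext rfl⟩

/-- The number of `s`-invariant irreducible characters of `G` is the number of irreducible
characters of `C_G(s)`. -/
theorem card_irr_fixSub [Finite Γ] (G : Subgroup Γ) (s : Γ)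
    (hs : ∀ g ∈ G, s * g * s⁻¹ ∈ G) (hcop : (Nat.card G).Coprime (orderOf s)) :
    Nat.card {χ : IrrCharacter G // (χ : G → ℂ) ∘ conjAut G s hs = (χ : G → ℂ)} =
      Nat.card (IrrCharacter (fixSub G s)) := by
  rw [← brauer_permutation, ← card_conjClasses_fixSub G s hs hcop,
    Cfsg.Agent.Lib.Helper7.card_irr_eq_card_conjClasses]

end Cfsg.Agent.Lib.Helper25
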