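import Mathlib
import Cfsg.Agent.Lib.Helper25.CosetNorm
import Cfsg.Agent.Lib.Helper7.CharComplete

set_option autoImplicit false

namespace Cfsg.Agent.Lib.Helper25

open Cfsg
open scoped ComplexConjugate

variable {Γ : Type*} [Group Γ]

theorem sum_subgroup_eq [Fintype Γ] (G : Subgroup Γ) [Fintype G] [DecidablePred (· ∈ G)]
    (u : Γ → ℂ) : ∑ g : G, u g = ∑ x : Γ, if x ∈ G then u x else 0 := by
  rw [← Finset.sum_filter, Finset.sum_subtype (p := (· ∈ G)) _ (by simp)]

/-- the block-idempotent formula. -/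
theorem sum_conj_mul_shift [Fintype Γ] (G : Subgroup Γ) [hG : G.Normal] [Fintype G]
    {Ξ Ξ' : Γ → ℂ} (hΞ : IsIrrCharacter Γ Ξ) (hΞ' : IsCharacter Γ Ξ') (h : Γ) :
    ∑ g : G, conj (Ξ' g) * Ξ (g * h) = (∑ g : G, conj (Ξ' g) * Ξ g) * Ξ h / Ξ 1 := by
  classical
  have hcl := Helper7.isClassFunction_of_isCharacter hΞ'
  have ha : IsClassFunction Γ (fun x => if x ∈ G then conj (Ξ' x) else 0) := by
    intro g k
    have : k * g * k⁻¹ ∈ G ↔ g ∈ G := hG.mem_comm_iff.trans (by rw [inv_mul_cancel_left])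
    simp only [this, hcl g k]
  have := Helper7.irr_sum_mul hΞ _ ha h
  simp only [ite_mul, zero_mul] at this
  rw [← sum_subgroup_eq G (fun x => conj (Ξ' x) * Ξ (x * h)),
    ← sum_subgroup_eq G (fun x => conj (Ξ' x) * Ξ x)] at this
  exact this

theorem coset_orth [Fintype Γ] (G : Subgroup Γ) [hG : G.Normal] [Fintype G]
    {Ξ Ξ' : Γ → ℂ} (hΞ : IsIrrCharacter Γ Ξ) (hΞ' : IsIrrCharacter Γ Ξ')
    (hres : IsIrrCharacter G (fun g : G => Ξ g)) (hres' : IsIrrCharacter G (fun g : G => Ξ' g))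
    (hne : (fun g : G => Ξ g) ≠ fun g : G => Ξ' g) (s : Γ) :
    ∑ g : G, Ξ (g * s) * conj (Ξ' (g * s)) = 0 := by
  classical
  have hN : (Nat.card G : ℂ) ≠ 0 := by exact_mod_cast Nat.card_pos.ne'
  have hc' := Helper7.isCharacter_of_irr hΞ'
  obtain ⟨d, hd, hd1⟩ := Helper7.irr_apply_one hΞ'
  have hd0 : (d : ℂ) ≠ 0 := by exact_mod_cast hd.ne'
  have h0 : ∑ g : G, conj (Ξ' g) * Ξ g = 0 := by
    have := Helper7.classInner_irr_ne hres hres' hne
    unfold classInner at this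
    rcases mul_eq_zero.1 this with h | h
    · exact absurd (inv_eq_zero.1 h) hN
    · rw [← h]; exact Finset.sum_congr rfl fun g _ => mul_comm _ _
  have h1 : ∑ g : G, conj (Ξ' g) * Ξ' g = Nat.card G := by
    have := Helper7.classInner_irr_self hres'
    unfold classInner at this
    rw [inv_mul_eq_iff_eq_mul₀ hN, mul_one] at this
    rw [← this]; exact Finset.sum_congr rfl fun g _ => mul_comm _ _
  have hT : ∀ h : Γ, ∑ g : G, conj (Ξ' g) * Ξ (g * h) = 0 := by
    intro h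
    rw [sum_conj_mul_shift G hΞ hc' h, h0]; simp
  have hT' : ∀ h : Γ, Ξ' h = (d : ℂ) / Nat.card G * ∑ g : G, conj (Ξ' g) * Ξ' (g * h) := by
    intro h
    rw [sum_conj_mul_shift G hΞ' hc' h, h1, hd1]
    field_simp
  have hT'' : ∀ h : Γ, conj (Ξ' h) = (d : ℂ) / Nat.card G * ∑ g : G, Ξ' g * conj (Ξ' (g * h)) := by
    intro h
    conv_lhs => rw [hT' h]
    simp only [map_mul, map_div₀, map_natCast, map_sum, Complex.conj_conj]
  calc ∑ y : G, Ξ (y * s) * conj (Ξ' (y * s))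
      = (d : ℂ) / Nat.card G * ∑ y : G, ∑ g : G, Ξ (y * s) * (Ξ' g * conj (Ξ' (g * (y * s)))) := by
        rw [Finset.mul_sum]
        refine Finset.sum_congr rfl fun y _ => ?_
        rw [hT'' (y * s), Finset.mul_sum, Finset.mul_sum, Finset.mul_sum]
        refine Finset.sum_congr rfl fun g _ => ?_
        ring
    _ = (d : ℂ) / Nat.card G * ∑ g : G, ∑ y : G, Ξ (y * s) * (Ξ' g * conj (Ξ' (g * (y * s)))) := by
        rw [Finset.sum_comm]
    _ = (d : ℂ) / Nat.card G * ∑ g : G, ∑ y : G,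
          Ξ ((g : Γ)⁻¹ * (y * s)) * (Ξ' g * conj (Ξ' (y * s))) := by
        congr 1
        refine Finset.sum_congr rfl fun g _ => ?_
        rw [← Equiv.sum_comp (Equiv.mulLeft g⁻¹)]
        refine Finset.sum_congr rfl fun y _ => ?_
        simp only [Equiv.coe_mulLeft, Subgroup.coe_mul, Subgroup.coe_inv]
        rw [mul_assoc (g : Γ)⁻¹, mul_inv_cancel_left]
    _ = (d : ℂ) / Nat.card G * ∑ y : G, conj (Ξ' (y * s)) *
          ∑ g : G, conj (Ξ' g) * Ξ (g * (y * s)) := by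
        congr 1
        rw [Finset.sum_comm]
        refine Finset.sum_congr rfl fun y _ => ?_
        rw [Finset.mul_sum, ← Equiv.sum_comp (Equiv.inv G)]
        refine Finset.sum_congr rfl fun g _ => ?_
        simp only [Equiv.inv_apply, Subgroup.coe_inv, inv_inv]
        rw [Helper7.char_inv_eq_conj hc']
        ring
    _ = 0 := by simp only [hT, mul_zero, Finset.sum_const_zero]

end Cfsg.Agent.Lib.Helper25
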