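import Mathlib
import Cfsg.Agent.Lib.Helper7.CharComplete
import Cfsg.Agent.Lib.Helper2.CharInner
import Cfsg.Agent.Lib.Helper25.Irr

set_option autoImplicit false

namespace Cfsg.Agent.Lib.Helper25

open Cfsg
open scoped ComplexConjugate

universe u

variable {G D C : Type u} [Group G] [Group D] [Group C]

/-- `β` occurs in the restriction of `χ` with multiplicity prime to `p`. -/
def Corr (p : ℕ) [Fintype C] (ι : C →* G) (χ : G → ℂ) (β : C → ℂ) : Prop :=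
  ∃ m : ℕ, classInner (χ ∘ ι) β = m ∧ ¬ p ∣ m

/-- The clauses of the Glauberman correspondence for `p`-groups. -/
structure GlaubP (p : ℕ) [Fintype C] (ι : C →* G) (inv : (G → ℂ) → Prop) : Prop where
  ex : ∀ χ, IsIrrCharacter G χ → inv χ → ∃ β, IsIrrCharacter C β ∧ Corr p ι χ β
  uniq : ∀ χ, IsIrrCharacter G χ → inv χ → ∀ β β', IsIrrCharacter C β → IsIrrCharacter C β' →
    Corr p ι χ β → Corr p ι χ β' → β = β'
  pm : ∀ χ, IsIrrCharacter G χ → inv χ → ∀ β, IsIrrCharacter C β → ∀ m : ℕ,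
    classInner (χ ∘ ι) β = m → ¬ p ∣ m → ((m : ℤ) ≡ 1 [ZMOD p] ∨ (m : ℤ) ≡ -1 [ZMOD p])
  inj : ∀ χ χ', IsIrrCharacter G χ → IsIrrCharacter G χ' → inv χ → inv χ' →
    ∀ β, IsIrrCharacter C β → Corr p ι χ β → Corr p ι χ' β → χ = χ'
  surj : ∀ β, IsIrrCharacter C β → ∃ χ, IsIrrCharacter G χ ∧ inv χ ∧ Corr p ι χ β

theorem classInner_comp_equiv {C' : Type u} [Group C'] [Fintype C] [Fintype C'] (e : C' ≃* C)
    (a b : C → ℂ) : classInner (a ∘ e) (b ∘ e) = classInner a b := by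
  unfold classInner
  rw [Nat.card_congr e.toEquiv, ← Equiv.sum_comp e.toEquiv]
  rfl

theorem isIrrCharacter_comp_equiv {G' : Type u} [Group G'] (e : G' ≃* G) {χ : G → ℂ}
    (h : IsIrrCharacter G χ) : IsIrrCharacter G' (χ ∘ e) :=
  isIrrCharacter_comp_surjective e.toMonoidHom e.surjective h

theorem isIrrCharacter_comp_equiv_iff {G' : Type u} [Group G'] (e : G' ≃* G) {χ : G → ℂ} :
    IsIrrCharacter G' (χ ∘ e) ↔ IsIrrCharacter G χ := by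
  refine ⟨fun h => ?_, isIrrCharacter_comp_equiv e⟩
  have := isIrrCharacter_comp_equiv e.symm h
  have h2 : (χ ∘ e) ∘ e.symm = χ := by ext x; simp
  rwa [h2] at this

theorem classInner_transport {G' C' : Type u} [Group G'] [Group C'] [Fintype C] [Fintype C']
    (eG : G' ≃* G) (eC : C' ≃* C) (ι : C →* G) (ι' : C' →* G')
    (hcomm : ∀ c, ι (eC c) = eG (ι' c)) (χ : G → ℂ) (β : C → ℂ) :
    classInner ((χ ∘ eG) ∘ ι') (β ∘ eC) = classInner (χ ∘ ι) β := by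
  rw [← classInner_comp_equiv eC]
  congr 1
  ext c
  simp [hcomm]

theorem GlaubP.transport {p : ℕ} {G' C' : Type u} [Group G'] [Group C'] [Fintype C] [Fintype C']
    (eG : G' ≃* G) (eC : C' ≃* C) (ι : C →* G) (ι' : C' →* G')
    (hcomm : ∀ c, ι (eC c) = eG (ι' c)) (inv : (G → ℂ) → Prop) (inv' : (G' → ℂ) → Prop)
    (hinv : ∀ χ, inv χ ↔ inv' (χ ∘ eG)) (h : GlaubP p ι' inv') : GlaubP p ι inv := by
  have hc : ∀ (χ : G → ℂ) (β : C → ℂ), Corr p ι χ β ↔ Corr p ι' (χ ∘ eG) (β ∘ eC) := by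
    intro χ β
    unfold Corr
    rw [classInner_transport eG eC ι ι' hcomm]
  have hback : ∀ β' : C' → ℂ, (β' ∘ eC.symm) ∘ eC = β' := by intro β'; ext x; simp
  have hbackG : ∀ χ' : G' → ℂ, (χ' ∘ eG.symm) ∘ eG = χ' := by intro β'; ext x; simp
  have hinjC : ∀ β β' : C → ℂ, β ∘ eC = β' ∘ eC → β = β' := by
    intro β β' hb
    ext x
    have := congrFun hb (eC.symm x)
    simpa using this
  have hinjG : ∀ β β' : G → ℂ, β ∘ eG = β' ∘ eG → β = β' := by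
    intro β β' hb
    ext x
    have := congrFun hb (eG.symm x)
    simpa using this
  constructor
  · intro χ hχ hi
    obtain ⟨β', hβ', hcor⟩ := h.ex _ (isIrrCharacter_comp_equiv eG hχ) ((hinv χ).1 hi)
    refine ⟨β' ∘ eC.symm, isIrrCharacter_comp_equiv eC.symm hβ', ?_⟩
    rw [hc, hback]
    exact hcor
  · intro χ hχ hi β β' hβ hβ' h1 h2
    exact hinjC _ _ (h.uniq _ (isIrrCharacter_comp_equiv eG hχ) ((hinv χ).1 hi) _ _
      (isIrrCharacter_comp_equiv eC hβ) (isIrrCharacter_comp_equiv eC hβ') ((hc _ _).1 h1)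
      ((hc _ _).1 h2))
  · intro χ hχ hi β hβ m hm hpm
    exact h.pm _ (isIrrCharacter_comp_equiv eG hχ) ((hinv χ).1 hi) _
      (isIrrCharacter_comp_equiv eC hβ) m
      (by rw [classInner_transport eG eC ι ι' hcomm]; exact hm) hpm
  · intro χ χ' hχ hχ' hi hi' β hβ h1 h2
    exact hinjG _ _ (h.inj _ _ (isIrrCharacter_comp_equiv eG hχ) (isIrrCharacter_comp_equiv eG hχ')
      ((hinv χ).1 hi) ((hinv χ').1 hi') _ (isIrrCharacter_comp_equiv eC hβ) ((hc _ _).1 h1)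
      ((hc _ _).1 h2))
  · intro β hβ
    obtain ⟨χ', hχ', hi', hcor⟩ := h.surj _ (isIrrCharacter_comp_equiv eC hβ)
    refine ⟨χ' ∘ eG.symm, isIrrCharacter_comp_equiv eG.symm hχ', ?_, ?_⟩
    · rw [hinv, hbackG]; exact hi'
    · rw [hc, hbackG]; exact hcor

/-- the trivial case. -/
theorem GlaubP.of_bijective {p : ℕ} (hp : p.Prime) [Fintype C] (ι : C →* G)
    (hι : Function.Bijective ι) (inv : (G → ℂ) → Prop)
    (hinv : ∀ χ, IsIrrCharacter G χ → inv χ) : GlaubP p ι inv := by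
  let e : C ≃* G := MulEquiv.ofBijective ι hι
  have he : ∀ χ : G → ℂ, χ ∘ ι = χ ∘ e := fun χ => rfl
  have hirr : ∀ χ, IsIrrCharacter G χ → IsIrrCharacter C (χ ∘ ι) := fun χ hχ =>
    isIrrCharacter_comp_equiv e hχ
  have key : ∀ χ, IsIrrCharacter G χ → ∀ β, IsIrrCharacter C β → ∀ m : ℕ,
      classInner (χ ∘ ι) β = m → ¬ p ∣ m → β = χ ∘ ι ∧ m = 1 := by
    intro χ hχ β hβ m hm hpm
    rw [Helper7.classInner_irr (hirr χ hχ) hβ] at hm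
    split_ifs at hm with h
    · exact ⟨h.symm, by exact_mod_cast hm.symm⟩
    · exfalso
      apply hpm
      have : m = 0 := by exact_mod_cast hm.symm
      rw [this]; exact dvd_zero p
  have hself : ∀ χ, IsIrrCharacter G χ → Corr p ι χ (χ ∘ ι) := fun χ hχ =>
    ⟨1, by rw [Helper7.classInner_irr_self (hirr χ hχ)]; simp, hp.one_lt.ne' ∘ Nat.dvd_one.1⟩
  constructor
  · intro χ hχ _
    exact ⟨χ ∘ ι, hirr χ hχ, hself χ hχ⟩
  · rintro χ hχ _ β β' hβ hβ' ⟨m, hm, hpm⟩ ⟨m', hm', hpm'⟩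
    rw [(key χ hχ β hβ m hm hpm).1, (key χ hχ β' hβ' m' hm' hpm').1]
  · intro χ hχ _ β hβ m hm hpm
    left
    rw [(key χ hχ β hβ m hm hpm).2]
    rfl
  · rintro χ χ' hχ hχ' _ _ β hβ ⟨m, hm, hpm⟩ ⟨m', hm', hpm'⟩
    have h1 := (key χ hχ β hβ m hm hpm).1
    have h2 := (key χ' hχ' β hβ m' hm' hpm').1
    ext x
    obtain ⟨c, rfl⟩ := hι.2 x
    exact congrFun (h1.symm.trans h2) c
  · intro β hβ
    have hχ : IsIrrCharacter G (β ∘ e.symm) := isIrrCharacter_comp_equiv e.symm hβ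
    refine ⟨β ∘ e.symm, hχ, hinv _ hχ, ?_⟩
    have := hself _ hχ
    have h2 : (β ∘ e.symm) ∘ ι = β := by
      ext c
      show β (e.symm (e c)) = β c
      simp
    rwa [h2] at this

/-- multiplicities through an intermediate group, modulo `p`. -/
theorem mult_comp {p : ℕ} [Fintype D] [Fintype C] (ι₁ : D →* G) (ι₂ : C →* D)
    {χ : G → ℂ} (hχ : IsCharacter G χ) {γ₀ : D → ℂ} (hγ₀ : IsIrrCharacter D γ₀)
    (hother : ∀ γ, IsIrrCharacter D γ → γ ≠ γ₀ → ∀ m : ℕ, classInner (χ ∘ ι₁) γ = m → p ∣ m)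
    {ξ : C → ℂ} (hξ : IsCharacter C ξ) {M m₀ r : ℕ}
    (hM : classInner (χ ∘ (ι₁.comp ι₂)) ξ = M) (hm₀ : classInner (χ ∘ ι₁) γ₀ = m₀)
    (hr : classInner (γ₀ ∘ ι₂) ξ = r) : ∃ q : ℕ, M = m₀ * r + p * q := by
  classical
  have : Finite (IrrCharacter D) := Helper2.finite_irrCharacter
  let _ : Fintype (IrrCharacter D) := Fintype.ofFinite _
  obtain ⟨m, hm, hsum⟩ := Helper7.character_eq_sum_nat (Helper7.isCharacter_comp_hom hχ ι₁)
  choose r' hr' using fun γ : IrrCharacter D => Helper7.classInner_char_nat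
    (Helper7.isCharacter_comp_hom (Helper7.isCharacter_of_irr γ.2) ι₂) hξ
  have h1 : χ ∘ (ι₁.comp ι₂) = ∑ γ : IrrCharacter D, (m γ : ℂ) • ((γ : D → ℂ) ∘ ι₂) := by
    ext c
    have := congrFun hsum (ι₂ c)
    simp only [Function.comp_apply, MonoidHom.coe_comp] at this ⊢
    rw [this]
    simp only [Finset.sum_apply, Pi.smul_apply, Function.comp_apply]
    simp only [nsmul_eq_mul, smul_eq_mul]
  have h2 : (M : ℂ) = ∑ γ : IrrCharacter D, (m γ : ℂ) * (r' γ : ℂ) := by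
    rw [← hM, h1, Helper7.classInner_sum_left]
    refine Finset.sum_congr rfl fun γ _ => ?_
    rw [Helper7.classInner_smul_left, hr']
  have h3 : M = ∑ γ : IrrCharacter D, m γ * r' γ := by exact_mod_cast h2
  have hm0 : m ⟨γ₀, hγ₀⟩ = m₀ := by
    have := hm ⟨γ₀, hγ₀⟩
    rw [hm₀] at this
    exact_mod_cast this.symm
  have hr0 : r' ⟨γ₀, hγ₀⟩ = r := by
    have := hr' ⟨γ₀, hγ₀⟩
    rw [hr] at this
    exact_mod_cast this.symm
  rw [← Finset.add_sum_erase _ _ (Finset.mem_univ (⟨γ₀, hγ₀⟩ : IrrCharacter D)), hm0, hr0] at h3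
  have h4 : p ∣ ∑ γ ∈ Finset.univ.erase (⟨γ₀, hγ₀⟩ : IrrCharacter D), m γ * r' γ := by
    refine Finset.dvd_sum fun γ hγ => ?_
    have hne : (γ : D → ℂ) ≠ γ₀ := fun h => (Finset.ne_of_mem_erase hγ) (Subtype.ext h)
    exact Dvd.dvd.mul_right (hother γ γ.2 hne _ (hm γ)) _
  obtain ⟨q, hq⟩ := h4
  exact ⟨q, by rw [h3, hq]⟩

theorem GlaubP.other {p : ℕ} [Fintype C] {ι : C →* G} {inv : (G → ℂ) → Prop}
    (h : GlaubP p ι inv) {χ : G → ℂ} (hχ : IsIrrCharacter G χ) (hi : inv χ) {β : C → ℂ}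
    (hβ : IsIrrCharacter C β) (hc : Corr p ι χ β) :
    ∀ γ, IsIrrCharacter C γ → γ ≠ β → ∀ m : ℕ, classInner (χ ∘ ι) γ = m → p ∣ m := by
  intro γ hγ hne m hm
  by_contra hpm
  exact hne (h.uniq χ hχ hi γ β hγ hβ ⟨m, hm, hpm⟩ hc)

theorem GlaubP.comp {p : ℕ} (hp : p.Prime) [Fintype D] [Fintype C] (ι₁ : D →* G) (ι₂ : C →* D)
    (inv₁ inv : (G → ℂ) → Prop) (inv₂ : (D → ℂ) → Prop)
    (h₁ : GlaubP p ι₁ inv₁) (h₂ : GlaubP p ι₂ inv₂) (hle : ∀ χ, inv χ → inv₁ χ)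
    (hdown : ∀ χ γ, IsIrrCharacter G χ → IsIrrCharacter D γ → inv χ → Corr p ι₁ χ γ → inv₂ γ)
    (hup : ∀ χ γ, IsIrrCharacter G χ → IsIrrCharacter D γ → inv₁ χ → Corr p ι₁ χ γ → inv₂ γ →
      inv χ) : GlaubP p (ι₁.comp ι₂) inv := by
  -- the key equivalence
  have key : ∀ χ γ, IsIrrCharacter G χ → IsIrrCharacter D γ → inv₁ χ → Corr p ι₁ χ γ →
      ∀ ξ, IsIrrCharacter C ξ → ∀ M m₀ r : ℕ, classInner (χ ∘ (ι₁.comp ι₂)) ξ = M →
      classInner (χ ∘ ι₁) γ = m₀ → classInner (γ ∘ ι₂) ξ = r → ∃ q : ℕ, M = m₀ * r + p * q := by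
    intro χ γ hχ hγ hi hc ξ hξ M m₀ r hM hm₀ hr
    exact mult_comp ι₁ ι₂ (Helper7.isCharacter_of_irr hχ) hγ (h₁.other hχ hi hγ hc)
      (Helper7.isCharacter_of_irr hξ) hM hm₀ hr
  have hnat : ∀ χ, IsIrrCharacter G χ → ∀ ξ, IsIrrCharacter C ξ →
      ∃ M : ℕ, classInner (χ ∘ (ι₁.comp ι₂)) ξ = M := fun χ hχ ξ hξ =>
    Helper7.classInner_char_nat (Helper7.isCharacter_comp_hom (Helper7.isCharacter_of_irr hχ) _)
      (Helper7.isCharacter_of_irr hξ)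
  have hnat2 : ∀ γ, IsIrrCharacter D γ → ∀ ξ, IsIrrCharacter C ξ →
      ∃ M : ℕ, classInner (γ ∘ ι₂) ξ = M := fun χ hχ ξ hξ =>
    Helper7.classInner_char_nat (Helper7.isCharacter_comp_hom (Helper7.isCharacter_of_irr hχ) _)
      (Helper7.isCharacter_of_irr hξ)
  have hiff : ∀ χ γ, IsIrrCharacter G χ → IsIrrCharacter D γ → inv₁ χ → Corr p ι₁ χ γ →
      ∀ ξ, IsIrrCharacter C ξ → (Corr p (ι₁.comp ι₂) χ ξ ↔ Corr p ι₂ γ ξ) := by
    intro χ γ hχ hγ hi hc ξ hξ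
    obtain ⟨m₀, hm₀, hpm₀⟩ := hc
    constructor
    · rintro ⟨M, hM, hpM⟩
      obtain ⟨r, hr⟩ := hnat2 γ hγ ξ hξ
      obtain ⟨q, hq⟩ := key χ γ hχ hγ hi ⟨m₀, hm₀, hpm₀⟩ ξ hξ M m₀ r hM hm₀ hr
      refine ⟨r, hr, fun hpr => hpM ?_⟩
      rw [hq]
      exact dvd_add (Dvd.dvd.mul_left hpr _) (dvd_mul_right _ _)
    · rintro ⟨r, hr, hpr⟩
      obtain ⟨M, hM⟩ := hnat χ hχ ξ hξ
      obtain ⟨q, hq⟩ := key χ γ hχ hγ hi ⟨m₀, hm₀, hpm₀⟩ ξ hξ M m₀ r hM hm₀ hr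
      refine ⟨M, hM, fun hpM => ?_⟩
      rw [hq, Nat.dvd_add_left (dvd_mul_right _ _)] at hpM
      rcases hp.dvd_mul.1 hpM with h | h
      · exact hpm₀ h
      · exact hpr h
  constructor
  · intro χ hχ hi
    obtain ⟨γ, hγ, hc⟩ := h₁.ex χ hχ (hle χ hi)
    obtain ⟨β, hβ, hc2⟩ := h₂.ex γ hγ (hdown χ γ hχ hγ hi hc)
    exact ⟨β, hβ, (hiff χ γ hχ hγ (hle χ hi) hc β hβ).2 hc2⟩
  · intro χ hχ hi β β' hβ hβ' hc1 hc2
    obtain ⟨γ, hγ, hc⟩ := h₁.ex χ hχ (hle χ hi)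
    exact h₂.uniq γ hγ (hdown χ γ hχ hγ hi hc) β β' hβ hβ'
      ((hiff χ γ hχ hγ (hle χ hi) hc β hβ).1 hc1) ((hiff χ γ hχ hγ (hle χ hi) hc β' hβ').1 hc2)
  · intro χ hχ hi β hβ M hM hpM
    obtain ⟨γ, hγ, hc⟩ := h₁.ex χ hχ (hle χ hi)
    obtain ⟨r, hr, hpr⟩ := (hiff χ γ hχ hγ (hle χ hi) hc β hβ).1 ⟨M, hM, hpM⟩
    obtain ⟨m₀, hm₀, hpm₀⟩ := hc
    obtain ⟨q, hq⟩ := key χ γ hχ hγ (hle χ hi) ⟨m₀, hm₀, hpm₀⟩ β hβ M m₀ r hM hm₀ hr
    have e1 := h₁.pm χ hχ (hle χ hi) γ hγ m₀ hm₀ hpm₀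
    have e2 := h₂.pm γ hγ (hdown χ γ hχ hγ hi ⟨m₀, hm₀, hpm₀⟩) β hβ r hr hpr
    have e3 : (M : ℤ) ≡ (m₀ : ℤ) * r [ZMOD p] := by
      rw [hq]
      push_cast
      rw [Int.modEq_iff_dvd]
      exact ⟨-q, by ring⟩
    rcases e1 with e1 | e1 <;> rcases e2 with e2 | e2
    · left; exact e3.trans (by simpa using e1.mul e2)
    · right; exact e3.trans (by simpa using e1.mul e2)
    · right; exact e3.trans (by simpa using e1.mul e2)
    · left; exact e3.trans (by simpa using e1.mul e2)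
  · intro χ χ' hχ hχ' hi hi' β hβ hc1 hc2
    obtain ⟨γ, hγ, hc⟩ := h₁.ex χ hχ (hle χ hi)
    obtain ⟨γ', hγ', hc'⟩ := h₁.ex χ' hχ' (hle χ' hi')
    have e : γ = γ' := h₂.inj γ γ' hγ hγ' (hdown χ γ hχ hγ hi hc) (hdown χ' γ' hχ' hγ' hi' hc') β hβ
      ((hiff χ γ hχ hγ (hle χ hi) hc β hβ).1 hc1) ((hiff χ' γ' hχ' hγ' (hle χ' hi') hc' β hβ).1 hc2)
    subst e
    exact h₁.inj χ χ' hχ hχ' (hle χ hi) (hle χ' hi') γ hγ hc hc'
  · intro β hβ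
    obtain ⟨γ, hγ, hi2, hc2⟩ := h₂.surj β hβ
    obtain ⟨χ, hχ, hi1, hc1⟩ := h₁.surj γ hγ
    exact ⟨χ, hχ, hup χ γ hχ hγ hi1 hc1 hi2, (hiff χ γ hχ hγ hi1 hc1 β hβ).2 hc2⟩

end Cfsg.Agent.Lib.Helper25
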