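import Mathlib
import Cfsg.Agent.Lib.Helper7.CharColumn
import Cfsg.Agent.Lib.Helper2.CharInner

set_option autoImplicit false

namespace Cfsg.Agent.Lib.Helper25

open Cfsg
open scoped ComplexConjugate

universe u

variable {Γ : Type u} [Group Γ]

/-- Decomposition of `c ↦ Ξ (c s^k)` along the eigenvalues of the central element `s`. -/
theorem exists_mult_decomp [Finite Γ] (C : Subgroup Γ) [Fintype C] (s : Γ)
    (hcs : ∀ c ∈ C, c * s = s * c) {Ξ : Γ → ℂ} (hΞ : IsCharacter Γ Ξ) {ξ : C → ℂ}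
    (hξ : IsCharacter C ξ) :
    ∃ (ι : Type u) (_ : Fintype ι) (m : ι → ℕ) (ω : ι → ℂ), (∀ i, ω i ^ orderOf s = 1) ∧
      ∀ k : ℕ, classInner (fun c : C => Ξ (c * s ^ k)) ξ = ∑ i, (m i : ℂ) * ω i ^ k := by
  classical
  cases nonempty_fintype Γ
  set Z : Subgroup Γ := Subgroup.zpowers s with hZ
  have : IsMulCommutative Z := by rw [hZ]; infer_instance
  have hcomm : ∀ a b : Z, a * b = b * a := fun a b => IsMulCommutative.is_comm.comm a b
  have : Finite (IrrCharacter Z) := Helper2.finite_irrCharacter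
  let _ : Fintype (IrrCharacter Z) := Fintype.ofFinite _
  have comm : ∀ (c : C) (z : Z), Commute (C.subtype c) (Z.subtype z) := by
    intro c z
    obtain ⟨i, hi⟩ := Subgroup.mem_zpowers_iff.1 z.2
    show Commute (c : Γ) (z : Γ)
    rw [← hi]
    exact Commute.zpow_right (hcs c c.2) i
  let μ : C × Z →* Γ := MonoidHom.noncommCoprod C.subtype Z.subtype comm
  have hμ : ∀ c z, μ (c, z) = (c : Γ) * z := fun c z => rfl
  have hΨ : IsCharacter (C × Z) (Ξ ∘ μ) := Helper7.isCharacter_comp_hom hΞ μ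
  have hprod : ∀ l : IrrCharacter Z, IsCharacter (C × Z)
      ((ξ ∘ MonoidHom.fst C Z) * ((l : Z → ℂ) ∘ MonoidHom.snd C Z)) := fun l =>
    Helper7.isCharacter_mul (Helper7.isCharacter_comp_hom hξ _)
      (Helper7.isCharacter_comp_hom (Helper7.isCharacter_of_irr l.2) _)
  choose m hm using fun l => Helper7.classInner_char_nat hΨ (hprod l)
  have hlin : ∀ l : IrrCharacter Z, ∃ f : Z →* ℂˣ, ∀ z, (l : Z → ℂ) z = f z := fun l =>
    Helper7.exists_hom_of_linear (Helper7.isCharacter_of_irr l.2) (Helper7.irr_apply_one_of_comm l.2)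
  choose f hf using hlin
  let s' : Z := ⟨s, Subgroup.mem_zpowers s⟩
  have hNC : (Nat.card C : ℂ) ≠ 0 := by exact_mod_cast Nat.card_pos.ne'
  have hNZ : (Nat.card Z : ℂ) ≠ 0 := by exact_mod_cast Nat.card_pos.ne'
  refine ⟨IrrCharacter Z, inferInstance, m, fun l => (l : Z → ℂ) s', ?_, ?_⟩
  · intro l
    show (l : Z → ℂ) s' ^ orderOf s = 1
    rw [hf l]
    have : s' ^ orderOf s = 1 := Subtype.ext (pow_orderOf_eq_one s)
    rw [← Units.val_pow_eq_pow_val, ← map_pow, this, map_one, Units.val_one]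
  · intro k
    have hpow : ∀ l : IrrCharacter Z, (l : Z → ℂ) s' ^ k = (l : Z → ℂ) (s' ^ k) := by
      intro l
      rw [hf l, hf l, map_pow, Units.val_pow_eq_pow_val]
    have hcol : ∀ z : Z, ∑ l : IrrCharacter Z, (l : Z → ℂ) (s' ^ k) * conj ((l : Z → ℂ) z) =
        if z = s' ^ k then (Nat.card Z : ℂ) else 0 := by
      intro z
      rw [Helper7.column_orthogonality]
      have h1 : IsConj (s' ^ k) z ↔ z = s' ^ k := by
        rw [isConj_iff]
        constructor
        · rintro ⟨c, hc⟩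
          rw [← hc, hcomm c, mul_assoc, mul_inv_cancel, mul_one]
        · rintro rfl
          exact ⟨1, by simp⟩
      have h2 : Subgroup.centralizer ({s' ^ k} : Set Z) = ⊤ := by
        rw [eq_top_iff]
        intro x _
        rw [Subgroup.mem_centralizer_singleton_iff]
        exact hcomm _ _
      simp only [h1, h2, Subgroup.card_top]
    simp only [← hm, hpow]
    unfold classInner
    rw [Nat.card_prod]
    calc (Nat.card C : ℂ)⁻¹ * ∑ c : C, Ξ (c * s ^ k) * conj (ξ c)
        = (Nat.card C : ℂ)⁻¹ * ∑ c : C, (Nat.card Z : ℂ)⁻¹ * ∑ z : Z, (Ξ (c * z) * conj (ξ c)) *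
            (if z = s' ^ k then (Nat.card Z : ℂ) else 0) := by
          congr 1
          refine Finset.sum_congr rfl fun c _ => ?_
          simp only [mul_ite, mul_zero, Finset.sum_ite_eq', Finset.mem_univ, if_true]
          have : ((s' ^ k : Z) : Γ) = s ^ k := rfl
          rw [this]
          field_simp
      _ = ∑ c : C, ∑ z : Z, ∑ l : IrrCharacter Z, ((Nat.card C : ℂ)⁻¹ * (Nat.card Z : ℂ)⁻¹ *
            (Ξ (c * z) * conj (ξ c) * conj ((l : Z → ℂ) z)) * (l : Z → ℂ) (s' ^ k)) := by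
          rw [Finset.mul_sum]
          refine Finset.sum_congr rfl fun c _ => ?_
          rw [Finset.mul_sum, Finset.mul_sum]
          refine Finset.sum_congr rfl fun z _ => ?_
          rw [← hcol z, Finset.mul_sum, Finset.mul_sum, Finset.mul_sum]
          refine Finset.sum_congr rfl fun l _ => ?_
          ring
      _ = ∑ l : IrrCharacter Z, ∑ c : C, ∑ z : Z, ((Nat.card C : ℂ)⁻¹ * (Nat.card Z : ℂ)⁻¹ *
            (Ξ (c * z) * conj (ξ c) * conj ((l : Z → ℂ) z)) * (l : Z → ℂ) (s' ^ k)) := by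
          rw [Finset.sum_congr rfl (fun c _ => Finset.sum_comm), Finset.sum_comm]
      _ = ∑ l : IrrCharacter Z, ((Nat.card C * Nat.card Z : ℕ) : ℂ)⁻¹ *
            (∑ x : C × Z, (Ξ ∘ μ) x * conj (((ξ ∘ MonoidHom.fst C Z) *
              ((l : Z → ℂ) ∘ MonoidHom.snd C Z)) x)) * (l : Z → ℂ) (s' ^ k) := by
          refine Finset.sum_congr rfl fun l _ => ?_
          rw [Fintype.sum_prod_type, Finset.mul_sum, Finset.sum_mul]
          refine Finset.sum_congr rfl fun c _ => ?_
          rw [Finset.mul_sum, Finset.sum_mul]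
          refine Finset.sum_congr rfl fun z _ => ?_
          simp only [Function.comp_apply, hμ, Pi.mul_apply, MonoidHom.coe_fst, MonoidHom.coe_snd,
            map_mul, Nat.cast_mul, _root_.mul_inv_rev]
          ring

end Cfsg.Agent.Lib.Helper25
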