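import Mathlib
import Cfsg.Agent.Lib.Helper2.CharGal
import Cfsg.Agent.Lib.Helper7.BlockDefect

set_option autoImplicit false

namespace Cfsg.Agent.Lib.Helper25

open Cfsg
open Cfsg.Agent.Lib.Helper2
open scoped ComplexConjugate

theorem norm_ge_one_of_conj_le {n : ℕ} (hn : n ≠ 0) {ι : Type*} [Fintype ι] (m : ι → ℕ)
    (ω : ι → ℂ) (hω : ∀ i, ω i ^ n = 1)
    (hle : ∀ k : ℕ, k.Coprime n → ‖∑ i, (m i : ℂ) * ω i ^ k‖ ≤ 1)
    (h0 : ∑ i, (m i : ℂ) * ω i ≠ 0) : 1 ≤ ‖∑ i, (m i : ℂ) * ω i‖ := by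
  have hfd := finiteDimensional_cycField n hn
  let w : ι → cycField n := fun i => ⟨ω i, mem_cycField_of_pow_eq_one hn (hω i)⟩
  let α : cycField n := ∑ i, (m i : cycField n) * w i
  have hα : (α : ℂ) = ∑ i, (m i : ℂ) * ω i := by
    simp [α, w]
  have hwint : ∀ i, IsIntegral ℤ (w i) := by
    intro i
    refine IsIntegral.of_pow (Nat.pos_of_ne_zero hn) ?_
    have : w i ^ n = 1 := Subtype.ext (hω i)
    rw [this]
    exact isIntegral_one
  have hint : IsIntegral ℤ α :=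
    IsIntegral.sum _ fun i _ => IsIntegral.mul (isIntegral_natCast (R := ℤ) _) (hwint i)
  have hα0 : α ≠ 0 := by
    intro h
    apply h0
    rw [← hα, h]; rfl
  have := norm_ge_one_of_embeddings_le_one (cycField n) α hint hα0 (by
    intro σ
    obtain ⟨k, hk, hσ⟩ := exists_coprime_of_embedding hn σ
    have : σ α = ∑ i, (m i : ℂ) * ω i ^ k := by
      simp only [α, map_sum, map_mul, map_natCast]
      refine Finset.sum_congr rfl fun i _ => ?_
      rw [hσ (w i) (hω i)]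
    rw [this]
    exact hle k hk)
  rwa [hα] at this

theorem exists_residue_hom {p : ℕ} (hp : p.Prime) :
    ∃ (k : Type) (_ : Field k) (_ : CharP k p) (φ : AlgInt →+* k),
      ∀ (z : AlgInt) (a : ℕ), z ^ (p ^ a) = 1 → φ z = 1 := by
  obtain ⟨M, -, hM, hpM⟩ := Helper7.exists_isPModular hp
  let _ : Field (AlgInt ⧸ M) := Ideal.Quotient.field M
  have hchar : CharP (AlgInt ⧸ M) p := by
    rw [CharP.charP_iff_prime_eq_zero hp]
    have := Ideal.Quotient.eq_zero_iff_mem.2 hpM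
    simpa using this
  refine ⟨AlgInt ⧸ M, inferInstance, hchar, Ideal.Quotient.mk M, ?_⟩
  intro z a hz
  have : Fact p.Prime := ⟨hp⟩
  have h1 : (Ideal.Quotient.mk M z - 1) ^ (p ^ a) = 0 := by
    rw [sub_pow_char_pow, one_pow, ← map_pow, hz, map_one, sub_self]
  exact sub_eq_zero.1 (pow_eq_zero_iff (pow_pos hp.pos a).ne' |>.1 h1)

theorem modp_of_roots {p a : ℕ} (hp : p.Prime) {ι : Type*} [Fintype ι] (m : ι → ℕ) (ω : ι → ℂ)
    (hω : ∀ i, ω i ^ (p ^ a) = 1) :
    (∑ i, (m i : ℂ) * ω i = 0 → p ∣ ∑ i, m i) ∧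
    (‖∑ i, (m i : ℂ) * ω i‖ = 1 →
      ((∑ i, m i : ℕ) : ℤ) ≡ 1 [ZMOD p] ∨ ((∑ i, m i : ℕ) : ℤ) ≡ -1 [ZMOD p]) := by
  obtain ⟨k, _, _, φ, hφ⟩ := exists_residue_hom hp
  have hpa : p ^ a ≠ 0 := (pow_pos hp.pos a).ne'
  have hint : ∀ z : ℂ, z ^ (p ^ a) = 1 → IsIntegral ℤ z := by
    intro z hz
    refine IsIntegral.of_pow (Nat.pos_of_ne_zero hpa) ?_
    rw [hz]; exact isIntegral_one
  have hω' : ∀ i, conj (ω i) ^ (p ^ a) = 1 := by
    intro i
    rw [← map_pow, hω, map_one]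
  let w : ι → AlgInt := fun i => ⟨ω i, hint _ (hω i)⟩
  let w' : ι → AlgInt := fun i => ⟨conj (ω i), hint _ (hω' i)⟩
  let A : AlgInt := ∑ i, (m i : AlgInt) * w i
  let B : AlgInt := ∑ i, (m i : AlgInt) * w' i
  have hA : (A : ℂ) = ∑ i, (m i : ℂ) * ω i := by simp [A, w]
  have hB : (B : ℂ) = conj (∑ i, (m i : ℂ) * ω i) := by simp [B, w']
  have hφA : φ A = ((∑ i, m i : ℕ) : k) := by
    simp only [A, map_sum, map_mul, map_natCast, Nat.cast_sum]
    refine Finset.sum_congr rfl fun i _ => ?_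
    rw [hφ (w i) a (Subtype.ext (hω i)), mul_one]
  have hφB : φ B = ((∑ i, m i : ℕ) : k) := by
    simp only [B, map_sum, map_mul, map_natCast, Nat.cast_sum]
    refine Finset.sum_congr rfl fun i _ => ?_
    rw [hφ (w' i) a (Subtype.ext (hω' i)), mul_one]
  constructor
  · intro h
    have : A = 0 := Subtype.ext (by rw [hA, h]; rfl)
    rw [this, map_zero] at hφA
    exact (CharP.cast_eq_zero_iff k p _).1 hφA.symm
  · intro h
    have hAB : A * B = 1 := by
      apply Subtype.ext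
      show (A : ℂ) * (B : ℂ) = 1
      rw [hA, hB, Complex.mul_conj, Complex.normSq_eq_norm_sq, h]
      simp
    have h1 := congrArg φ hAB
    rw [map_mul, hφA, hφB, map_one] at h1
    have h2 : (((∑ i, m i : ℕ) : k) - 1) * (((∑ i, m i : ℕ) : k) + 1) = 0 := by
      linear_combination h1
    rcases mul_eq_zero.1 h2 with h3 | h3
    · left
      rw [Int.modEq_iff_dvd, ← CharP.intCast_eq_zero_iff k p]
      rw [Int.cast_sub, Int.cast_one, Int.cast_natCast]
      linear_combination -h3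
    · right
      rw [Int.modEq_iff_dvd, ← CharP.intCast_eq_zero_iff k p]
      rw [Int.cast_sub, Int.cast_neg, Int.cast_one, Int.cast_natCast]
      linear_combination -h3

end Cfsg.Agent.Lib.Helper25
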