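import Mathlib
import Cfsg.Agent.Lib.Helper25.Glaub1
import Cfsg.Agent.Lib.Helper25.Glaub4
import Cfsg.Agent.Lib.Helper25.Glaub5

set_option autoImplicit false

namespace Cfsg.Agent.Lib.Helper25

open Cfsg
open scoped ComplexConjugate

universe u

variable {Γ : Type u} [Group Γ]

/-- Parseval in real form. -/
theorem sum_norm_sq_classInner {C : Type u} [Group C] [Fintype C] [Fintype (IrrCharacter C)]
    {f : C → ℂ} (hf : IsClassFunction C f) (h1 : classInner f f = 1) :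
    ∑ ξ : IrrCharacter C, ‖classInner f (ξ : C → ℂ)‖ ^ 2 = 1 := by
  have := Helper7.classInner_eq_sum (f₂ := f) hf
  rw [h1] at this
  simp only [Complex.mul_conj, Complex.normSq_eq_norm_sq] at this
  exact_mod_cast this.symm

/-- Analysis of a character `Ξ` whose shifts by the generators of `⟨t⟩` have norm one on `C`. -/
theorem glaub_analysis [Finite Γ] (C : Subgroup Γ) [Fintype C] (t : Γ)
    (hct : ∀ c ∈ C, c * t = t * c) {p a : ℕ} (hp : p.Prime) (ht : orderOf t = p ^ a)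
    {Ξ : Γ → ℂ} (hΞ : IsCharacter Γ Ξ)
    (hnorm : ∀ k : ℕ, k.Coprime (p ^ a) →
      classInner (fun c : C => Ξ (c * t ^ k)) (fun c : C => Ξ (c * t ^ k)) = 1) :
    (∃ ξ : C → ℂ, IsIrrCharacter C ξ ∧ classInner (fun c : C => Ξ (c * t)) ξ ≠ 0) ∧
    (∀ ξ ξ' : C → ℂ, IsIrrCharacter C ξ → IsIrrCharacter C ξ' →
      classInner (fun c : C => Ξ (c * t)) ξ ≠ 0 → classInner (fun c : C => Ξ (c * t)) ξ' ≠ 0 →
      ξ = ξ') ∧
    (∀ ξ : C → ℂ, IsIrrCharacter C ξ → ∀ M : ℕ, classInner (fun c : C => Ξ c) ξ = M →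
      (classInner (fun c : C => Ξ (c * t)) ξ = 0 → p ∣ M) ∧
      (classInner (fun c : C => Ξ (c * t)) ξ ≠ 0 →
        ((M : ℤ) ≡ 1 [ZMOD p] ∨ (M : ℤ) ≡ -1 [ZMOD p]))) := by
  classical
  have : Finite (IrrCharacter C) := Helper2.finite_irrCharacter
  let _ : Fintype (IrrCharacter C) := Fintype.ofFinite _
  have hcl : ∀ k : ℕ, IsClassFunction C (fun c : C => Ξ (c * t ^ k)) := by
    intro k c d
    have h1 : Commute (d : Γ) (t ^ k) := Commute.pow_right (hct d d.2) k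
    have h2 : ((d * c * d⁻¹ : C) : Γ) * t ^ k = d * (c * t ^ k) * (d : Γ)⁻¹ := by
      have : (d : Γ)⁻¹ * t ^ k = t ^ k * (d : Γ)⁻¹ := (h1.inv_left).eq
      simp only [Subgroup.coe_mul, Subgroup.coe_inv]
      rw [mul_assoc, this]
      group
    show Ξ (((d * c * d⁻¹ : C) : Γ) * t ^ k) = Ξ (c * t ^ k)
    rw [h2]
    exact Helper7.isClassFunction_of_isCharacter hΞ _ _
  have hpars : ∀ k : ℕ, k.Coprime (p ^ a) →
      ∑ ξ : IrrCharacter C, ‖classInner (fun c : C => Ξ (c * t ^ k)) (ξ : C → ℂ)‖ ^ 2 = 1 :=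
    fun k hk => sum_norm_sq_classInner (hcl k) (hnorm k hk)
  have hle : ∀ k : ℕ, k.Coprime (p ^ a) → ∀ ξ : IrrCharacter C,
      ‖classInner (fun c : C => Ξ (c * t ^ k)) (ξ : C → ℂ)‖ ≤ 1 := by
    intro k hk ξ
    have h1 := Finset.single_le_sum (f := fun ξ : IrrCharacter C =>
      ‖classInner (fun c : C => Ξ (c * t ^ k)) (ξ : C → ℂ)‖ ^ 2) (fun _ _ => by positivity)
      (Finset.mem_univ ξ)
    rw [hpars k hk] at h1
    have h2 : ‖classInner (fun c : C => Ξ (c * t ^ k)) (ξ : C → ℂ)‖ ^ 2 ≤ 1 ^ 2 := by simpa using h1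
    exact (pow_le_pow_iff_left₀ (norm_nonneg _) zero_le_one two_ne_zero).1 h2
  have h1eq : (fun c : C => Ξ (c * t ^ 1)) = fun c : C => Ξ (c * t) := by simp
  have h0eq : (fun c : C => Ξ (c * t ^ 0)) = fun c : C => Ξ c := by simp
  have hpa : p ^ a ≠ 0 := (pow_pos hp.pos a).ne'
  -- each coefficient is zero or has norm one
  have hdich : ∀ ξ : IrrCharacter C, classInner (fun c : C => Ξ (c * t)) (ξ : C → ℂ) ≠ 0 →
      ‖classInner (fun c : C => Ξ (c * t)) (ξ : C → ℂ)‖ = 1 := by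
    intro ξ h0
    obtain ⟨ι, _, m, ω, hω, hdec⟩ := exists_mult_decomp C t hct hΞ (Helper7.isCharacter_of_irr ξ.2)
    rw [ht] at hω
    have hd1 := hdec 1
    rw [h1eq] at hd1
    simp only [pow_one] at hd1
    have := norm_ge_one_of_conj_le hpa m ω hω (by
      intro k hk
      rw [← hdec k]
      exact hle k hk ξ) (by rw [← hd1]; exact h0)
    rw [← hd1] at this
    have h2 := hle 1 (Nat.coprime_one_left _) ξ
    rw [h1eq] at h2
    exact le_antisymm h2 this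
  have hp1 := hpars 1 (Nat.coprime_one_left _)
  rw [h1eq] at hp1
  refine ⟨?_, ?_, ?_⟩
  · by_contra hcon
    push Not at hcon
    have : ∑ ξ : IrrCharacter C, ‖classInner (fun c : C => Ξ (c * t)) (ξ : C → ℂ)‖ ^ 2 = 0 :=
      Finset.sum_eq_zero fun ξ _ => by rw [hcon ξ ξ.2]; simp
    rw [this] at hp1
    exact zero_ne_one hp1
  · intro ξ ξ' hξ hξ' h0 h0'
    by_contra hne
    have hne' : (⟨ξ, hξ⟩ : IrrCharacter C) ≠ ⟨ξ', hξ'⟩ := fun h => hne (congrArg Subtype.val h)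
    have h2 : ∑ ζ ∈ ({⟨ξ, hξ⟩, ⟨ξ', hξ'⟩} : Finset (IrrCharacter C)),
        ‖classInner (fun c : C => Ξ (c * t)) (ζ : C → ℂ)‖ ^ 2 ≤
        ∑ ζ : IrrCharacter C, ‖classInner (fun c : C => Ξ (c * t)) (ζ : C → ℂ)‖ ^ 2 :=
      Finset.sum_le_sum_of_subset_of_nonneg (Finset.subset_univ _) (fun _ _ _ => by positivity)
    rw [Finset.sum_pair hne', hp1, hdich ⟨ξ, hξ⟩ h0, hdich ⟨ξ', hξ'⟩ h0'] at h2
    norm_num at h2
  · intro ξ hξ M hM
    obtain ⟨ι, _, m, ω, hω, hdec⟩ := exists_mult_decomp C t hct hΞ (Helper7.isCharacter_of_irr hξ)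
    rw [ht] at hω
    have hd1 := hdec 1
    rw [h1eq] at hd1
    simp only [pow_one] at hd1
    have hd0 := hdec 0
    rw [h0eq, hM] at hd0
    simp only [pow_zero, mul_one] at hd0
    have hMs : M = ∑ i, m i := by exact_mod_cast hd0
    obtain ⟨e1, e2⟩ := modp_of_roots hp m ω hω
    rw [hMs]
    refine ⟨fun h => e1 (by rw [← hd1]; exact h), fun h => e2 ?_⟩
    rw [← hd1]
    exact hdich ⟨ξ, hξ⟩ h

end Cfsg.Agent.Lib.Helper25
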