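import Mathlib
import Cfsg.Agent.Lib.Helper25.Glaub2
import Cfsg.Agent.Lib.Helper25.Glaub3
import Cfsg.Agent.Lib.Helper25.Glaub6
import Cfsg.Agent.Lib.Helper25.Glaub7
import Cfsg.Agent.Lib.Helper25.CycExt2

set_option autoImplicit false

namespace Cfsg.Agent.Lib.Helper25

open Cfsg
open scoped ComplexConjugate

universe u

variable {Γ : Type u} [Group Γ]

theorem invariant_of_gen (G : Subgroup Γ) [hG : G.Normal] (t : Γ)
    (hgen : ∀ x : Γ, ∃ i : ℤ, x * t ^ i ∈ G) {χ : G → ℂ} (hcl : IsClassFunction G χ)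
    (ht : ∀ n : G, χ (MulAut.conjNormal t n) = χ n) (x : Γ) (n : G) :
    χ (MulAut.conjNormal x n) = χ n := by
  let stab : Subgroup (MulAut G) :=
    { carrier := {β | ∀ n, χ (β n) = χ n}
      mul_mem' := fun {a b} ha hb n => by
        rw [MulAut.mul_apply]
        exact (ha _).trans (hb _)
      one_mem' := fun n => rfl
      inv_mem' := fun {a} ha n => by
        have := ha (a⁻¹ n)
        rw [MulAut.apply_inv_self] at this
        exact this.symm }
  have hGs : ∀ g ∈ G, MulAut.conjNormal g ∈ stab := by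
    intro g hg n
    have : MulAut.conjNormal g n = (⟨g, hg⟩ : G) * n * (⟨g, hg⟩ : G)⁻¹ := Subtype.ext (by simp)
    rw [this]
    exact hcl _ _
  have hts : MulAut.conjNormal t ∈ stab := ht
  obtain ⟨i, hi⟩ := hgen x
  have hx : x = (x * t ^ i) * (t ^ i)⁻¹ := by group
  have : MulAut.conjNormal (H := G) x ∈ stab := by
    rw [hx, map_mul, map_inv, map_zpow]
    exact stab.mul_mem (hGs _ hi) (stab.inv_mem (stab.zpow_mem hts i))
  exact this n

theorem isCyclic_quotient_of_gen (G : Subgroup Γ) [hG : G.Normal] (t : Γ)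
    (hgen : ∀ x : Γ, ∃ i : ℤ, x * t ^ i ∈ G) : IsCyclic (Γ ⧸ G) := by
  refine ⟨⟨(t : Γ ⧸ G), fun y => ?_⟩⟩
  obtain ⟨x, rfl⟩ := QuotientGroup.mk_surjective y
  obtain ⟨i, hi⟩ := hgen x
  refine ⟨-i, ?_⟩
  show (t : Γ ⧸ G) ^ (-i) = (x : Γ ⧸ G)
  rw [← QuotientGroup.mk_zpow, QuotientGroup.eq]
  have : (t ^ (-i))⁻¹ * x = (t ^ i) * (x * t ^ i) * (t ^ i)⁻¹ := by group
  rw [this]
  exact hG.conj_mem _ hi _

theorem fixSub_pow (G : Subgroup Γ) (t : Γ) {k : ℕ} (hk : k.Coprime (orderOf t)) :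
    fixSub G (t ^ k) = fixSub G t := by
  ext x
  rw [mem_fixSub, mem_fixSub]
  refine and_congr_right fun _ => ⟨fun h => ?_, fun h => ?_⟩
  · have h1 : Commute x (t ^ k) := h
    have h2 : t = (t ^ k) ^ (Nat.gcdA k (orderOf t)) := by
      have h3 := Nat.gcd_eq_gcd_ab k (orderOf t)
      rw [hk] at h3
      have h4 : t ^ ((k : ℤ) * Nat.gcdA k (orderOf t) + orderOf t * Nat.gcdB k (orderOf t)) = t := by
        rw [← h3]; simp
      rw [zpow_add, zpow_mul, zpow_mul, zpow_natCast, zpow_natCast, pow_orderOf_eq_one, one_zpow,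
        mul_one] at h4
      exact h4.symm
    have h5 : Commute x t := by
      rw [h2]; exact h1.zpow_right _
    exact h5
  · have h1 : Commute x t := h
    exact h1.pow_right k

theorem glaub_sum' [Fintype Γ] (G : Subgroup Γ) [Fintype G] (s : Γ) (C : Subgroup Γ)
    [Fintype C] (hC : C = fixSub G s) (hs : ∀ g ∈ G, s * g * s⁻¹ ∈ G)
    (hcop : (Nat.card G).Coprime (orderOf s)) (F : Γ → ℂ)
    (hF : ∀ h ∈ G, ∀ x, F (h * x * h⁻¹) = F x) :
    (Nat.card G : ℂ) * ∑ c : C, F (c * s) = (Nat.card C : ℂ) * ∑ g : G, F (g * s) := by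
  subst hC
  exact glaub_sum G s hs hcop F hF

/-- orthogonality relations on `C` for the shifted extensions. -/
theorem classInner_shift [Finite Γ] (G : Subgroup Γ) [hG : G.Normal] (s : Γ) (C : Subgroup Γ)
    [Fintype C] (hC : C = fixSub G s) (hcop : (Nat.card G).Coprime (orderOf s))
    {Ξ Ξ' : Γ → ℂ} (hΞ : IsIrrCharacter Γ Ξ) (hΞ' : IsIrrCharacter Γ Ξ')
    (hres : IsIrrCharacter G (fun g : G => Ξ g)) (hres' : IsIrrCharacter G (fun g : G => Ξ' g)) :
    classInner (fun c : C => Ξ (c * s)) (fun c : C => Ξ (c * s)) = 1 ∧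
    ((fun g : G => Ξ g) ≠ (fun g : G => Ξ' g) →
      classInner (fun c : C => Ξ (c * s)) (fun c : C => Ξ' (c * s)) = 0) := by
  classical
  cases nonempty_fintype Γ
  have hNG : (Nat.card G : ℂ) ≠ 0 := by exact_mod_cast Nat.card_pos.ne'
  have hNC : (Nat.card C : ℂ) ≠ 0 := by exact_mod_cast Nat.card_pos.ne'
  have hs : ∀ g ∈ G, s * g * s⁻¹ ∈ G := fun g hg => hG.conj_mem g hg s
  have hcl := Helper7.isClassFunction_of_isCharacter (Helper7.isCharacter_of_irr hΞ)
  have hcl' := Helper7.isClassFunction_of_isCharacter (Helper7.isCharacter_of_irr hΞ')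
  constructor
  · have h1 := glaub_sum' G s C hC hs hcop (fun x => Ξ x * conj (Ξ x))
      (fun h _ x => by simp only [hcl x h])
    rw [coset_norm G (Helper7.isCharacter_of_irr hΞ) hres s] at h1
    unfold classInner
    have h2 : ∑ c : C, Ξ (c * s) * conj (Ξ (c * s)) = Nat.card C := by
      apply mul_left_cancel₀ hNG
      rw [h1]; ring
    rw [h2, inv_mul_cancel₀ hNC]
  · intro hne
    have h1 := glaub_sum' G s C hC hs hcop (fun x => Ξ x * conj (Ξ' x))
      (fun h _ x => by simp only [hcl x h, hcl' x h])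
    rw [coset_orth G hΞ hΞ' hres hres' hne s, mul_zero] at h1
    unfold classInner
    rcases mul_eq_zero.1 h1 with h | h
    · exact absurd h hNG
    · rw [h, mul_zero]

end Cfsg.Agent.Lib.Helper25
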