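import Mathlib
import Cfsg.Agent.Lib.Helper25.Glaub8

set_option autoImplicit false

namespace Cfsg.Agent.Lib.Helper25

open Cfsg
open scoped ComplexConjugate

universe u

variable {Γ : Type u} [Group Γ]

theorem isClassFunction_shift_fix (C : Subgroup Γ) (t : Γ) (hct : ∀ c ∈ C, c * t = t * c)
    {Ξ : Γ → ℂ} (hΞ : IsClassFunction Γ Ξ) : IsClassFunction C (fun c : C => Ξ (c * t)) := by
  intro c d
  have h1 : Commute (d : Γ) t := hct d d.2
  have h2 : ((d * c * d⁻¹ : C) : Γ) * t = d * (c * t) * (d : Γ)⁻¹ := by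
    have : (d : Γ)⁻¹ * t = t * (d : Γ)⁻¹ := (h1.inv_left).eq
    simp only [Subgroup.coe_mul, Subgroup.coe_inv]
    rw [mul_assoc, this]
    group
  show Ξ (((d * c * d⁻¹ : C) : Γ) * t) = Ξ (c * t)
  rw [h2]
  exact hΞ _ _

theorem not_dvd_of_modEq_pm {p : ℕ} (hp : p.Prime) {m : ℕ}
    (h : (m : ℤ) ≡ 1 [ZMOD p] ∨ (m : ℤ) ≡ -1 [ZMOD p]) : ¬ p ∣ m := by
  intro hd
  have hd' : (p : ℤ) ∣ m := by exact_mod_cast hd
  have h1 : (p : ℤ) ∣ 1 := by
    rcases h with h | h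
    · have := (Int.modEq_iff_dvd.1 h)
      have h2 := dvd_add this hd'
      simpa using h2
    · have := (Int.modEq_iff_dvd.1 h)
      have h2 := dvd_add this hd'
      simpa using h2
  have : p ∣ 1 := by exact_mod_cast h1
  exact hp.one_lt.ne' (Nat.dvd_one.1 this)

theorem glaub_cyclic_top [Finite Γ] (G : Subgroup Γ) [hG : G.Normal] (t : Γ)
    (hgen : ∀ x : Γ, ∃ i : ℤ, x * t ^ i ∈ G) {p a : ℕ} (hp : p.Prime) (ht : orderOf t = p ^ a)
    (hcop : (Nat.card G).Coprime p) (hs : ∀ g ∈ G, t * g * t⁻¹ ∈ G) (C : Subgroup Γ) [Fintype C]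
    (hC : C = fixSub G t) (hCG : C ≤ G) :
    GlaubP p (Subgroup.inclusion hCG) (fun χ => χ ∘ conjAut G t hs = χ) := by
  classical
  have : Finite (IrrCharacter C) := Helper2.finite_irrCharacter
  let _ : Fintype (IrrCharacter C) := Fintype.ofFinite _
  have hct : ∀ c ∈ C, c * t = t * c := fun c hc => (mem_fixSub.1 (hC ▸ hc)).2
  have hcopa : (Nat.card G).Coprime (p ^ a) := Nat.Coprime.pow_right a hcop
  have hext : ∀ χ : G → ℂ, IsIrrCharacter G χ → χ ∘ conjAut G t hs = χ →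
      ∃ Ξ : Γ → ℂ, IsIrrCharacter Γ Ξ ∧ ∀ g : G, Ξ g = χ g := by
    intro χ hχ hinv
    refine exists_extension_of_cyclic_quotient G (isCyclic_quotient_of_gen G t hgen) χ hχ ?_
    refine invariant_of_gen G t hgen
      (Helper7.isClassFunction_of_isCharacter (Helper7.isCharacter_of_irr hχ)) ?_
    intro n
    have h1 : MulAut.conjNormal t n = conjAut G t hs n := Subtype.ext (by
      rw [conjAut_apply]; simp)
    rw [h1]
    exact congrFun hinv n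
  have hres : ∀ {χ : G → ℂ} {Ξ : Γ → ℂ}, IsIrrCharacter G χ → (∀ g : G, Ξ g = χ g) →
      IsIrrCharacter G (fun g : G => Ξ g) := by
    intro χ Ξ hχ h
    have : (fun g : G => Ξ g) = χ := funext h
    rw [this]; exact hχ
  have hcomp : ∀ {χ : G → ℂ} {Ξ : Γ → ℂ}, (∀ g : G, Ξ g = χ g) →
      χ ∘ Subgroup.inclusion hCG = fun c : C => Ξ c := by
    intro χ Ξ h
    ext c
    exact (h _).symm
  have han : ∀ {χ : G → ℂ} {Ξ : Γ → ℂ}, IsIrrCharacter G χ → IsIrrCharacter Γ Ξ →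
      (∀ g : G, Ξ g = χ g) → _ := fun {χ Ξ} hχ hΞ h =>
    glaub_analysis C t hct hp ht (Helper7.isCharacter_of_irr hΞ) (by
      intro k hk
      have hk' : k.Coprime (orderOf t) := by rw [ht]; exact hk
      exact (classInner_shift G (t ^ k) C (hC.trans (fixSub_pow G t hk').symm)
        (Nat.Coprime.coprime_dvd_right (orderOf_pow_dvd k) (by rw [ht]; exact hcopa))
        hΞ hΞ (hres hχ h) (hres hχ h)).1)
  have hiff : ∀ {χ : G → ℂ} {Ξ : Γ → ℂ}, IsIrrCharacter G χ → IsIrrCharacter Γ Ξ →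
      (∀ g : G, Ξ g = χ g) → ∀ ξ : C → ℂ, IsIrrCharacter C ξ →
      (Corr p (Subgroup.inclusion hCG) χ ξ ↔
        classInner (fun c : C => Ξ (c * t)) ξ ≠ 0) := by
    intro χ Ξ hχ hΞ h ξ hξ
    obtain ⟨-, -, h3⟩ := han hχ hΞ h
    unfold Corr
    rw [hcomp h]
    constructor
    · rintro ⟨m, hm, hpm⟩ h0
      exact hpm ((h3 ξ hξ m hm).1 h0)
    · intro h0
      obtain ⟨m, hm⟩ := Helper7.classInner_char_nat
        (Helper7.isCharacter_restrict (Helper7.isCharacter_of_irr hΞ) C)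
        (Helper7.isCharacter_of_irr hξ)
      exact ⟨m, hm, not_dvd_of_modEq_pm hp ((h3 ξ hξ m hm).2 h0)⟩
  have hinj : ∀ χ χ', IsIrrCharacter G χ → IsIrrCharacter G χ' → χ ∘ conjAut G t hs = χ →
      χ' ∘ conjAut G t hs = χ' → ∀ β, IsIrrCharacter C β →
      Corr p (Subgroup.inclusion hCG) χ β →
      Corr p (Subgroup.inclusion hCG) χ' β → χ = χ' := by
    intro χ χ' hχ hχ' hi hi' β hβ hc hc'
    obtain ⟨Ξ, hΞ, h⟩ := hext χ hχ hi
    obtain ⟨Ξ', hΞ', h'⟩ := hext χ' hχ' hi'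
    by_contra hne
    have hne' : (fun g : G => Ξ g) ≠ fun g : G => Ξ' g := by
      rw [funext h, funext h']; exact hne
    have h0 := (classInner_shift G t C hC (by rw [ht]; exact hcopa) hΞ hΞ' (hres hχ h)
      (hres hχ' h')).2 hne'
    rw [Helper7.classInner_eq_sum (isClassFunction_shift_fix C t hct
      (Helper7.isClassFunction_of_isCharacter (Helper7.isCharacter_of_irr hΞ)))] at h0
    rw [Finset.sum_eq_single (⟨β, hβ⟩ : IrrCharacter C)] at h0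
    · rcases mul_eq_zero.1 h0 with h1 | h1
      · exact ((hiff hχ hΞ h β hβ).1 hc) h1
      · exact ((hiff hχ' hΞ' h' β hβ).1 hc') ((map_eq_zero _).1 h1)
    · intro ξ _ hξ
      have : classInner (fun c : C => Ξ (c * t)) (ξ : C → ℂ) = 0 := by
        by_contra h1
        exact hξ (Subtype.ext ((han hχ hΞ h).2.1 ξ β ξ.2 hβ h1 ((hiff hχ hΞ h β hβ).1 hc)))
      rw [this, zero_mul]
    · intro h1; exact absurd (Finset.mem_univ _) h1
  have hex : ∀ χ, IsIrrCharacter G χ → χ ∘ conjAut G t hs = χ →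
      ∃ β, IsIrrCharacter C β ∧ Corr p (Subgroup.inclusion hCG) χ β := by
    intro χ hχ hi
    obtain ⟨Ξ, hΞ, h⟩ := hext χ hχ hi
    obtain ⟨ξ, hξ, h0⟩ := (han hχ hΞ h).1
    exact ⟨ξ, hξ, (hiff hχ hΞ h ξ hξ).2 h0⟩
  constructor
  · exact hex
  · intro χ hχ hi β β' hβ hβ' hc hc'
    obtain ⟨Ξ, hΞ, h⟩ := hext χ hχ hi
    exact (han hχ hΞ h).2.1 β β' hβ hβ' ((hiff hχ hΞ h β hβ).1 hc) ((hiff hχ hΞ h β' hβ').1 hc')
  · intro χ hχ hi β hβ m hm hpm
    obtain ⟨Ξ, hΞ, h⟩ := hext χ hχ hi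
    rw [hcomp h] at hm
    refine ((han hχ hΞ h).2.2 β hβ m hm).2 ?_
    intro h0
    exact hpm (((han hχ hΞ h).2.2 β hβ m hm).1 h0)
  · exact hinj
  · choose Φ hΦ1 hΦ2 using hex
    let F : {χ : IrrCharacter G // (χ : G → ℂ) ∘ conjAut G t hs = (χ : G → ℂ)} → IrrCharacter C :=
      fun χ => ⟨Φ χ.1 χ.1.2 χ.2, hΦ1 χ.1 χ.1.2 χ.2⟩
    have hFinj : Function.Injective F := by
      intro χ χ' hF
      apply Subtype.ext
      apply Subtype.ext
      have h1 := hΦ2 χ.1 χ.1.2 χ.2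
      have h2 := hΦ2 χ'.1 χ'.1.2 χ'.2
      have h3 : Φ χ.1 χ.1.2 χ.2 = Φ χ'.1 χ'.1.2 χ'.2 := congrArg Subtype.val hF
      rw [← h3] at h2
      exact hinj _ _ χ.1.2 χ'.1.2 χ.2 χ'.2 _ (hΦ1 χ.1 χ.1.2 χ.2) h1 h2
    have hcard : Nat.card {χ : IrrCharacter G // (χ : G → ℂ) ∘ conjAut G t hs = (χ : G → ℂ)} =
        Nat.card (IrrCharacter C) := by
      rw [hC]; exact card_irr_fixSub G t hs (by rw [ht]; exact hcopa)
    have hbij := hFinj.bijective_of_nat_card_le hcard.ge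
    intro β hβ
    obtain ⟨χ, hχ⟩ := hbij.2 ⟨β, hβ⟩
    refine ⟨χ.1, χ.1.2, χ.2, ?_⟩
    have h1 := hΦ2 χ.1 χ.1.2 χ.2
    have h3 : Φ χ.1 χ.1.2 χ.2 = β := congrArg Subtype.val hχ
    rwa [h3] at h1

end Cfsg.Agent.Lib.Helper25
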