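import Mathlib
import Cfsg.Agent.Lib.Helper25.Glaub9

set_option autoImplicit false

namespace Cfsg.Agent.Lib.Helper25

open Cfsg
open scoped ComplexConjugate

universe u

variable {Γ : Type u} [Group Γ]

theorem mem_normalizer_of_conj_mem (G : Subgroup Γ) [Finite G] (t : Γ)
    (hs : ∀ g ∈ G, t * g * t⁻¹ ∈ G) : t ∈ Subgroup.normalizer (G : Set Γ) := by
  rw [Subgroup.mem_normalizer_iff]
  intro h
  refine ⟨hs h, fun hh => ?_⟩
  obtain ⟨m, hm⟩ := (conjAut G t hs).surjective ⟨_, hh⟩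
  have h1 : t * (m : Γ) * t⁻¹ = t * h * t⁻¹ := congrArg Subtype.val hm
  have h2 : (m : Γ) = h := mul_left_cancel (mul_right_cancel h1)
  rw [← h2]; exact m.2

/-- The subgroup `G ⟨t⟩`. -/
def genSub (G : Subgroup Γ) (t : Γ) (ht : t ∈ Subgroup.normalizer (G : Set Γ)) : Subgroup Γ where
  carrier := {x | ∃ i : ℤ, x * t ^ i ∈ G}
  one_mem' := ⟨0, by simp [G.one_mem]⟩
  mul_mem' := by
    rintro x y ⟨i, hi⟩ ⟨j, hj⟩
    refine ⟨i + j, ?_⟩
    have h1 : (t ^ i)⁻¹ ∈ Subgroup.normalizer (G : Set Γ) :=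
      Subgroup.inv_mem _ (Subgroup.zpow_mem _ ht i)
    have h2 := (Subgroup.mem_normalizer_iff.1 h1 _).1 hj
    have : x * y * t ^ (i + j) = (x * t ^ i) * ((t ^ i)⁻¹ * (y * t ^ j) * (t ^ i)⁻¹⁻¹) := by
      rw [zpow_add, (Commute.zpow_zpow_self t i j).eq]; group
    rw [this]
    exact G.mul_mem hi h2
  inv_mem' := by
    rintro x ⟨i, hi⟩
    refine ⟨-i, ?_⟩
    have h1 : t ^ i ∈ Subgroup.normalizer (G : Set Γ) := Subgroup.zpow_mem _ ht i
    have h2 := (Subgroup.mem_normalizer_iff.1 h1 _).1 (G.inv_mem hi)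
    have : x⁻¹ * t ^ (-i) = t ^ i * (x * t ^ i)⁻¹ * (t ^ i)⁻¹ := by group
    rw [this]
    exact h2

theorem le_genSub (G : Subgroup Γ) (t : Γ) (ht : t ∈ Subgroup.normalizer (G : Set Γ)) :
    G ≤ genSub G t ht := fun g hg => ⟨0, by simpa using hg⟩

theorem self_mem_genSub (G : Subgroup Γ) (t : Γ) (ht : t ∈ Subgroup.normalizer (G : Set Γ)) :
    t ∈ genSub G t ht := ⟨-1, by simp [G.one_mem]⟩

theorem genSub_le_normalizer (G : Subgroup Γ) (t : Γ)
    (ht : t ∈ Subgroup.normalizer (G : Set Γ)) :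
    genSub G t ht ≤ Subgroup.normalizer (G : Set Γ) := by
  rintro x ⟨i, hi⟩
  have : x = (x * t ^ i) * (t ^ i)⁻¹ := by group
  rw [this]
  exact Subgroup.mul_mem _ (Subgroup.le_normalizer hi)
    (Subgroup.inv_mem _ (Subgroup.zpow_mem _ ht i))

/-- The cyclic `p`-group case inside an ambient group. -/
theorem glaub_cyclic [Finite Γ] (G : Subgroup Γ) (t : Γ) {p a : ℕ} (hp : p.Prime)
    (ht : orderOf t = p ^ a) (hcop : (Nat.card G).Coprime p) (hs : ∀ g ∈ G, t * g * t⁻¹ ∈ G)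
    (C : Subgroup Γ) [Fintype C] (hC : C = fixSub G t) (hCG : C ≤ G) :
    GlaubP p (Subgroup.inclusion hCG) (fun χ => χ ∘ conjAut G t hs = χ) := by
  classical
  have htn := mem_normalizer_of_conj_mem G t hs
  set Γ' : Subgroup Γ := genSub G t htn with hΓ'
  have hGΓ : G ≤ Γ' := le_genSub G t htn
  have hCΓ : C ≤ Γ' := hCG.trans hGΓ
  let G' : Subgroup Γ' := G.subgroupOf Γ'
  let C' : Subgroup Γ' := C.subgroupOf Γ'
  let t' : Γ' := ⟨t, self_mem_genSub G t htn⟩
  have hnorm : G'.Normal := by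
    constructor
    intro n hn x
    rw [Subgroup.mem_subgroupOf] at hn ⊢
    exact (Subgroup.mem_normalizer_iff.1 (genSub_le_normalizer G t htn x.2) _).1 hn
  have hgen : ∀ x : Γ', ∃ i : ℤ, x * t' ^ i ∈ G' := by
    intro x
    obtain ⟨i, hi⟩ := x.2
    exact ⟨i, by rw [Subgroup.mem_subgroupOf]; simpa [t'] using hi⟩
  have ht' : orderOf t' = p ^ a := by rw [← ht]; exact Subgroup.orderOf_mk t _
  let eG : G' ≃* G := Subgroup.subgroupOfEquivOfLe hGΓ
  let eC : C' ≃* C := Subgroup.subgroupOfEquivOfLe hCΓ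
  have hcop' : (Nat.card G').Coprime p := by rw [Nat.card_congr eG.toEquiv]; exact hcop
  have hs' : ∀ g ∈ G', t' * g * t'⁻¹ ∈ G' := fun g hg => hnorm.conj_mem g hg t'
  have hC' : C' = fixSub G' t' := by
    ext x
    rw [mem_fixSub, Subgroup.mem_subgroupOf, Subgroup.mem_subgroupOf, hC, mem_fixSub]
    refine and_congr_right fun _ => ?_
    rw [Subtype.ext_iff]
    rfl
  have hCG' : C' ≤ G' := fun x hx => by
    rw [Subgroup.mem_subgroupOf] at hx ⊢
    exact hCG hx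
  let _ : Fintype C' := Fintype.ofEquiv C eC.symm.toEquiv
  have key := glaub_cyclic_top G' t' hgen hp ht' hcop' hs' C' hC' hCG'
  refine GlaubP.transport eG eC _ _ (fun c => rfl) _ _ ?_ key
  intro χ
  have hcomm : ∀ g : G', eG (conjAut G' t' hs' g) = conjAut G t hs (eG g) := fun g => rfl
  constructor
  · intro h
    ext g
    simp only [Function.comp_apply, hcomm]
    exact congrFun h (eG g)
  · intro h
    ext g
    obtain ⟨g', rfl⟩ := eG.surjective g
    have := congrFun h g'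
    simp only [Function.comp_apply, hcomm] at this
    exact this

end Cfsg.Agent.Lib.Helper25
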