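import Mathlib
import Cfsg.Agent.Lib.Helper25.Glaub10
import Cfsg.Agent.Lib.Helper1.Wielandt
import Cfsg.Agent.Lib.Helper18.TransferTI

set_option autoImplicit false

namespace Cfsg.Agent.Lib.Helper25

open Cfsg
open scoped ComplexConjugate

universe u

variable {Γ : Type u} [Group Γ]

/-- `χ` is invariant under conjugation by `S`. -/
def InvUnder (G S : Subgroup Γ) (χ : G → ℂ) : Prop :=
  ∀ s ∈ S, ∀ g g' : G, (g' : Γ) = s * g * s⁻¹ → χ g' = χ g

/-- The stabilizer of `χ` in the normalizer of `G`. -/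
def stabSub (G : Subgroup Γ) (χ : G → ℂ) : Subgroup Γ where
  carrier := {x | x ∈ Subgroup.normalizer (G : Set Γ) ∧
    ∀ g g' : G, (g' : Γ) = x * g * x⁻¹ → χ g' = χ g}
  one_mem' := ⟨Subgroup.one_mem _, fun g g' h => by
    have : g' = g := Subtype.ext (by simpa using h)
    rw [this]⟩
  mul_mem' := by
    rintro x y ⟨hx, hx'⟩ ⟨hy, hy'⟩
    refine ⟨Subgroup.mul_mem _ hx hy, fun g g' h => ?_⟩
    have h1 : y * g * y⁻¹ ∈ G := (Subgroup.mem_normalizer_iff.1 hy _).1 g.2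
    rw [hx' ⟨_, h1⟩ g' (by rw [h]; group), hy' g ⟨_, h1⟩ rfl]
  inv_mem' := by
    rintro x ⟨hx, hx'⟩
    refine ⟨Subgroup.inv_mem _ hx, fun g g' h => ?_⟩
    exact (hx' g' g (by rw [h]; group)).symm

theorem invUnder_of_le_stabSub {G S : Subgroup Γ} {χ : G → ℂ} (h : S ≤ stabSub G χ) :
    InvUnder G S χ := fun _ hs => (h hs).2

theorem le_stabSub_of_invUnder {G S : Subgroup Γ} {χ : G → ℂ}
    (hS : S ≤ Subgroup.normalizer (G : Set Γ)) (h : InvUnder G S χ) : S ≤ stabSub G χ :=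
  fun s hs => ⟨hS hs, h s hs⟩

theorem InvUnder.mono {G S T : Subgroup Γ} {χ : G → ℂ} (hTS : T ≤ S) (h : InvUnder G S χ) :
    InvUnder G T χ := fun s hs => h s (hTS hs)

theorem le_normalizer_of_conj_mem (G S : Subgroup Γ) [Finite G]
    (h : ∀ s ∈ S, ∀ g ∈ G, s * g * s⁻¹ ∈ G) : S ≤ Subgroup.normalizer (G : Set Γ) :=
  fun s hs => mem_normalizer_of_conj_mem G s (h s hs)

theorem mem_stabSub_iff (G : Subgroup Γ) [Finite G] (t : Γ) (hs : ∀ g ∈ G, t * g * t⁻¹ ∈ G)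
    (χ : G → ℂ) : t ∈ stabSub G χ ↔ χ ∘ conjAut G t hs = χ := by
  constructor
  · intro h
    ext g
    exact h.2 g _ rfl
  · intro h
    refine ⟨mem_normalizer_of_conj_mem G t hs, fun g g' hg => ?_⟩
    have : g' = conjAut G t hs g := Subtype.ext hg
    rw [this]
    exact congrFun h g

/-- twisting both characters by `x` does not change the multiplicity. -/
theorem classInner_twist (G D : Subgroup Γ) [Finite G] [Fintype D] (hDG : D ≤ G) (x : Γ)
    (hG : ∀ g ∈ G, x * g * x⁻¹ ∈ G) (hD : ∀ g ∈ D, x * g * x⁻¹ ∈ D) (χ : G → ℂ) (γ : D → ℂ) :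
    classInner ((χ ∘ conjAut G x hG) ∘ Subgroup.inclusion hDG) (γ ∘ conjAut D x hD) =
      classInner (χ ∘ Subgroup.inclusion hDG) γ :=
  classInner_transport (conjAut G x hG) (conjAut D x hD) (Subgroup.inclusion hDG)
    (Subgroup.inclusion hDG) (fun _ => rfl) χ γ

theorem corr_twist {p : ℕ} (G D : Subgroup Γ) [Finite G] [Fintype D] (hDG : D ≤ G) (x : Γ)
    (hG : ∀ g ∈ G, x * g * x⁻¹ ∈ G) (hD : ∀ g ∈ D, x * g * x⁻¹ ∈ D) (χ : G → ℂ) (γ : D → ℂ) :
    Corr p (Subgroup.inclusion hDG) (χ ∘ conjAut G x hG) (γ ∘ conjAut D x hD) ↔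
      Corr p (Subgroup.inclusion hDG) χ γ := by
  unfold Corr
  rw [classInner_twist]

theorem exists_normal_cyclic_quotient (S : Subgroup Γ) [Finite S] (hsolv : Group.IsSolvable S)
    (hne : S ≠ ⊥) : ∃ (T : Subgroup Γ) (s₀ : Γ), T ≤ S ∧ Nat.card T < Nat.card S ∧ s₀ ∈ S ∧
      (∀ s ∈ S, ∀ t ∈ T, s * t * s⁻¹ ∈ T) ∧ S ≤ T ⊔ Subgroup.zpowers s₀ := by
  have : Nontrivial S := (Subgroup.nontrivial_iff_ne_bot S).2 hne
  obtain ⟨M, hMn, hMp⟩ := Helper1.exists_normal_prime_index (G := S)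
  have hco := Helper18.isCoatom_of_prime_index hMp
  obtain ⟨x, hx⟩ : ∃ x : S, x ∉ M := by
    by_contra hcon
    push Not at hcon
    exact hco.1 (eq_top_iff.2 fun x _ => hcon x)
  have htop : M ⊔ Subgroup.zpowers x = ⊤ := by
    apply hco.2
    refine lt_of_le_of_ne le_sup_left ?_
    intro h
    apply hx
    rw [h]
    exact (le_sup_right : Subgroup.zpowers x ≤ _) (Subgroup.mem_zpowers x)
  refine ⟨M.map S.subtype, x, ?_, ?_, x.2, ?_, ?_⟩
  · rintro _ ⟨y, -, rfl⟩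
    exact y.2
  · rw [Subgroup.card_map_of_injective S.subtype_injective]
    have h1 := M.card_mul_index
    have h2 := hMp.one_lt
    have h3 : 0 < Nat.card M := Nat.card_pos
    nlinarith
  · rintro s hs _ ⟨y, hy, rfl⟩
    exact ⟨⟨s, hs⟩ * y * ⟨s, hs⟩⁻¹, hMn.conj_mem y hy _, rfl⟩
  · intro s hs
    have h1 : (⟨s, hs⟩ : S) ∈ M ⊔ Subgroup.zpowers x := by rw [htop]; trivial
    have h2 : s ∈ (M ⊔ Subgroup.zpowers x).map S.subtype := ⟨_, h1, rfl⟩
    rw [Subgroup.map_sup, MonoidHom.map_zpowers] at h2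
    exact h2

theorem mem_inf_centralizer {G S : Subgroup Γ} {x : Γ} :
    x ∈ G ⊓ Subgroup.centralizer (S : Set Γ) ↔ x ∈ G ∧ ∀ s ∈ S, s * x = x * s := by
  rw [Subgroup.mem_inf, Subgroup.mem_centralizer_iff]
  rfl

theorem glaub_pgroup_aux [Finite Γ] {p : ℕ} (hp : p.Prime) : ∀ (n : ℕ) (S : Subgroup Γ),
    Nat.card S = n → IsPGroup p S → ∀ G : Subgroup Γ, (∀ s ∈ S, ∀ g ∈ G, s * g * s⁻¹ ∈ G) →
    (Nat.card G).Coprime p → ∀ (C : Subgroup Γ) [Fintype C],
    C = G ⊓ Subgroup.centralizer (S : Set Γ) → ∀ hCG : C ≤ G,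
    GlaubP p (Subgroup.inclusion hCG) (InvUnder G S) := by
  classical
  have : Fact p.Prime := ⟨hp⟩
  intro n
  induction n using Nat.strong_induction_on with
  | _ n ih =>
  intro S hn hS G hnorm hcop C _ hC hCG
  by_cases hbot : S = ⊥
  · subst hbot
    refine GlaubP.of_bijective hp _ ⟨Subgroup.inclusion_injective hCG, ?_⟩ _ ?_
    · intro g
      refine ⟨⟨g, ?_⟩, rfl⟩
      rw [hC]
      refine mem_inf_centralizer.2 ⟨g.2, ?_⟩
      intro h hh
      have : h = 1 := hh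
      rw [this]; simp
    · intro χ _ s hs g g' h
      have hs1 : s = 1 := hs
      have : g' = g := Subtype.ext (by rw [h, hs1]; simp)
      rw [this]
  have hsolv : Group.IsSolvable S := by
    have := hS.isNilpotent
    infer_instance
  obtain ⟨T, s₀, hTS, hcard, hs₀, hTn, hgen⟩ := exists_normal_cyclic_quotient S hsolv hbot
  set D : Subgroup Γ := G ⊓ Subgroup.centralizer (T : Set Γ) with hD
  have hDG : D ≤ G := inf_le_left
  let _ : Fintype D := Fintype.ofFinite _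
  have h₁ : GlaubP p (Subgroup.inclusion hDG) (InvUnder G T) :=
    ih _ (hn ▸ hcard) T rfl (hS.to_le hTS) G (fun s hs => hnorm s (hTS hs)) hcop D hD hDG
  have hGs : ∀ g ∈ G, s₀ * g * s₀⁻¹ ∈ G := hnorm s₀ hs₀
  have hDs : ∀ g ∈ D, s₀ * g * s₀⁻¹ ∈ D := by
    intro d hd
    obtain ⟨hd1, hd2⟩ := mem_inf_centralizer.1 hd
    refine mem_inf_centralizer.2 ⟨hGs d hd1, ?_⟩
    intro t ht
    have h1 : s₀⁻¹ * t * s₀⁻¹⁻¹ ∈ T := hTn _ (S.inv_mem hs₀) t ht
    have h2 := hd2 _ h1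
    calc t * (s₀ * d * s₀⁻¹) = s₀ * (s₀⁻¹ * t * s₀⁻¹⁻¹ * d) * s₀⁻¹ := by group
      _ = s₀ * (d * (s₀⁻¹ * t * s₀⁻¹⁻¹)) * s₀⁻¹ := by rw [h2]
      _ = s₀ * d * s₀⁻¹ * t := by group
  obtain ⟨a, ha⟩ : ∃ a, orderOf s₀ = p ^ a := by
    obtain ⟨k, hk⟩ := hS ⟨s₀, hs₀⟩
    have h1 : s₀ ^ p ^ k = 1 := congrArg Subtype.val hk
    obtain ⟨a, -, ha⟩ := (Nat.dvd_prime_pow hp).1 (orderOf_dvd_of_pow_eq_one h1)
    exact ⟨a, ha⟩
  have hcopD : (Nat.card D).Coprime p :=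
    Nat.Coprime.coprime_dvd_left (Subgroup.card_dvd_of_le hDG) hcop
  have hCfix : C = fixSub D s₀ := by
    ext x
    rw [hC, mem_fixSub, hD, mem_inf_centralizer, mem_inf_centralizer]
    constructor
    · rintro ⟨hx1, hx2'⟩
      exact ⟨⟨hx1, fun t ht => hx2' t (hTS ht)⟩, (hx2' s₀ hs₀).symm⟩
    · rintro ⟨⟨hx1, hx2⟩, hx3⟩
      refine ⟨hx1, ?_⟩
      have hle : T ⊔ Subgroup.zpowers s₀ ≤ Subgroup.centralizer ({x} : Set Γ) := by
        refine sup_le ?_ ?_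
        · intro t ht
          rw [Subgroup.mem_centralizer_singleton_iff]
          exact hx2 t ht
        · rw [Subgroup.zpowers_le, Subgroup.mem_centralizer_singleton_iff]
          exact hx3.symm
      intro s hs
      exact Subgroup.mem_centralizer_singleton_iff.1 (hle (hgen hs))
  have hCD : C ≤ D := hCfix ▸ fixSub_le D s₀
  have h₂ := glaub_cyclic D s₀ hp ha hcopD hDs C hCfix hCD
  have hSn := le_normalizer_of_conj_mem G S hnorm
  have key := GlaubP.comp hp (Subgroup.inclusion hDG) (Subgroup.inclusion hCD) (InvUnder G T)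
    (InvUnder G S) _ h₁ h₂ (fun χ h => h.mono hTS) ?_ ?_
  · exact key
  · intro χ γ hχ hγ hi hc
    have h1 : χ ∘ conjAut G s₀ hGs = χ :=
      (mem_stabSub_iff G s₀ hGs χ).1 (le_stabSub_of_invUnder hSn hi hs₀)
    have h2 := (corr_twist (p := p) G D hDG s₀ hGs hDs χ γ).2 hc
    rw [h1] at h2
    exact h₁.uniq χ hχ (hi.mono hTS) _ _ (isIrrCharacter_comp_equiv _ hγ) hγ h2 hc
  · intro χ γ hχ hγ hi hc hγi
    have h2 := (corr_twist (p := p) G D hDG s₀ hGs hDs χ γ).2 hc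
    rw [hγi] at h2
    have hi' : InvUnder G T (χ ∘ conjAut G s₀ hGs) := by
      intro t ht g g' hg
      refine hi (s₀ * t * s₀⁻¹) (hTn s₀ hs₀ t ht) _ _ ?_
      rw [conjAut_apply, conjAut_apply, hg]
      group
    have h3 : χ ∘ conjAut G s₀ hGs = χ :=
      h₁.inj _ _ (isIrrCharacter_comp_equiv _ hχ) hχ hi' hi γ hγ h2 hc
    refine invUnder_of_le_stabSub (hgen.trans (sup_le ?_ ?_))
    · exact le_stabSub_of_invUnder (hTS.trans hSn) hi
    · rw [Subgroup.zpowers_le]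
      exact (mem_stabSub_iff G s₀ hGs χ).2 h3

theorem glaub_pgroup [Finite Γ] {p : ℕ} (hp : p.Prime) (G S : Subgroup Γ)
    (hnorm : ∀ s ∈ S, ∀ g ∈ G, s * g * s⁻¹ ∈ G) (hcop : (Nat.card G).Coprime (Nat.card S))
    (hS : IsPGroup p S) (C : Subgroup Γ) [Fintype C]
    (hC : C = G ⊓ Subgroup.centralizer (S : Set Γ)) (hCG : C ≤ G) :
    GlaubP p (Subgroup.inclusion hCG) (InvUnder G S) := by
  by_cases hbot : S = ⊥
  · subst hbot
    refine GlaubP.of_bijective hp _ ⟨Subgroup.inclusion_injective hCG, ?_⟩ _ ?_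
    · intro g
      refine ⟨⟨g, ?_⟩, rfl⟩
      rw [hC]
      refine mem_inf_centralizer.2 ⟨g.2, ?_⟩
      intro h hh
      have : h = 1 := hh
      rw [this]; simp
    · intro χ _ s hs g g' h
      have hs1 : s = 1 := hs
      have : g' = g := Subtype.ext (by rw [h, hs1]; simp)
      rw [this]
  · have : Nontrivial S := (Subgroup.nontrivial_iff_ne_bot S).2 hbot
    have hpS : p ∣ Nat.card S := by
      have : Fact p.Prime := ⟨hp⟩
      obtain ⟨k, hk⟩ := IsPGroup.iff_card.1 hS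
      rw [hk]
      have hk0 : k ≠ 0 := by
        rintro rfl
        rw [pow_zero] at hk
        exact (Finite.one_lt_card (α := S)).ne' hk
      exact dvd_pow_self p hk0
    exact glaub_pgroup_aux hp _ S rfl hS G hnorm (Nat.Coprime.coprime_dvd_right hpS hcop) C hC hCG

end Cfsg.Agent.Lib.Helper25
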