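import Mathlib
import Cfsg.Agent.Lib.Helper25.DetChar
import Cfsg.Agent.Lib.Helper11.GalChar
import Cfsg.Agent.Lib.Helper7.CharComplete
import Cfsg.Agent.Lib.Helper2.CharInner

set_option autoImplicit false

namespace Cfsg.Agent.Lib.Helper25

open Cfsg

universe u

variable {G : Type u} [Group G]

theorem detChar_add [Finite G] {χ ψ : G → ℂ} (h₁ : IsCharacter G χ) (h₂ : IsCharacter G ψ) :
    detChar (χ + ψ) = detChar χ * detChar ψ := by
  obtain ⟨n, ρ, rfl⟩ := h₁
  obtain ⟨m, σ, rfl⟩ := h₂
  have hc : (ρ.prod σ).character = ρ.character + σ.character := by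
    ext g
    simp only [Pi.add_apply, Representation.character]
    rw [← LinearMap.trace_prodMap']
    rfl
  ext g
  rw [← hc, detChar_eq, Pi.mul_apply, detChar_eq, detChar_eq]
  show LinearMap.det ((ρ g).prodMap (σ g)) = _
  rw [LinearMap.det_prodMap]

theorem detChar_sum_nsmul_linear [Finite G] {ι : Type*} (s : Finset ι) (d : ι → ℕ)
    (lam : ι → G →* ℂˣ) :
    detChar (∑ i ∈ s, d i • (fun g => ((lam i g : ℂˣ) : ℂ))) =
      fun g => ∏ i ∈ s, ((lam i g : ℂˣ) : ℂ) ^ d i := by
  classical
  induction s using Finset.induction_on with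
  | empty =>
    have := detChar_const (G := G) 0
    simp only [Nat.cast_zero] at this
    simp only [Finset.sum_empty, Finset.prod_empty]
    exact this
  | insert a s ha ih =>
    rw [Finset.sum_insert ha, detChar_add
      (Helper7.isCharacter_nsmul (Helper7.isCharacter_of_irr (Helper7.isIrrCharacter_of_hom _)) _)
      (Helper7.isCharacter_sum _ _ fun i _ => Helper7.isCharacter_nsmul
        (Helper7.isCharacter_of_irr (Helper7.isIrrCharacter_of_hom _)) _), ih]
    ext g
    rw [Finset.prod_insert ha, Pi.mul_apply]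
    congr 1
    have h1 : (d a • fun g => ((lam a g : ℂˣ) : ℂ)) = fun g => (d a : ℂ) * ((lam a g : ℂˣ) : ℂ) := by
      ext g
      simp
    rw [h1, detChar_nat_mul_linear]

theorem detChar_pow [Finite G] {χ : G → ℂ} (hχ : IsCharacter G χ) {k : ℕ}
    (hk : k.Coprime (Nat.card G)) (x : G) :
    detChar (fun g => χ (g ^ k)) x = detChar χ x ^ k := by
  classical
  set Z : Subgroup G := Subgroup.zpowers x with hZ
  have : IsMulCommutative Z := by rw [hZ]; infer_instance
  have : Finite (IrrCharacter Z) := Helper2.finite_irrCharacter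
  let _ : Fintype (IrrCharacter Z) := Fintype.ofFinite _
  let _ : Fintype Z := Fintype.ofFinite _
  have hlin : ∀ l : IrrCharacter Z, ∃ f : Z →* ℂˣ, ∀ z, (l : Z → ℂ) z = f z := fun l =>
    Helper7.exists_hom_of_linear (Helper7.isCharacter_of_irr l.2) (Helper7.irr_apply_one_of_comm l.2)
  choose f hf using hlin
  obtain ⟨m, -, hsum⟩ := Helper7.character_eq_sum_nat (Helper7.isCharacter_comp_hom hχ Z.subtype)
  have hsum' : χ ∘ Z.subtype = ∑ l : IrrCharacter Z, m l • (fun z => ((f l z : ℂˣ) : ℂ)) := by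
    rw [hsum]
    refine Finset.sum_congr rfl fun l _ => ?_
    congr 1
    exact funext (hf l)
  let x' : Z := ⟨x, Subgroup.mem_zpowers x⟩
  have h1 : detChar χ x = ∏ l : IrrCharacter Z, ((f l x' : ℂˣ) : ℂ) ^ m l := by
    have := congrFun (detChar_comp Z.subtype hχ) x'
    rw [hsum', detChar_sum_nsmul_linear] at this
    exact this.symm
  have hχk := Helper11.isCharacter_pow_coprime hχ hk
  have hsumk : (fun g => χ (g ^ k)) ∘ Z.subtype =
      ∑ l : IrrCharacter Z, m l • (fun z => ((((f l) ^ k) z : ℂˣ) : ℂ)) := by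
    ext z
    have := congrFun hsum' (z ^ k)
    simp only [Function.comp_apply, Subgroup.coe_subtype, Subgroup.coe_pow] at this ⊢
    rw [this]
    simp only [Finset.sum_apply, Pi.smul_apply, MonoidHom.pow_apply, map_pow]
  have h2 : detChar (fun g => χ (g ^ k)) x =
      ∏ l : IrrCharacter Z, ((((f l) ^ k) x' : ℂˣ) : ℂ) ^ m l := by
    have := congrFun (detChar_comp Z.subtype hχk) x'
    rw [hsumk, detChar_sum_nsmul_linear] at this
    exact this.symm
  rw [h1, h2, ← Finset.prod_pow]
  refine Finset.prod_congr rfl fun l _ => ?_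
  rw [MonoidHom.pow_apply, Units.val_pow_eq_pow_val, ← pow_mul, ← pow_mul, mul_comm]

end Cfsg.Agent.Lib.Helper25
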