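import Mathlib
import Cfsg.Agent.Lib.Helper25.Glaub17
import Cfsg.Agent.Lib.Helper25.Glaub8
import Cfsg.Agent.Lib.Helper25.DetExt
import Cfsg.Agent.Lib.Helper7.BlockDefect
import Cfsg.Agent.Lib.Helper2.CharInt

set_option autoImplicit false

namespace Cfsg.Agent.Lib.Helper25

open Cfsg
open Cfsg.Agent.Lib.Helper2
open scoped ComplexConjugate

universe u

/-- A sum of roots of unity fixed by all Galois conjugations is a rational integer. -/
theorem exists_int_of_conj_fixed {n : ℕ} (hn : n ≠ 0) {ι : Type*} [Fintype ι] (m : ι → ℕ)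
    (ω : ι → ℂ) (hω : ∀ i, ω i ^ n = 1)
    (hfix : ∀ k : ℕ, k.Coprime n → ∑ i, (m i : ℂ) * ω i ^ k = ∑ i, (m i : ℂ) * ω i) :
    ∃ z : ℤ, ∑ i, (m i : ℂ) * ω i = z := by
  classical
  have hfd := finiteDimensional_cycField n hn
  let w : ι → cycField n := fun i => ⟨ω i, mem_cycField_of_pow_eq_one hn (hω i)⟩
  let α : cycField n := ∑ i, (m i : cycField n) * w i
  have hα : (α : ℂ) = ∑ i, (m i : ℂ) * ω i := by
    simp [α, w]
  have hint : IsIntegral ℤ (∑ i, (m i : ℂ) * ω i) := by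
    refine IsIntegral.sum _ fun i _ => IsIntegral.mul (isIntegral_natCast (R := ℤ) _) ?_
    refine IsIntegral.of_pow (Nat.pos_of_ne_zero hn) ?_
    rw [hω]
    exact isIntegral_one
  have hσ : ∀ σ : cycField n →ₐ[ℚ] ℂ, σ α = (α : ℂ) := by
    intro σ
    obtain ⟨k, hk, hσ⟩ := exists_coprime_of_embedding hn σ
    have : σ α = ∑ i, (m i : ℂ) * ω i ^ k := by
      simp only [α, map_sum, map_mul, map_natCast]
      refine Finset.sum_congr rfl fun i _ => ?_
      rw [hσ (w i) (hω i)]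
    rw [this, hfix k hk, hα]
  have htr := trace_eq_sum_embeddings (K := ℚ) (L := cycField n) ℂ (x := α)
  simp only [hσ, Finset.sum_const, Finset.card_univ, nsmul_eq_mul] at htr
  have hcard : (Fintype.card (cycField n →ₐ[ℚ] ℂ) : ℂ) ≠ 0 := by
    have : 0 < Fintype.card (cycField n →ₐ[ℚ] ℂ) := Fintype.card_pos_iff.2 ⟨(cycField n).val⟩
    exact_mod_cast this.ne'
  have hrat : ∃ q : ℚ, ∑ i, (m i : ℂ) * ω i = (q : ℂ) := by
    refine ⟨Algebra.trace ℚ (cycField n) α / Fintype.card (cycField n →ₐ[ℚ] ℂ), ?_⟩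
    rw [← hα]
    push_cast
    rw [eq_div_iff hcard, mul_comm, ← htr]
    simp
  obtain ⟨q, hq⟩ := hrat
  exact exists_int_of_isIntegral_of_rat hint q hq

variable {Γ : Type u} [Group Γ]

theorem pow_eq_self_of_modEq (G : Subgroup Γ) [Finite G] {k : ℕ} (hk1 : k ≡ 1 [MOD Nat.card G])
    (g : Γ) (hg : g ∈ G) : g ^ k = g := by
  conv_rhs => rw [← pow_one g]
  rw [pow_eq_pow_iff_modEq]
  refine hk1.of_dvd ?_
  have := orderOf_dvd_natCard (⟨g, hg⟩ : G)
  rwa [Subgroup.orderOf_mk] at this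

/-- The canonical extension is fixed by the Galois automorphisms fixing `|G|`-th roots of
unity. -/
theorem canonical_pow_invariant [Finite Γ] (G : Subgroup Γ) [hG : G.Normal] {Ξ : Γ → ℂ}
    (hΞ : IsIrrCharacter Γ Ξ) (hres : IsIrrCharacter G (fun g : G => Ξ g))
    (hcop : (Nat.card G).Coprime G.index) (hdet : (detOrder Ξ).Coprime G.index)
    {k : ℕ} (hk : k.Coprime (Nat.card Γ)) (hk1 : k ≡ 1 [MOD Nat.card G]) (x : Γ) :
    Ξ (x ^ k) = Ξ x := by
  have hΞc := Helper7.isCharacter_of_irr hΞ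
  obtain ⟨d, -, hd⟩ := Helper7.irr_apply_one hres
  have hdG : d ∣ Nat.card G := by
    have h3 := Helper7.charDegree_dvd_card ⟨_, hres⟩
    have h4 : charDegree (fun g : G => Ξ g) = d := by
      simp only [charDegree]
      rw [hd]
      simp
    rwa [h4] at h3
  have hcopd : Nat.Coprime G.index d := (Nat.Coprime.coprime_dvd_left hdG hcop).symm
  have hΞ' := Helper11.isIrrCharacter_pow_coprime hΞ hk
  have hΞ'c := Helper7.isCharacter_of_irr hΞ'
  obtain ⟨δ, hδ⟩ := exists_hom_detChar hΞc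
  obtain ⟨δ', hδ'⟩ := exists_hom_detChar hΞ'c
  have hrel : ∀ y, δ' y = δ y ^ k := by
    intro y
    apply Units.ext
    rw [← hδ', detChar_pow hΞc hk, hδ, Units.val_pow_eq_pow_val]
  have ho : ∀ g, δ g ^ detOrder Ξ = 1 := by
    intro g
    have := congrFun (pow_orderOf_eq_one (detChar Ξ)) g
    simp only [Pi.pow_apply, Pi.one_apply, hδ] at this
    exact Units.ext (by simpa [detOrder] using this)
  have hδeq : δ' = δ := by
    refine linear_extension_unique G δ δ' ?_ (detOrder Ξ) ho ?_ hdet.symm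
    · intro n
      rw [hrel, ← map_pow, pow_eq_self_of_modEq G hk1 n n.2]
    · intro g
      rw [hrel, ← pow_mul, mul_comm, pow_mul, ho, one_pow]
  have hdeteq : detChar (fun y => Ξ (y ^ k)) = detChar Ξ := by
    ext y
    rw [hδ', hδ, hδeq]
  have := extension_unique_of_det G hres hd hcopd hΞ hΞ' (fun _ => rfl)
    (fun n => by
      show Ξ ((n : Γ) ^ k) = Ξ n
      rw [pow_eq_self_of_modEq G hk1 n n.2]) hdeteq
  exact congrFun this x

theorem index_dvd_orderOf_of_gen [Finite Γ] (G : Subgroup Γ) [hG : G.Normal] (t : Γ)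
    (hgen : ∀ x : Γ, ∃ i : ℤ, x * t ^ i ∈ G) : G.index ∣ orderOf t := by
  have h1 : orderOf (t : Γ ⧸ G) = Nat.card (Γ ⧸ G) := by
    apply orderOf_eq_card_of_forall_mem_zpowers
    intro y
    obtain ⟨x, rfl⟩ := QuotientGroup.mk_surjective y
    obtain ⟨i, hi⟩ := hgen x
    refine ⟨-i, ?_⟩
    show (t : Γ ⧸ G) ^ (-i) = (x : Γ ⧸ G)
    rw [← QuotientGroup.mk_zpow, QuotientGroup.eq]
    have : (t ^ (-i))⁻¹ * x = (t ^ i) * (x * t ^ i) * (t ^ i)⁻¹ := by group
    rw [this]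
    exact hG.conj_mem _ hi _
  rw [Subgroup.index_eq_card, ← h1]
  exact orderOf_map_dvd (QuotientGroup.mk' G) t

/-- The canonical extension takes the same values on `c s` and `c s^k`. -/
theorem canonical_shift_invariant [Finite Γ] (G : Subgroup Γ) [hG : G.Normal] (t : Γ)
    (hgen : ∀ x : Γ, ∃ i : ℤ, x * t ^ i ∈ G) (hcop : (Nat.card G).Coprime (orderOf t))
    {Ξ : Γ → ℂ} (hΞ : IsIrrCharacter Γ Ξ) (hres : IsIrrCharacter G (fun g : G => Ξ g))
    (hdet : (detOrder Ξ).Coprime (orderOf t)) {k : ℕ} (hk : k.Coprime (orderOf t))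
    (c : Γ) (hc : c ∈ G) (hct : c * t = t * c) : Ξ (c * t ^ k) = Ξ (c * t) := by
  have hidx := index_dvd_orderOf_of_gen G t hgen
  obtain ⟨k', hk'1, hk'k⟩ := Nat.chineseRemainder hcop 1 k
  have hcopG : k'.Coprime (Nat.card G) := by
    have : Nat.gcd k' (Nat.card G) = Nat.gcd 1 (Nat.card G) := hk'1.gcd_eq
    rw [Nat.Coprime, this]; simp
  have hcopt : k'.Coprime (orderOf t) := by
    have : Nat.gcd k' (orderOf t) = Nat.gcd k (orderOf t) := hk'k.gcd_eq
    rw [Nat.Coprime, this]; exact hk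
  have hcopΓ : k'.Coprime (Nat.card Γ) := by
    rw [← G.card_mul_index]
    exact Nat.Coprime.mul_right hcopG (Nat.Coprime.coprime_dvd_right hidx hcopt)
  have h1 := canonical_pow_invariant G hΞ hres (Nat.Coprime.coprime_dvd_right hidx hcop)
    (Nat.Coprime.coprime_dvd_right hidx hdet) hcopΓ hk'1 (c * t)
  have hcomm : Commute c t := hct
  rw [hcomm.mul_pow, pow_eq_self_of_modEq G hk'1 c hc, pow_eq_pow_iff_modEq.2 hk'k] at h1
  exact h1

end Cfsg.Agent.Lib.Helper25
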