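import Mathlib
import Cfsg.Agent.Lib.Helper25.Glaub18
import Cfsg.Agent.Lib.Helper25.Glaub9

set_option autoImplicit false

namespace Cfsg.Agent.Lib.Helper25

open Cfsg
open scoped ComplexConjugate

universe u

variable {Γ : Type u} [Group Γ]

theorem glaub_analysis_int [Finite Γ] (C : Subgroup Γ) [Fintype C] (t : Γ)
    (hct : ∀ c ∈ C, c * t = t * c) {Ξ : Γ → ℂ} (hΞ : IsCharacter Γ Ξ)
    (hnorm : classInner (fun c : C => Ξ (c * t)) (fun c : C => Ξ (c * t)) = 1)
    (hgal : ∀ k : ℕ, k.Coprime (orderOf t) → ∀ c : C, Ξ (c * t ^ k) = Ξ (c * t)) :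
    ∃ (β : C → ℂ) (ε : ℤ), IsIrrCharacter C β ∧ (ε = 1 ∨ ε = -1) ∧
      (∀ c : C, Ξ (c * t) = (ε : ℂ) * β c) ∧ classInner (fun c : C => Ξ c) β ≠ 0 := by
  classical
  have : Finite (IrrCharacter C) := Helper2.finite_irrCharacter
  let _ : Fintype (IrrCharacter C) := Fintype.ofFinite _
  have hcl := isClassFunction_shift_fix C t hct (Helper7.isClassFunction_of_isCharacter hΞ)
  have ho : orderOf t ≠ 0 := (orderOf_pos t).ne'
  have h1eq : (fun c : C => Ξ (c * t ^ 1)) = fun c : C => Ξ (c * t) := by simp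
  have h0eq : (fun c : C => Ξ (c * t ^ 0)) = fun c : C => Ξ c := by simp
  have hz : ∀ ξ : IrrCharacter C, ∃ z : ℤ,
      classInner (fun c : C => Ξ (c * t)) (ξ : C → ℂ) = z ∧
      (z ≠ 0 → classInner (fun c : C => Ξ c) (ξ : C → ℂ) ≠ 0) := by
    intro ξ
    obtain ⟨ι, _, m, ω, hω, hdec⟩ := exists_mult_decomp C t hct hΞ (Helper7.isCharacter_of_irr ξ.2)
    have hd1 := hdec 1
    rw [h1eq] at hd1
    simp only [pow_one] at hd1
    obtain ⟨z, hz⟩ := exists_int_of_conj_fixed ho m ω hω (by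
      intro k hk
      rw [← hdec k, ← hd1]
      congr 1
      exact funext (hgal k hk))
    refine ⟨z, hd1.trans hz, fun hz0 => ?_⟩
    have hd0 := hdec 0
    rw [h0eq] at hd0
    simp only [pow_zero, mul_one] at hd0
    rw [hd0]
    intro hsum
    have hsum' : ∑ i, m i = 0 := by exact_mod_cast hsum
    have hm0 : ∀ i, m i = 0 := fun i => (Finset.sum_eq_zero_iff.1 hsum') i (Finset.mem_univ i)
    apply hz0
    have : (z : ℂ) = 0 := by
      rw [← hz]
      exact Finset.sum_eq_zero fun i _ => by rw [hm0 i]; simp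
    exact_mod_cast this
  choose z hz hz' using hz
  have hpars := sum_norm_sq_classInner hcl hnorm
  have hpars' : ∑ ξ : IrrCharacter C, z ξ ^ 2 = 1 := by
    have : ∑ ξ : IrrCharacter C, ((z ξ : ℝ)) ^ 2 = 1 := by
      rw [← hpars]
      refine Finset.sum_congr rfl fun ξ _ => ?_
      rw [hz ξ, Complex.norm_intCast, sq_abs]
    exact_mod_cast this
  obtain ⟨β, hβ0⟩ : ∃ β : IrrCharacter C, z β ≠ 0 := by
    by_contra hcon
    push Not at hcon
    simp [hcon] at hpars'
  rw [← Finset.add_sum_erase _ _ (Finset.mem_univ β)] at hpars'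
  have hnn : 0 ≤ ∑ ξ ∈ Finset.univ.erase β, z ξ ^ 2 := Finset.sum_nonneg fun ξ _ => sq_nonneg _
  have hβ1 : 1 ≤ z β ^ 2 := by
    have := Int.one_le_abs hβ0
    nlinarith [sq_abs (z β), abs_nonneg (z β)]
  have hβsq : z β ^ 2 = 1 := by linarith
  have hrest : ∑ ξ ∈ Finset.univ.erase β, z ξ ^ 2 = 0 := by linarith
  have hother : ∀ ξ, ξ ≠ β → z ξ = 0 := by
    intro ξ hξ
    have := (Finset.sum_eq_zero_iff_of_nonneg (fun ξ _ => sq_nonneg (z ξ))).1 hrest ξ
      (Finset.mem_erase.2 ⟨hξ, Finset.mem_univ ξ⟩)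
    exact pow_eq_zero_iff (two_ne_zero) |>.1 this
  refine ⟨β, z β, β.2, ?_, ?_, hz' β hβ0⟩
  · have : (z β - 1) * (z β + 1) = 0 := by linarith [hβsq]
    rcases mul_eq_zero.1 this with h | h
    · left; linarith
    · right; linarith
  · intro c
    have := Helper7.classFunction_apply_eq_sum hcl c
    rw [Finset.sum_eq_single β] at this
    · rw [this, hz β]
    · intro ξ _ hξ
      rw [hz ξ, hother ξ hξ]; simp
    · intro h; exact absurd (Finset.mem_univ _) h

end Cfsg.Agent.Lib.Helper25
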