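import Mathlib
import Cfsg.Agent.Lib.Helper25.Glaub19
import Cfsg.Agent.Lib.Helper25.Glaub11
import Cfsg.Agent.S0867

set_option autoImplicit false

namespace Cfsg.Agent.Lib.Helper25

open Cfsg
open scoped ComplexConjugate

universe u

variable {Γ : Type u} [Group Γ]

theorem detOrder_dvd_card {G : Type u} [Group G] [Finite G] {χ : G → ℂ} (hχ : IsCharacter G χ) :
    detOrder χ ∣ Nat.card G := by
  obtain ⟨δ, hδ⟩ := exists_hom_detChar hχ
  apply orderOf_dvd_of_pow_eq_one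
  ext g
  simp only [Pi.pow_apply, Pi.one_apply, hδ]
  rw [← Units.val_pow_eq_pow_val, ← map_pow, pow_card_eq_one', map_one, Units.val_one]

theorem sign_unique {C : Type u} [Group C] {β β' : C → ℂ} (hβ : IsIrrCharacter C β)
    (hβ' : IsIrrCharacter C β') {ε ε' : ℤ} (hε : ε = 1 ∨ ε = -1) (hε' : ε' = 1 ∨ ε' = -1)
    (h : ∀ c, (ε : ℂ) * β c = (ε' : ℂ) * β' c) : ε = ε' ∧ β = β' := by
  obtain ⟨d, hd0, hd⟩ := Helper7.irr_apply_one hβ
  obtain ⟨d', hd0', hd'⟩ := Helper7.irr_apply_one hβ'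
  have h1 := h 1
  rw [hd, hd'] at h1
  have h2 : ε * (d : ℤ) = ε' * (d' : ℤ) := by exact_mod_cast h1
  have hεε : ε = ε' := by
    rcases hε with rfl | rfl <;> rcases hε' with rfl | rfl
    · rfl
    · exfalso; have : (0 : ℤ) < d := by exact_mod_cast hd0
      have : (0 : ℤ) < d' := by exact_mod_cast hd0'
      linarith
    · exfalso; have : (0 : ℤ) < d := by exact_mod_cast hd0
      have : (0 : ℤ) < d' := by exact_mod_cast hd0'
      linarith
    · rfl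
  refine ⟨hεε, ?_⟩
  subst hεε
  ext c
  have hε0 : (ε : ℂ) ≠ 0 := by
    rcases hε with rfl | rfl <;> simp
  exact mul_left_cancel₀ hε0 (h c)

theorem exists_pow_of_zpowers_eq [Finite Γ] {s s₀ : Γ}
    (h : Subgroup.zpowers s = Subgroup.zpowers s₀) :
    ∃ k : ℕ, k.Coprime (orderOf s₀) ∧ s = s₀ ^ k := by
  have h1 : s ∈ Subgroup.zpowers s₀ := h ▸ Subgroup.mem_zpowers s
  rw [← mem_powers_iff_mem_zpowers] at h1
  obtain ⟨k, hk⟩ := h1
  have h2 : orderOf s = orderOf s₀ := by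
    rw [← Nat.card_zpowers, ← Nat.card_zpowers, h]
  refine ⟨k, ?_, hk.symm⟩
  have hk' : s₀ ^ k = s := hk
  rw [← hk', orderOf_pow] at h2
  have hpos : 0 < orderOf s₀ := orderOf_pos s₀
  have hg : Nat.gcd (orderOf s₀) k ∣ orderOf s₀ := Nat.gcd_dvd_left _ _
  obtain ⟨q, hq⟩ := hg
  have hgpos : 0 < Nat.gcd (orderOf s₀) k := Nat.gcd_pos_of_pos_left _ hpos
  have h3 : orderOf s₀ / Nat.gcd (orderOf s₀) k = q :=
    Nat.div_eq_of_eq_mul_right hgpos hq
  rw [h3] at h2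
  have h4 : Nat.gcd (orderOf s₀) k = 1 := by
    have h5 : Nat.gcd (orderOf s₀) k * q = 1 * q := by rw [← hq, one_mul, h2]
    have hq0 : 0 < q := by rw [h2]; exact hpos
    exact Nat.eq_of_mul_eq_mul_right hq0 h5
  rw [Nat.Coprime, Nat.gcd_comm]
  exact h4

/-- The cyclic case: values of the canonical extension on the generating coset. -/
theorem glaub_canonical [Finite Γ] (G : Subgroup Γ) [hG : G.Normal] (t : Γ)
    (hgen : ∀ x : Γ, ∃ i : ℤ, x * t ^ i ∈ G) (hcop : (Nat.card G).Coprime (orderOf t))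
    (C : Subgroup Γ) [Fintype C] (hC : C = fixSub G t)
    {Ξ : Γ → ℂ} (hΞ : IsIrrCharacter Γ Ξ) (hres : IsIrrCharacter G (fun g : G => Ξ g))
    (hdet : (detOrder Ξ).Coprime (orderOf t)) :
    ∃ (β : C → ℂ) (ε : ℤ), IsIrrCharacter C β ∧ (ε = 1 ∨ ε = -1) ∧
      (∀ k : ℕ, k.Coprime (orderOf t) → ∀ c : C, Ξ (c * t ^ k) = (ε : ℂ) * β c) ∧
      classInner (fun c : C => Ξ c) β ≠ 0 := by
  have hct : ∀ c ∈ C, c * t = t * c := fun c hc => (mem_fixSub.1 (hC ▸ hc)).2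
  have hCG : ∀ c ∈ C, c ∈ G := fun c hc => (mem_fixSub.1 (hC ▸ hc)).1
  have hgal : ∀ k : ℕ, k.Coprime (orderOf t) → ∀ c : C, Ξ (c * t ^ k) = Ξ (c * t) :=
    fun k hk c => canonical_shift_invariant G t hgen hcop hΞ hres hdet hk c (hCG c c.2) (hct c c.2)
  obtain ⟨β, ε, hβ, hε, h1, h2⟩ := glaub_analysis_int C t hct (Helper7.isCharacter_of_irr hΞ)
    (classInner_shift G t C hC hcop hΞ hΞ hres hres).1 hgal
  exact ⟨β, ε, hβ, hε, fun k hk c => (hgal k hk c).trans (h1 c), h2⟩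

end Cfsg.Agent.Lib.Helper25
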