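import Mathlib
import Cfsg.Agent.Lib.Helper25.Glaub20
import Cfsg.Agent.Lib.Helper25.Gallagher2
import Cfsg.Agent.Lib.Helper25.Codegree
import Cfsg.Agent.S0867

set_option autoImplicit false

namespace Cfsg.Agent.Lib.Helper25

open Cfsg
open scoped ComplexConjugate

universe u

theorem sum_comp_surjective_hom {X Y : Type u} [Group X] [Group Y] [Fintype X] [Fintype Y]
    (π : X →* Y) (hπ : Function.Surjective π) (F : Y → ℂ) :
    ∑ x : X, F (π x) = (Nat.card π.ker : ℂ) * ∑ y : Y, F y := by
  classical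
  rw [← Finset.sum_fiberwise (s := Finset.univ) (g := fun x => π x) (f := fun x => F (π x)),
    Finset.mul_sum]
  apply Finset.sum_congr rfl
  intro y _
  obtain ⟨x₀, rfl⟩ := hπ y
  have h1 : ∀ x ∈ Finset.univ.filter (fun x => π x = π x₀), F (π x) = F (π x₀) := by
    intro x hx
    rw [(Finset.mem_filter.1 hx).2]
  rw [Finset.sum_congr rfl h1, Finset.sum_const, nsmul_eq_mul]
  congr 2
  rw [Nat.card_eq_fintype_card, ← Finset.card_univ]
  symm
  apply Finset.card_bij (fun (k : π.ker) _ => x₀ * k)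
  · intro k _
    simp [MonoidHom.mem_ker.1 k.2]
  · intro a _ b _ h
    exact Subtype.ext (mul_left_cancel h)
  · intro x hx
    refine ⟨⟨x₀⁻¹ * x, ?_⟩, Finset.mem_univ _, by simp⟩
    rw [MonoidHom.mem_ker, map_mul, map_inv, (Finset.mem_filter.1 hx).2, inv_mul_cancel]

theorem classInner_comp_surjective {X Y : Type u} [Group X] [Group Y] [Fintype X] [Fintype Y]
    (π : X →* Y) (hπ : Function.Surjective π) (a b : Y → ℂ) :
    classInner (fun x => a (π x)) (fun x => b (π x)) = classInner a b := by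
  unfold classInner
  rw [sum_comp_surjective_hom π hπ (fun y => a y * conj (b y)), ← mul_assoc]
  congr 1
  have h1 : Nat.card X = Nat.card π.ker * Nat.card Y := by
    rw [← π.ker.card_mul_index, Subgroup.index_ker, MonoidHom.range_eq_top.2 hπ, Subgroup.card_top]
  have h2 : (Nat.card π.ker : ℂ) ≠ 0 := by exact_mod_cast Nat.card_pos.ne'
  have h3 : (Nat.card Y : ℂ) ≠ 0 := by exact_mod_cast Nat.card_pos.ne'
  rw [h1]
  push_cast
  field_simp

theorem card_irr_congr {A B : Type u} [Group A] [Group B] (e : A ≃* B) :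
    Nat.card (IrrCharacter A) = Nat.card (IrrCharacter B) := by
  apply Nat.card_congr
  refine ⟨fun χ => ⟨(χ : A → ℂ) ∘ e.symm, isIrrCharacter_comp_equiv e.symm χ.2⟩,
    fun χ => ⟨(χ : B → ℂ) ∘ e, isIrrCharacter_comp_equiv e χ.2⟩, ?_, ?_⟩
  · intro χ
    apply Subtype.ext
    ext x
    simp
  · intro χ
    apply Subtype.ext
    ext x
    simp

end Cfsg.Agent.Lib.Helper25
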