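import Mathlib
import Cfsg.Agent.Lib.Helper25.Cop1
import Cfsg.Agent.Lib.Helper25.Kernel2

set_option autoImplicit false

namespace Cfsg.Agent.Lib.Helper25

open Cfsg
open scoped ComplexConjugate

universe u

variable {X : Type u} [Group X] [Finite X] (K H : Subgroup X) [hK : K.Normal]
    (π : X →* H) (hπK : π.ker = K) (hπH : ∀ h : H, π h = h)

include hπK hπH in
omit [Finite X] hK in
theorem retract_mul_inv_mem (x : X) : x * ((π x : H) : X)⁻¹ ∈ K := by
  rw [← hπK, MonoidHom.mem_ker, map_mul, map_inv, hπH, mul_inv_cancel]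

include hπH in
omit [Finite X] in
theorem retract_surjective : Function.Surjective π := fun h => ⟨h, hπH h⟩

include hπK hπH in
omit [Finite X] hK in
theorem retract_index : K.index = Nat.card H := by
  rw [← hπK, Subgroup.index_ker, MonoidHom.range_eq_top.2 (retract_surjective H π hπH),
    Subgroup.card_top]

include hπK hπH in
omit [Finite X] in
theorem invariant_of_invUnder {θ : K → ℂ} (hθ : IsClassFunction K θ) (hinv : InvUnder K H θ)
    (g : X) (n : K) : θ ⟨g * n * g⁻¹, hK.conj_mem n n.2 g⟩ = θ n := by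
  have hk := retract_mul_inv_mem K H π hπK hπH g
  have hm : ((π g : H) : X) * n * ((π g : H) : X)⁻¹ ∈ K := hK.conj_mem n n.2 _
  have h1 := hinv (π g) (π g).2 n ⟨_, hm⟩ rfl
  rw [← h1, ← hθ ⟨_, hm⟩ ⟨_, hk⟩]
  congr 1
  apply Subtype.ext
  simp only [Subgroup.coe_mul, Subgroup.coe_inv]
  group

include hπK hπH in
theorem exists_ext_of_invUnder (hcop : (Nat.card K).Coprime (Nat.card H)) {θ : K → ℂ}
    (hθ : IsIrrCharacter K θ) (hinv : InvUnder K H θ) :
    ∃ χ : X → ℂ, IsIrrCharacter X χ ∧ ∀ n : K, χ n = θ n := by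
  obtain ⟨d, -, hd⟩ := Helper7.irr_apply_one hθ
  have hθc := Helper7.isCharacter_of_irr hθ
  have h1 : d ∣ Nat.card K := by
    have := Helper7.charDegree_dvd_card ⟨θ, hθ⟩
    rwa [charDegree_eq hd] at this
  have h2 := detOrder_dvd_card hθc
  have h3 : Nat.Coprime K.index (detOrder θ * d) := by
    rw [retract_index K H π hπK hπH]
    exact Nat.Coprime.mul_right (Nat.Coprime.coprime_dvd_right h2 hcop.symm)
      (Nat.Coprime.coprime_dvd_right h1 hcop.symm)
  obtain ⟨χ, ⟨hχ, hχK, -⟩, -⟩ := Cfsg.Agent.S0867.result K θ hθ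
    (invariant_of_invUnder K H π hπK hπH (Helper7.isClassFunction_of_isCharacter hθc) hinv) d hd h3
  exact ⟨χ, hχ, hχK⟩

include hπK hπH in
theorem exists_of_coprime_degree {χ : X → ℂ}
    (hχ : IsIrrCharacter X χ) (hdeg : (charDegree χ).Coprime (Nat.card H)) :
    ∃ θ : K → ℂ, IsIrrCharacter K θ ∧ InvUnder K H θ ∧ ∀ E : X → ℂ, IsIrrCharacter X E →
      (∀ n : K, E n = θ n) → ∃ l : H →* ℂˣ, χ = fun x => (l (π x) : ℂ) * E x := by
  classical
  cases nonempty_fintype X
  have hχc := Helper7.isCharacter_of_irr hχ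
  have hcfχ := Helper7.isClassFunction_of_isCharacter hχc
  obtain ⟨d, hd0, hd⟩ := Helper7.irr_apply_one hχ
  rw [charDegree_eq hd] at hdeg
  have hres := Helper7.isCharacter_restrict hχc K
  obtain ⟨θ, hθ, hconst⟩ := exists_irr_constituent hres (by
    intro h
    have := congrFun h 1
    simp only [OneMemClass.coe_one, Pi.zero_apply, hd] at this
    exact hd0.ne' (by exact_mod_cast this))
  have hθc := Helper7.isCharacter_of_irr hθ
  have hcfθ := Helper7.isClassFunction_of_isCharacter hθc
  obtain ⟨t, ht0, ht⟩ := Helper7.irr_apply_one hθ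
  obtain ⟨a, ha⟩ := Helper7.classInner_char_nat hres hθc
  have hdegree := clifford_degree K hχ hθ hconst (inertia K θ) (mem_inertia K θ)
  rw [hd, ha, ht] at hdegree
  have hdegree' : d = a * ((inertia K θ).index * t) := by exact_mod_cast hdegree
  have hT1 : (inertia K θ).index ∣ d := ⟨a * t, by rw [hdegree']; ring⟩
  have hT2 : (inertia K θ).index ∣ Nat.card H := by
    rw [← retract_index K H π hπK hπH]
    exact Subgroup.index_dvd_of_le (le_inertia K hcfθ)
  have hT : inertia K θ = ⊤ := by
    rw [← Subgroup.index_eq_one]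
    exact Nat.eq_one_of_dvd_coprimes hdeg hT1 hT2
  have hinvX : ∀ g : X, conjFun K θ g = θ := by
    intro g
    have : g ∈ inertia K θ := by rw [hT]; trivial
    exact this
  refine ⟨θ, hθ, ?_, ?_⟩
  · intro s _ g g' hg
    have h1 := (conjFun_eq_self_iff K θ s).1 (hinvX s) g
    rw [← h1]
    congr 1
    exact Subtype.ext hg
  intro E hE hEK
  have hone : ((fun _ => 1 : K → ℂ) * θ) = θ := by
    funext n
    simp
  obtain ⟨-, -, g3⟩ := gallagher_core K (φ := fun _ => 1) (ϑ := θ) Helper7.isIrrCharacter_one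
    (fun g => rfl) hinvX (by rw [hone]; exact hθ) hE hEK
  rw [hone] at g3
  obtain ⟨β, hβ, hβ1, hβE⟩ := g3 χ hχ (by
    rw [frobenius_reciprocity K _ χ hcfχ, ← Helper7.classInner_conj_symm]
    simpa using hconst)
  have hβc := Helper7.isCharacter_of_irr hβ
  have hcfβ := Helper7.isClassFunction_of_isCharacter hβc
  obtain ⟨b, hb0, hb⟩ := Helper7.irr_apply_one hβ
  -- K in the kernel of β
  have hker : ∀ n ∈ K, β n = β 1 := by
    rw [frobenius_reciprocity K _ β hcfβ] at hβ1
    have h1 := avg_normal K hβ 1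
    simp only [mul_one] at h1
    have h2 : classInner (fun _ : K => (1 : ℂ)) (fun h : K => β h)
        = conj ((Nat.card K : ℂ)⁻¹ * ∑ n : K, β (n : X)) := by
      unfold classInner
      simp [map_sum]
    rw [h2, h1] at hβ1
    by_contra hcon
    rw [if_neg hcon] at hβ1
    exact hβ1 (map_zero _)
  have hβπ : ∀ x : X, β x = β ((π x : H) : X) := by
    intro x
    have h1 := char_mul_of_mem_ker hβc (hker _ (retract_mul_inv_mem K H π hπK hπH x)) ((π x : H) : X)
    rw [← h1]
    congr 1
    group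
  -- β restricted to H is irreducible
  have hβH : IsIrrCharacter H (fun h : H => β h) := by
    apply Helper7.isIrrCharacter_of_classInner_self_eq_one (Helper7.isCharacter_restrict hβc H)
    rw [← classInner_comp_surjective π (retract_surjective H π hπH)]
    have : (fun x => β ((π x : H) : X)) = β := funext fun x => (hβπ x).symm
    rw [this]
    have := Helper7.classInner_irr hβ hβ
    simpa using this
  have hb1 : b ∣ Nat.card H := by
    have := Helper7.charDegree_dvd_card ⟨_, hβH⟩
    rwa [charDegree_eq (d := b) (by simpa using hb)] at this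
  have hb2 : b ∣ d := by
    have h1 := congrFun hβE 1
    rw [Pi.mul_apply, hb, hd] at h1
    have h2 := hEK 1
    rw [OneMemClass.coe_one, ht] at h2
    rw [h2] at h1
    exact ⟨t, by exact_mod_cast h1.symm⟩
  have hb' : b = 1 := Nat.eq_one_of_dvd_coprimes hdeg hb2 hb1
  rw [hb', Nat.cast_one] at hb
  obtain ⟨f, hf⟩ := Helper7.exists_hom_of_linear hβc hb
  refine ⟨f.comp H.subtype, ?_⟩
  rw [← hβE]
  funext x
  rw [Pi.mul_apply, hβπ x, hf]
  rfl

end Cfsg.Agent.Lib.Helper25
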