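import Mathlib
import Cfsg.Agent.Lib.Helper25.Glaub11
import Cfsg.Agent.Lib.Helper4.MinNormal

set_option autoImplicit false

namespace Cfsg.Agent.Lib.Helper25

open Cfsg
open scoped ComplexConjugate

universe u

variable {Γ : Type u} [Group Γ]

/-- `S` acts on `G` as a `p`-group. -/
def ActsP (p : ℕ) (G S : Subgroup Γ) : Prop :=
  ∀ s ∈ S, ∃ k : ℕ, ∀ g ∈ G, s ^ p ^ k * g = g * s ^ p ^ k

/-- the `p`-part of an element acting as a `p`-element. -/
theorem exists_ppart [Finite Γ] {p : ℕ} (hp : p.Prime) (G : Subgroup Γ) (s : Γ) (k : ℕ)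
    (hk : ∀ g ∈ G, s ^ p ^ k * g = g * s ^ p ^ k) :
    ∃ (e a : ℕ), orderOf (s ^ e) = p ^ a ∧ ∀ g ∈ G, s ^ e * g * (s ^ e)⁻¹ = s * g * s⁻¹ := by
  have ho : orderOf s ≠ 0 := (orderOf_pos s).ne'
  set m := orderOf s / p ^ (orderOf s).factorization p with hm
  have hcop : (p ^ k).Coprime m :=
    Nat.Coprime.pow_left k (Nat.coprime_ordCompl hp ho)
  obtain ⟨e, he1, he0⟩ := Nat.chineseRemainder hcop 1 0
  have hme : m ∣ e := (Nat.modEq_zero_iff_dvd).1 he0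
  have h1 : (s ^ e) ^ p ^ (orderOf s).factorization p = 1 := by
    rw [← pow_mul]
    apply orderOf_dvd_iff_pow_eq_one.1
    have h0 := Nat.ordProj_mul_ordCompl_eq_self (orderOf s) p
    rw [mul_comm e]
    calc orderOf s = p ^ (orderOf s).factorization p * m := h0.symm
      _ ∣ p ^ (orderOf s).factorization p * e := Nat.mul_dvd_mul_left _ hme
  obtain ⟨a, -, ha⟩ := (Nat.dvd_prime_pow hp).1 (orderOf_dvd_of_pow_eq_one h1)
  refine ⟨e, a, ha, ?_⟩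
  intro g hg
  -- `e = 1 + p^k j` or `e + p^k j = 1`
  have hcomm : Commute (s ^ p ^ k) g := hk g hg
  have h2 : ((e : ℤ) - 1) % (p ^ k : ℕ) = 0 := by
    have := (Int.natCast_modEq_iff.2 he1)
    have h3 := Int.emod_emod_of_dvd
    have h4 : ((p ^ k : ℕ) : ℤ) ∣ (e : ℤ) - 1 := by
      have := (Int.modEq_iff_dvd.1 this.symm)
      simpa using this
    exact Int.emod_eq_zero_of_dvd h4
  obtain ⟨j, hj⟩ := Int.dvd_of_emod_eq_zero h2
  have h3 : s ^ e = s * (s ^ p ^ k) ^ j := by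
    have : (e : ℤ) = 1 + (p ^ k : ℕ) * j := by linarith
    rw [← zpow_natCast s e, this, zpow_add, zpow_one, zpow_mul, zpow_natCast]
  have hcomm' : Commute ((s ^ p ^ k) ^ j) g := hcomm.zpow_left j
  rw [h3]
  calc s * (s ^ p ^ k) ^ j * g * (s * (s ^ p ^ k) ^ j)⁻¹
      = s * ((s ^ p ^ k) ^ j * g) * ((s ^ p ^ k) ^ j)⁻¹ * s⁻¹ := by group
    _ = s * (g * (s ^ p ^ k) ^ j) * ((s ^ p ^ k) ^ j)⁻¹ * s⁻¹ := by rw [hcomm'.eq]
    _ = s * g * s⁻¹ := by group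

theorem glaub_pact_aux [Finite Γ] {p : ℕ} (hp : p.Prime) : ∀ (n : ℕ) (S : Subgroup Γ),
    Nat.card S = n → Group.IsSolvable S → ∀ G : Subgroup Γ, ActsP p G S →
    (∀ s ∈ S, ∀ g ∈ G, s * g * s⁻¹ ∈ G) →
    (Nat.card G).Coprime p → ∀ (C : Subgroup Γ) [Fintype C],
    C = G ⊓ Subgroup.centralizer (S : Set Γ) → ∀ hCG : C ≤ G,
    GlaubP p (Subgroup.inclusion hCG) (InvUnder G S) := by
  classical
  have : Fact p.Prime := ⟨hp⟩
  intro n
  induction n using Nat.strong_induction_on with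
  | _ n ih =>
  intro S hn hsolv G hS hnorm hcop C _ hC hCG
  by_cases hbot : S = ⊥
  · subst hbot
    refine GlaubP.of_bijective hp _ ⟨Subgroup.inclusion_injective hCG, ?_⟩ _ ?_
    · intro g
      refine ⟨⟨g, ?_⟩, rfl⟩
      rw [hC]
      refine mem_inf_centralizer.2 ⟨g.2, ?_⟩
      intro h hh
      have : h = 1 := hh
      rw [this]; simp
    · intro χ _ s hs g g' h
      have hs1 : s = 1 := hs
      have : g' = g := Subtype.ext (by rw [h, hs1]; simp)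
      rw [this]
  obtain ⟨T, s₀, hTS, hcard, hs₀, hTn, hgen⟩ := exists_normal_cyclic_quotient S hsolv hbot
  set D : Subgroup Γ := G ⊓ Subgroup.centralizer (T : Set Γ) with hD
  have hDG : D ≤ G := inf_le_left
  let _ : Fintype D := Fintype.ofFinite _
  have h₁ : GlaubP p (Subgroup.inclusion hDG) (InvUnder G T) :=
    ih _ (hn ▸ hcard) T rfl (Group.isSolvable_of_isSolvable_injective (Subgroup.inclusion_injective hTS)) G
      (fun s hs => hS s (hTS hs)) (fun s hs => hnorm s (hTS hs)) hcop D hD hDG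
  have hGs : ∀ g ∈ G, s₀ * g * s₀⁻¹ ∈ G := hnorm s₀ hs₀
  have hDs : ∀ g ∈ D, s₀ * g * s₀⁻¹ ∈ D := by
    intro d hd
    obtain ⟨hd1, hd2⟩ := mem_inf_centralizer.1 hd
    refine mem_inf_centralizer.2 ⟨hGs d hd1, ?_⟩
    intro t ht
    have h1 : s₀⁻¹ * t * s₀⁻¹⁻¹ ∈ T := hTn _ (S.inv_mem hs₀) t ht
    have h2 := hd2 _ h1
    calc t * (s₀ * d * s₀⁻¹) = s₀ * (s₀⁻¹ * t * s₀⁻¹⁻¹ * d) * s₀⁻¹ := by group
      _ = s₀ * (d * (s₀⁻¹ * t * s₀⁻¹⁻¹)) * s₀⁻¹ := by rw [h2]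
      _ = s₀ * d * s₀⁻¹ * t := by group
  obtain ⟨k, hk⟩ := hS s₀ hs₀
  obtain ⟨e, a, ha, hact⟩ := exists_ppart hp G s₀ k hk
  have hcopD : (Nat.card D).Coprime p :=
    Nat.Coprime.coprime_dvd_left (Subgroup.card_dvd_of_le hDG) hcop
  have hCfix : C = fixSub D s₀ := by
    ext x
    rw [hC, mem_fixSub, hD, mem_inf_centralizer, mem_inf_centralizer]
    constructor
    · rintro ⟨hx1, hx2'⟩
      exact ⟨⟨hx1, fun t ht => hx2' t (hTS ht)⟩, (hx2' s₀ hs₀).symm⟩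
    · rintro ⟨⟨hx1, hx2⟩, hx3⟩
      refine ⟨hx1, ?_⟩
      have hle : T ⊔ Subgroup.zpowers s₀ ≤ Subgroup.centralizer ({x} : Set Γ) := by
        refine sup_le ?_ ?_
        · intro t ht
          rw [Subgroup.mem_centralizer_singleton_iff]
          exact hx2 t ht
        · rw [Subgroup.zpowers_le, Subgroup.mem_centralizer_singleton_iff]
          exact hx3.symm
      intro s hs
      exact Subgroup.mem_centralizer_singleton_iff.1 (hle (hgen hs))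
  have hCD : C ≤ D := hCfix ▸ fixSub_le D s₀
  have hDs₁ : ∀ g ∈ D, s₀ ^ e * g * (s₀ ^ e)⁻¹ ∈ D := by
    intro d hd
    rw [hact d (hDG hd)]
    exact hDs d hd
  have hconjD : conjAut D (s₀ ^ e) hDs₁ = conjAut D s₀ hDs :=
    MulEquiv.ext fun g => Subtype.ext (hact g (hDG g.2))
  have hfix₁ : fixSub D (s₀ ^ e) = fixSub D s₀ := by
    ext x
    rw [mem_fixSub, mem_fixSub]
    refine and_congr_right fun hx => ?_
    have h1 := hact x (hDG hx)
    constructor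
    · intro h
      have h2 : s₀ ^ e * x * (s₀ ^ e)⁻¹ = x := by rw [← h]; group
      rw [h1] at h2
      calc x * s₀ = s₀ * x * s₀⁻¹ * s₀ := by rw [h2]
        _ = s₀ * x := by group
    · intro h
      have h2 : s₀ * x * s₀⁻¹ = x := by rw [← h]; group
      rw [← h1] at h2
      calc x * s₀ ^ e = s₀ ^ e * x * (s₀ ^ e)⁻¹ * s₀ ^ e := by rw [h2]
        _ = s₀ ^ e * x := by group
  have h₂ := glaub_cyclic D (s₀ ^ e) hp ha hcopD hDs₁ C (hCfix.trans hfix₁.symm) hCD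
  rw [hconjD] at h₂
  have hSn := le_normalizer_of_conj_mem G S hnorm
  have key := GlaubP.comp hp (Subgroup.inclusion hDG) (Subgroup.inclusion hCD) (InvUnder G T)
    (InvUnder G S) _ h₁ h₂ (fun χ h => h.mono hTS) ?_ ?_
  · exact key
  · intro χ γ hχ hγ hi hc
    have h1 : χ ∘ conjAut G s₀ hGs = χ :=
      (mem_stabSub_iff G s₀ hGs χ).1 (le_stabSub_of_invUnder hSn hi hs₀)
    have h2 := (corr_twist (p := p) G D hDG s₀ hGs hDs χ γ).2 hc
    rw [h1] at h2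
    exact h₁.uniq χ hχ (hi.mono hTS) _ _ (isIrrCharacter_comp_equiv _ hγ) hγ h2 hc
  · intro χ γ hχ hγ hi hc hγi
    have h2 := (corr_twist (p := p) G D hDG s₀ hGs hDs χ γ).2 hc
    rw [hγi] at h2
    have hi' : InvUnder G T (χ ∘ conjAut G s₀ hGs) := by
      intro t ht g g' hg
      refine hi (s₀ * t * s₀⁻¹) (hTn s₀ hs₀ t ht) _ _ ?_
      rw [conjAut_apply, conjAut_apply, hg]
      group
    have h3 : χ ∘ conjAut G s₀ hGs = χ :=
      h₁.inj _ _ (isIrrCharacter_comp_equiv _ hχ) hχ hi' hi γ hγ h2 hc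
    refine invUnder_of_le_stabSub (hgen.trans (sup_le ?_ ?_))
    · exact le_stabSub_of_invUnder (hTS.trans hSn) hi
    · rw [Subgroup.zpowers_le]
      exact (mem_stabSub_iff G s₀ hGs χ).2 h3


theorem glaub_pact [Finite Γ] {p : ℕ} (hp : p.Prime) (G S : Subgroup Γ)
    (hsolv : Group.IsSolvable S) (hact : ActsP p G S)
    (hnorm : ∀ s ∈ S, ∀ g ∈ G, s * g * s⁻¹ ∈ G) (hcop : (Nat.card G).Coprime p)
    (C : Subgroup Γ) [Fintype C]
    (hC : C = G ⊓ Subgroup.centralizer (S : Set Γ)) (hCG : C ≤ G) :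
    GlaubP p (Subgroup.inclusion hCG) (InvUnder G S) :=
  glaub_pact_aux hp _ S rfl hsolv G hact hnorm hcop C hC hCG

theorem exists_normal_actsP [Finite Γ] (G S : Subgroup Γ) (hsolv : Group.IsSolvable S)
    (hnorm : ∀ s ∈ S, ∀ g ∈ G, s * g * s⁻¹ ∈ G)
    (hnc : ¬ S ≤ Subgroup.centralizer (G : Set Γ)) :
    ∃ (p : ℕ) (M : Subgroup Γ), p.Prime ∧ p ∣ Nat.card S ∧ M ≤ S ∧
      (∀ s ∈ S, ∀ m ∈ M, s * m * s⁻¹ ∈ M) ∧ ActsP p G M ∧
      ¬ M ≤ Subgroup.centralizer (G : Set Γ) := by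
  let K : Subgroup S := (Subgroup.centralizer (G : Set Γ)).subgroupOf S
  have hKn : K.Normal := by
    constructor
    intro k hk s
    rw [Subgroup.mem_subgroupOf, Subgroup.mem_centralizer_iff] at hk ⊢
    intro g hg
    have h1 : (s : Γ)⁻¹ * g * (s : Γ)⁻¹⁻¹ ∈ G := hnorm _ (S.inv_mem s.2) g hg
    have h2 := hk _ h1
    show g * ((s : Γ) * k * (s : Γ)⁻¹) = (s : Γ) * k * (s : Γ)⁻¹ * g
    calc g * ((s : Γ) * k * (s : Γ)⁻¹) = s * ((s : Γ)⁻¹ * g * (s : Γ)⁻¹⁻¹ * k) * (s : Γ)⁻¹ := by group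
      _ = s * (k * ((s : Γ)⁻¹ * g * (s : Γ)⁻¹⁻¹)) * (s : Γ)⁻¹ := by rw [h2]
      _ = (s : Γ) * k * (s : Γ)⁻¹ * g := by group
  have hKtop : K ≠ ⊤ := by
    intro h
    apply hnc
    exact Subgroup.subgroupOf_eq_top.1 h
  have : Nontrivial (S ⧸ K) := by
    rw [← Finite.one_lt_card_iff_nontrivial, ← Subgroup.index_eq_card]
    rw [Nat.one_lt_iff_ne_zero_and_ne_one]
    exact ⟨Subgroup.index_ne_zero_of_finite, fun h => hKtop (Subgroup.index_eq_one.mp h)⟩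
  obtain ⟨p, N, hp, hNn, hNb, hNp⟩ := Helper4.exists_normal_pgroup (G := S ⧸ K)
  have : Fact p.Prime := ⟨hp⟩
  let M₀ : Subgroup S := N.comap (QuotientGroup.mk' K)
  have hM₀n : M₀.Normal := hNn.comap _
  refine ⟨p, M₀.map S.subtype, hp, ?_, ?_, ?_, ?_, ?_⟩
  · obtain ⟨k, hk⟩ := IsPGroup.iff_card.1 hNp
    have hk0 : k ≠ 0 := by
      rintro rfl
      rw [pow_zero] at hk
      exact hNb (Subgroup.card_eq_one.1 hk)
    have h1 : p ∣ Nat.card N := by rw [hk]; exact dvd_pow_self p hk0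
    have h2 : Nat.card N ∣ Nat.card (S ⧸ K) := Subgroup.card_subgroup_dvd_card N
    have h3 : Nat.card (S ⧸ K) ∣ Nat.card S := by
      rw [← Subgroup.index_eq_card]; exact Subgroup.index_dvd_card K
    exact h1.trans (h2.trans h3)
  · rintro _ ⟨y, -, rfl⟩
    exact y.2
  · rintro s hs _ ⟨y, hy, rfl⟩
    exact ⟨⟨s, hs⟩ * y * ⟨s, hs⟩⁻¹, hM₀n.conj_mem y hy _, rfl⟩
  · rintro _ ⟨y, hy, rfl⟩
    obtain ⟨k, hk⟩ := hNp ⟨QuotientGroup.mk' K y, hy⟩
    refine ⟨k, ?_⟩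
    have h1 : (QuotientGroup.mk' K y) ^ p ^ k = 1 := congrArg Subtype.val hk
    rw [← map_pow] at h1
    have h2 : y ^ p ^ k ∈ K := (QuotientGroup.eq_one_iff _).1 h1
    rw [Subgroup.mem_subgroupOf, Subgroup.mem_centralizer_iff] at h2
    intro g hg
    exact (h2 g hg).symm
  · intro hle
    apply hNb
    rw [eq_bot_iff]
    intro x hx
    obtain ⟨y, rfl⟩ := QuotientGroup.mk'_surjective K x
    have h1 : (y : Γ) ∈ M₀.map S.subtype := ⟨y, hx, rfl⟩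
    have h2 : y ∈ K := Subgroup.mem_subgroupOf.2 (hle h1)
    exact (QuotientGroup.eq_one_iff _).2 h2

end Cfsg.Agent.Lib.Helper25
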