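import Mathlib
import Cfsg.Agent.Lib.Helper25.Glaub12

set_option autoImplicit false

namespace Cfsg.Agent.Lib.Helper25

open Cfsg
open scoped ComplexConjugate

universe u

variable {Γ : Type u} [Group Γ]

theorem invUnder_iff_forall (G S : Subgroup Γ) [Finite G]
    (hnorm : ∀ s ∈ S, ∀ g ∈ G, s * g * s⁻¹ ∈ G) (χ : G → ℂ) :
    InvUnder G S χ ↔ ∀ (s : Γ) (hs : s ∈ S), χ ∘ conjAut G s (hnorm s hs) = χ := by
  constructor
  · intro h s hs
    exact (mem_stabSub_iff G s (hnorm s hs) χ).1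
      (le_stabSub_of_invUnder (le_normalizer_of_conj_mem G S hnorm) h hs)
  · intro h
    exact invUnder_of_le_stabSub fun s hs => (mem_stabSub_iff G s (hnorm s hs) χ).2 (h s hs)

/-- the centralizer in `G` of a normal subgroup `M` of `S` is `S`-invariant. -/
theorem conj_mem_inf_centralizer (G S M : Subgroup Γ)
    (hnorm : ∀ s ∈ S, ∀ g ∈ G, s * g * s⁻¹ ∈ G) (hMn : ∀ s ∈ S, ∀ m ∈ M, s * m * s⁻¹ ∈ M) :
    ∀ s ∈ S, ∀ d ∈ G ⊓ Subgroup.centralizer (M : Set Γ),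
      s * d * s⁻¹ ∈ G ⊓ Subgroup.centralizer (M : Set Γ) := by
  intro s hs d hd
  obtain ⟨hd1, hd2⟩ := mem_inf_centralizer.1 hd
  refine mem_inf_centralizer.2 ⟨hnorm s hs d hd1, ?_⟩
  intro t ht
  have h1 : s⁻¹ * t * s⁻¹⁻¹ ∈ M := hMn _ (S.inv_mem hs) t ht
  have h2 := hd2 _ h1
  calc t * (s * d * s⁻¹) = s * (s⁻¹ * t * s⁻¹⁻¹ * d) * s⁻¹ := by group
    _ = s * (d * (s⁻¹ * t * s⁻¹⁻¹)) * s⁻¹ := by rw [h2]
    _ = s * d * s⁻¹ * t := by group

theorem invUnder_twist (G M : Subgroup Γ) [Finite G] (s : Γ) (hGs : ∀ g ∈ G, s * g * s⁻¹ ∈ G)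
    (hMs : ∀ m ∈ M, s * m * s⁻¹ ∈ M) {χ : G → ℂ} (hi : InvUnder G M χ) :
    InvUnder G M (χ ∘ conjAut G s hGs) := by
  intro t ht g g' hg
  refine hi (s * t * s⁻¹) (hMs t ht) _ _ ?_
  rw [conjAut_apply, conjAut_apply, hg]
  group

section equivariance

variable [Finite Γ] {p : ℕ} (G S M D : Subgroup Γ) [Fintype D] (hDG : D ≤ G)
  (hG : ∀ s ∈ S, ∀ g ∈ G, s * g * s⁻¹ ∈ G) (hD : ∀ s ∈ S, ∀ g ∈ D, s * g * s⁻¹ ∈ D)
  (hMS : M ≤ S) (hMn : ∀ s ∈ S, ∀ m ∈ M, s * m * s⁻¹ ∈ M)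
  (h : GlaubP p (Subgroup.inclusion hDG) (InvUnder G M))

include hG hD hMS h in
theorem GlaubP.down {χ : G → ℂ} {γ : D → ℂ} (hχ : IsIrrCharacter G χ) (hγ : IsIrrCharacter D γ)
    (hi : InvUnder G S χ) (hc : Corr p (Subgroup.inclusion hDG) χ γ) : InvUnder D S γ := by
  rw [invUnder_iff_forall D S hD]
  intro s hs
  have h1 := (invUnder_iff_forall G S hG χ).1 hi s hs
  have h2 := (corr_twist (p := p) G D hDG s (hG s hs) (hD s hs) χ γ).2 hc
  rw [h1] at h2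
  exact h.uniq χ hχ (hi.mono hMS) _ _ (isIrrCharacter_comp_equiv _ hγ) hγ h2 hc

include hG hD hMn h in
theorem GlaubP.up {χ : G → ℂ} {γ : D → ℂ} (hχ : IsIrrCharacter G χ) (hγ : IsIrrCharacter D γ)
    (hi : InvUnder G M χ) (hc : Corr p (Subgroup.inclusion hDG) χ γ) (hγi : InvUnder D S γ) :
    InvUnder G S χ := by
  rw [invUnder_iff_forall G S hG]
  intro s hs
  have h1 := (invUnder_iff_forall D S hD γ).1 hγi s hs
  have h2 := (corr_twist (p := p) G D hDG s (hG s hs) (hD s hs) χ γ).2 hc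
  rw [h1] at h2
  exact h.inj _ _ (isIrrCharacter_comp_equiv _ hχ) hχ
    (invUnder_twist G M s (hG s hs) (hMn s hs) hi) hi γ hγ h2 hc

include hG hD hMS hMn h in
/-- The correspondence restricts to a bijection between the `S`-invariant characters. -/
theorem GlaubP.card_inv :
    Nat.card {χ : IrrCharacter G // InvUnder G S (χ : G → ℂ)} =
      Nat.card {γ : IrrCharacter D // InvUnder D S (γ : D → ℂ)} := by
  have hex : ∀ χ : {χ : IrrCharacter G // InvUnder G S (χ : G → ℂ)}, ∃ γ : D → ℂ,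
      IsIrrCharacter D γ ∧ Corr p (Subgroup.inclusion hDG) (χ.1 : G → ℂ) γ :=
    fun χ => h.ex χ.1 χ.1.2 (χ.2.mono hMS)
  choose Φ hΦ1 hΦ2 using hex
  let F : {χ : IrrCharacter G // InvUnder G S (χ : G → ℂ)} →
      {γ : IrrCharacter D // InvUnder D S (γ : D → ℂ)} := fun χ =>
    ⟨⟨Φ χ, hΦ1 χ⟩, GlaubP.down G S M D hDG hG hD hMS h χ.1.2 (hΦ1 χ) χ.2 (hΦ2 χ)⟩
  refine Nat.card_congr (Equiv.ofBijective F ⟨?_, ?_⟩)
  · intro χ χ' hF
    have h3 : Φ χ = Φ χ' := by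
      simp only [F, Subtype.mk.injEq] at hF
      exact hF
    have h2 := hΦ2 χ'
    rw [← h3] at h2
    exact Subtype.ext (Subtype.ext (h.inj _ _ χ.1.2 χ'.1.2 (χ.2.mono hMS) (χ'.2.mono hMS) _
      (hΦ1 χ) (hΦ2 χ) h2))
  · intro γ
    obtain ⟨χ, hχ, hi, hc⟩ := h.surj γ.1 γ.1.2
    have hiS := GlaubP.up G S M D hDG hG hD hMn h hχ γ.1.2 hi hc γ.2
    refine ⟨⟨⟨χ, hχ⟩, hiS⟩, Subtype.ext (Subtype.ext ?_)⟩
    show Φ ⟨⟨χ, hχ⟩, hiS⟩ = (γ.1 : D → ℂ)
    exact h.uniq χ hχ hi (Φ ⟨⟨χ, hχ⟩, hiS⟩) γ.1 (hΦ1 ⟨⟨χ, hχ⟩, hiS⟩) γ.1.2 (hΦ2 ⟨⟨χ, hχ⟩, hiS⟩) hc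

end equivariance

theorem card_lt_of_not_centralize [Finite Γ] (G M : Subgroup Γ)
    (hnc : ¬ M ≤ Subgroup.centralizer (G : Set Γ)) :
    Nat.card (G ⊓ Subgroup.centralizer (M : Set Γ) : Subgroup Γ) < Nat.card G := by
  by_contra hcon
  push Not at hcon
  have h1 := Subgroup.eq_of_le_of_card_ge (inf_le_left : G ⊓ Subgroup.centralizer (M : Set Γ) ≤ G)
    hcon
  apply hnc
  rw [Subgroup.le_centralizer_iff]
  exact inf_eq_left.1 h1

/-- The number of `S`-invariant irreducible characters of `G` is the number of irreducible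
characters of `C_G(S)` (`S` solvable, coprime action). -/
theorem card_irr_inv_aux [Finite Γ] (S : Subgroup Γ) (hsolv : Group.IsSolvable S) :
    ∀ (n : ℕ) (G : Subgroup Γ), Nat.card G = n → (∀ s ∈ S, ∀ g ∈ G, s * g * s⁻¹ ∈ G) →
    (Nat.card G).Coprime (Nat.card S) →
    Nat.card {χ : IrrCharacter G // InvUnder G S (χ : G → ℂ)} =
      Nat.card (IrrCharacter (G ⊓ Subgroup.centralizer (S : Set Γ) : Subgroup Γ)) := by
  classical
  intro n
  induction n using Nat.strong_induction_on with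
  | _ n ih =>
  intro G hn hnorm hcop
  by_cases hc : S ≤ Subgroup.centralizer (G : Set Γ)
  · have h1 : G ⊓ Subgroup.centralizer (S : Set Γ) = G :=
      inf_eq_left.2 (Subgroup.le_centralizer_iff.1 hc)
    rw [h1]
    refine Nat.card_congr (Equiv.subtypeUnivEquiv ?_)
    intro χ s hs g g' hg
    have h2 := Subgroup.mem_centralizer_iff.1 (hc hs) g g.2
    have : g' = g := Subtype.ext (by rw [hg, ← h2]; group)
    rw [this]
  · obtain ⟨p, M, hp, hpS, hMS, hMn, hact, hnc⟩ := exists_normal_actsP G S hsolv hnorm hc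
    set D : Subgroup Γ := G ⊓ Subgroup.centralizer (M : Set Γ) with hD
    have hDG : D ≤ G := inf_le_left
    let _ : Fintype D := Fintype.ofFinite _
    have hcopp : (Nat.card G).Coprime p := Nat.Coprime.coprime_dvd_right hpS hcop
    have hM : GlaubP p (Subgroup.inclusion hDG) (InvUnder G M) :=
      glaub_pact hp G M (Group.isSolvable_of_isSolvable_injective (Subgroup.inclusion_injective hMS))
        hact (fun s hs => hnorm s (hMS hs)) hcopp D hD hDG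
    have hDn := conj_mem_inf_centralizer G S M hnorm hMn
    rw [GlaubP.card_inv G S M D hDG hnorm hDn hMS hMn hM]
    have hlt : Nat.card D < n := hn ▸ card_lt_of_not_centralize G M hnc
    rw [ih _ hlt D rfl hDn (Nat.Coprime.coprime_dvd_left (Subgroup.card_dvd_of_le hDG) hcop)]
    have h2 : D ⊓ Subgroup.centralizer (S : Set Γ) = G ⊓ Subgroup.centralizer (S : Set Γ) := by
      rw [hD, inf_assoc, inf_eq_right.2 (Subgroup.centralizer_le (SetLike.coe_subset_coe.2 hMS))]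
    rw [h2]

theorem card_irr_inv [Finite Γ] (G S : Subgroup Γ) (hsolv : Group.IsSolvable S)
    (hnorm : ∀ s ∈ S, ∀ g ∈ G, s * g * s⁻¹ ∈ G) (hcop : (Nat.card G).Coprime (Nat.card S)) :
    Nat.card {χ : IrrCharacter G // InvUnder G S (χ : G → ℂ)} =
      Nat.card (IrrCharacter (G ⊓ Subgroup.centralizer (S : Set Γ) : Subgroup Γ)) :=
  card_irr_inv_aux S hsolv _ G rfl hnorm hcop

end Cfsg.Agent.Lib.Helper25
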