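import Mathlib
import Cfsg.Agent.Lib.Helper25.Cop2
import Cfsg.Agent.Lib.Helper25.CosetNorm
import Cfsg.Agent.Lib.Helper25.DetExt
import Cfsg.Agent.Lib.Helper25.Glaub13

set_option autoImplicit false

namespace Cfsg.Agent.Lib.Helper25

open Cfsg
open scoped ComplexConjugate

universe u

theorem card_irr_coprime_of_retract {X : Type u} [Group X] [Finite X] (K H : Subgroup X)
    [hK : K.Normal] (π : X →* H) (hπK : π.ker = K) (hπH : ∀ h : H, π h = h)
    (hcop : (Nat.card K).Coprime (Nat.card H)) :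
    Nat.card {χ : IrrCharacter X // (charDegree (χ : X → ℂ)).Coprime (Nat.card H)} =
      Nat.card {θ : IrrCharacter K // InvUnder K H (θ : K → ℂ)} * Nat.card (H →* ℂˣ) := by
  classical
  choose E hE hEK using fun θ : {θ : IrrCharacter K // InvUnder K H (θ : K → ℂ)} =>
    exists_ext_of_invUnder K H π hπK hπH hcop θ.1.2 θ.2
  have hπn : ∀ n : K, π n = 1 := fun n => by
    have : (n : X) ∈ π.ker := by rw [hπK]; exact n.2
    exact this
  rw [← Nat.card_prod]
  symm
  apply Nat.card_congr
  refine Equiv.ofBijective (fun p => ⟨⟨fun x => (p.2 (π x) : ℂ) * E p.1 x,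
    isIrrCharacter_linear_mul (p.2.comp π) (hE p.1)⟩, ?_⟩) ⟨?_, ?_⟩
  · obtain ⟨t, -, ht⟩ := Helper7.irr_apply_one p.1.1.2
    have h1 : t ∣ Nat.card K := by
      have := Helper7.charDegree_dvd_card p.1.1
      rwa [charDegree_eq ht] at this
    have h2 : (fun x => (p.2 (π x) : ℂ) * E p.1 x) 1 = t := by
      have := hEK p.1 1
      rw [OneMemClass.coe_one] at this
      simp only [map_one, Units.val_one, one_mul, this, ht]
    show (charDegree (fun x => (p.2 (π x) : ℂ) * E p.1 x)).Coprime _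
    rw [charDegree_eq h2]
    exact Nat.Coprime.coprime_dvd_left h1 hcop
  · rintro ⟨θ, l⟩ ⟨θ', l'⟩ h
    have h0 : (fun x => (l (π x) : ℂ) * E θ x) = fun x => (l' (π x) : ℂ) * E θ' x :=
      congrArg (fun z => (z.1 : X → ℂ)) h
    have h1 : θ = θ' := by
      apply Subtype.ext
      apply Subtype.ext
      funext n
      have := congrFun h0 n
      simp only [hπn, map_one, Units.val_one, one_mul, hEK] at this
      exact this
    subst h1
    congr 1
    ext h
    let _ : Fintype K := Fintype.ofFinite _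
    have h2 := coset_norm K (Helper7.isCharacter_of_irr (hE θ))
      (by simp only [hEK]; exact θ.1.2) (h : X)
    obtain ⟨n, hn⟩ : ∃ n : K, E θ (n * h) ≠ 0 := by
      by_contra hcon
      push Not at hcon
      simp only [hcon, zero_mul, Finset.sum_const_zero] at h2
      exact Nat.card_pos.ne' (by exact_mod_cast h2.symm)
    have h3 := congrFun h0 (n * h)
    simp only [map_mul, hπn, hπH, one_mul] at h3
    exact mul_right_cancel₀ hn h3
  · rintro ⟨⟨χ, hχ⟩, hdeg⟩
    obtain ⟨θ, hθ, hinv, hall⟩ := exists_of_coprime_degree K H π hπK hπH hχ hdeg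
    obtain ⟨l, hl⟩ := hall (E ⟨⟨θ, hθ⟩, hinv⟩) (hE _) (hEK _)
    refine ⟨(⟨⟨θ, hθ⟩, hinv⟩, l), ?_⟩
    apply Subtype.ext
    apply Subtype.ext
    exact hl.symm

theorem exists_retract {X : Type u} [Group X] [Finite X] (K H : Subgroup X) [hK : K.Normal]
    (hKH : K ⊔ H = ⊤) (hcop : (Nat.card K).Coprime (Nat.card H)) :
    ∃ π : X →* H, π.ker = K ∧ ∀ h : H, π h = h := by
  have hc : H.IsComplement' K := by
    apply Subgroup.isComplement'_of_disjoint_and_mul_eq_univ
    · exact Subgroup.disjoint_of_coprime_natCard hcop.symm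
    · rw [← Subgroup.mul_normal, sup_comm, hKH]
      rfl
  refine ⟨hc.QuotientMulEquiv.toMonoidHom.comp (QuotientGroup.mk' K), ?_, ?_⟩
  · ext x
    rw [MonoidHom.mem_ker]
    simp only [MonoidHom.comp_apply, MulEquiv.coe_toMonoidHom, QuotientGroup.mk'_apply,
      EmbeddingLike.map_eq_one_iff, QuotientGroup.eq_one_iff]
  · intro h
    simp only [MonoidHom.comp_apply, MulEquiv.coe_toMonoidHom, QuotientGroup.mk'_apply]
    rw [← MulEquiv.eq_symm_apply]
    rfl

theorem card_irr_coprime {X : Type u} [Group X] [Finite X] (K H : Subgroup X)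
    [hK : K.Normal] (hKH : K ⊔ H = ⊤) (hcop : (Nat.card K).Coprime (Nat.card H))
    (hsolv : Group.IsSolvable H) :
    Nat.card {χ : IrrCharacter X // (charDegree (χ : X → ℂ)).Coprime (Nat.card H)} =
      Nat.card (IrrCharacter (K ⊓ Subgroup.centralizer (H : Set X) : Subgroup X)) *
        Nat.card (H →* ℂˣ) := by
  obtain ⟨π, hπK, hπH⟩ := exists_retract K H hKH hcop
  rw [card_irr_coprime_of_retract K H π hπK hπH hcop,
    card_irr_inv K H hsolv (fun s _ g hg => hK.conj_mem g hg s) hcop]

end Cfsg.Agent.Lib.Helper25
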