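import Mathlib
import Cfsg.Agent.Lib.Helper25.Glaub13

set_option autoImplicit false

namespace Cfsg.Agent.Lib.Helper25

open Cfsg

universe u

/-- For a `p`-group of permutations and an invariant weight, the non-fixed points have total
weight divisible by `p`. -/
theorem dvd_sum_not_fixed {X : Type*} [Fintype X] {p : ℕ} (hp : p.Prime)
    (A : Subgroup (Equiv.Perm X)) (hA : IsPGroup p A) (f : X → ℕ)
    (hf : ∀ a ∈ A, ∀ x, f (a x) = f x) (s : Finset X)
    (hs : ∀ x, x ∈ s ↔ ¬ ∀ a ∈ A, a x = x) : p ∣ ∑ x ∈ s, f x := by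
  classical
  have : Fact p.Prime := ⟨hp⟩
  rw [Finset.sum_partition (MulAction.orbitRel A X)]
  refine Finset.dvd_sum fun q hq => ?_
  obtain ⟨x, hx, rfl⟩ := Finset.mem_image.1 hq
  have hmem : ∀ y, (Quotient.mk (MulAction.orbitRel A X) y = Quotient.mk _ x) ↔
      y ∈ MulAction.orbit A x := by
    intro y
    rw [Quotient.eq]
    exact MulAction.orbitRel_apply
  have hfilter : s.filter (fun y => Quotient.mk (MulAction.orbitRel A X) y = Quotient.mk _ x) =
      (MulAction.orbit A x).toFinset := by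
    ext y
    rw [Finset.mem_filter, Set.mem_toFinset, hmem]
    refine ⟨fun h => h.2, fun h => ⟨?_, h⟩⟩
    obtain ⟨a, rfl⟩ := h
    rw [hs]
    intro hfix
    apply (hs x).1 hx
    intro b hb
    have h1 := hfix (a * ⟨b, hb⟩ * a⁻¹ : A) (a * ⟨b, hb⟩ * a⁻¹ : A).2
    have h2 : ((a * ⟨b, hb⟩ * a⁻¹ : A) : Equiv.Perm X) (a • x) = (a : Equiv.Perm X) (b x) := by
      show (a : Equiv.Perm X) (b ((a : Equiv.Perm X)⁻¹ ((a : Equiv.Perm X) x))) = _
      simp
    rw [h2] at h1
    exact (a : Equiv.Perm X).injective h1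
  rw [hfilter, Finset.sum_congr rfl (g := fun _ => f x)]
  · rw [Finset.sum_const, smul_eq_mul]
    apply Dvd.dvd.mul_right
    obtain ⟨n, hn⟩ := hA.card_orbit x
    rw [Set.toFinset_card, ← Nat.card_eq_fintype_card, hn]
    have hn0 : n ≠ 0 := by
      rintro rfl
      rw [pow_zero, Nat.card_eq_fintype_card, ← MulAction.mem_fixedPoints_iff_card_orbit_eq_one] at hn
      apply (hs x).1 hx
      intro a ha
      exact hn ⟨a, ha⟩
    exact dvd_pow_self p hn0
  · intro y hy
    rw [Set.mem_toFinset] at hy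
    obtain ⟨a, rfl⟩ := hy
    exact hf a a.2 x

/-- The action of automorphisms on irreducible characters. -/
noncomputable def irrPerm (N : Type u) [Group N] : MulAut N →* Equiv.Perm (IrrCharacter N) where
  toFun α :=
    { toFun := fun φ => ⟨(φ : N → ℂ) ∘ α.symm, isIrrCharacter_comp_equiv α.symm φ.2⟩
      invFun := fun φ => ⟨(φ : N → ℂ) ∘ α, isIrrCharacter_comp_equiv α φ.2⟩
      left_inv := fun φ => Subtype.ext (by ext x; simp)
      right_inv := fun φ => Subtype.ext (by ext x; simp) }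
  map_one' := by ext φ; rfl
  map_mul' α β := by ext φ; rfl

variable {Γ : Type u} [Group Γ]

/-- conjugation as a homomorphism into the automorphism group. -/
noncomputable def conjAutHom (N M : Subgroup Γ) [Finite N]
    (h : ∀ m ∈ M, ∀ n ∈ N, m * n * m⁻¹ ∈ N) : M →* MulAut N where
  toFun m := conjAut N m (h m m.2)
  map_one' := by
    ext n
    rw [conjAut_apply]
    simp
  map_mul' a b := by
    ext n
    rw [conjAut_apply, MulAut.mul_apply, conjAut_apply, conjAut_apply]
    simp only [Subgroup.coe_mul]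
    group

/-- The group of permutations of `Irr N` induced by `M`. -/
noncomputable def irrAct (N M : Subgroup Γ) [Finite N]
    (h : ∀ m ∈ M, ∀ n ∈ N, m * n * m⁻¹ ∈ N) : Subgroup (Equiv.Perm (IrrCharacter N)) :=
  ((irrPerm N).comp (conjAutHom N M h)).range

theorem isPGroup_irrAct {p : ℕ} (N M : Subgroup Γ) [Finite N]
    (h : ∀ m ∈ M, ∀ n ∈ N, m * n * m⁻¹ ∈ N) (hact : ActsP p N M) :
    IsPGroup p (irrAct N M h) := by
  rintro ⟨_, m, rfl⟩
  obtain ⟨k, hk⟩ := hact m m.2
  refine ⟨k, Subtype.ext ?_⟩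
  show ((irrPerm N).comp (conjAutHom N M h)) m ^ p ^ k = 1
  rw [← map_pow]
  have h1 : conjAutHom N M h (m ^ p ^ k) = 1 := by
    ext n
    show ((conjAut N ((m ^ p ^ k : M) : Γ) _ n : N) : Γ) = n
    rw [conjAut_apply]
    have := hk n n.2
    simp only [Subgroup.coe_pow]
    rw [this]
    group
  rw [MonoidHom.comp_apply, h1, map_one]

theorem irrAct_fixed_iff (N M : Subgroup Γ) [Finite N]
    (h : ∀ m ∈ M, ∀ n ∈ N, m * n * m⁻¹ ∈ N) (φ : IrrCharacter N) :
    (∀ a ∈ irrAct N M h, a φ = φ) ↔ InvUnder N M (φ : N → ℂ) := by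
  rw [invUnder_iff_forall N M h]
  constructor
  · intro hfix m hm
    have h1 := hfix _ ⟨⟨m, hm⟩, rfl⟩
    have h2 : (φ : N → ℂ) ∘ (conjAut N m (h m hm)).symm = (φ : N → ℂ) := congrArg Subtype.val h1
    conv_lhs => rw [← h2]
    ext x
    simp
  · rintro hinv _ ⟨m, rfl⟩
    apply Subtype.ext
    show (φ : N → ℂ) ∘ (conjAut N m (h m m.2)).symm = (φ : N → ℂ)
    conv_lhs => rw [← hinv m m.2]
    ext x
    simp

theorem mult_modEq_of_inv [Finite Γ] {p : ℕ} (hp : p.Prime) (N M E : Subgroup Γ) [Fintype N]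
    [Fintype E] (hEN : E ≤ N) (hnorm : ∀ m ∈ M, ∀ n ∈ N, m * n * m⁻¹ ∈ N) (hact : ActsP p N M)
    (hE : ∀ e ∈ E, ∀ m ∈ M, m * e = e * m)
    (hN : GlaubP p (Subgroup.inclusion hEN) (InvUnder N M)) {ψ : N → ℂ} (hψ : IsCharacter N ψ)
    (hψi : InvUnder N M ψ) {θ : N → ℂ} (hθ : IsIrrCharacter N θ) (hθi : InvUnder N M θ)
    {ξ : E → ℂ} (hξ : IsIrrCharacter E ξ) (hc : Corr p (Subgroup.inclusion hEN) θ ξ)
    {X b c : ℕ} (hX : classInner (ψ ∘ Subgroup.inclusion hEN) ξ = X)
    (hb : classInner ψ θ = b) (hcc : classInner (θ ∘ Subgroup.inclusion hEN) ξ = c) :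
    ∃ q : ℕ, X = b * c + p * q := by
  classical
  have : Finite (IrrCharacter N) := Helper2.finite_irrCharacter
  let _ : Fintype (IrrCharacter N) := Fintype.ofFinite _
  obtain ⟨m, hm, hsum⟩ := Helper7.character_eq_sum_nat hψ
  choose r hr using fun φ : IrrCharacter N => Helper7.classInner_char_nat
    (Helper7.isCharacter_comp_hom (Helper7.isCharacter_of_irr φ.2) (Subgroup.inclusion hEN))
    (Helper7.isCharacter_of_irr hξ)
  have h1 : ψ ∘ Subgroup.inclusion hEN =
      ∑ φ : IrrCharacter N, (m φ : ℂ) • ((φ : N → ℂ) ∘ Subgroup.inclusion hEN) := by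
    ext e
    have := congrFun hsum (Subgroup.inclusion hEN e)
    simp only [Function.comp_apply] at this ⊢
    rw [this]
    simp only [Finset.sum_apply, Pi.smul_apply, Function.comp_apply]
    simp only [nsmul_eq_mul, smul_eq_mul]
  have h2 : (X : ℂ) = ∑ φ : IrrCharacter N, (m φ : ℂ) * (r φ : ℂ) := by
    rw [← hX, h1, Helper7.classInner_sum_left]
    refine Finset.sum_congr rfl fun φ _ => ?_
    rw [Helper7.classInner_smul_left, hr]
  have h3 : X = ∑ φ : IrrCharacter N, m φ * r φ := by exact_mod_cast h2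
  have hm0 : m ⟨θ, hθ⟩ = b := by
    have := hm ⟨θ, hθ⟩
    rw [hb] at this
    exact_mod_cast this.symm
  have hr0 : r ⟨θ, hθ⟩ = c := by
    have := hr ⟨θ, hθ⟩
    rw [hcc] at this
    exact_mod_cast this.symm
  set s : Finset (IrrCharacter N) := Finset.univ.filter (fun φ => ¬ InvUnder N M (φ : N → ℂ))
    with hs
  -- the non-invariant part
  have hA : p ∣ ∑ φ ∈ s, m φ * r φ := by
    refine dvd_sum_not_fixed hp (irrAct N M hnorm) (isPGroup_irrAct N M hnorm hact) _ ?_ s ?_
    · rintro _ ⟨x, rfl⟩ φ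
      set α := conjAut N x (hnorm x x.2) with hα
      have hφ' : ((((irrPerm N).comp (conjAutHom N M hnorm)) x φ : IrrCharacter N) : N → ℂ) =
          (φ : N → ℂ) ∘ α.symm := rfl
      have e1 : m (((irrPerm N).comp (conjAutHom N M hnorm)) x φ) = m φ := by
        have h5 := hm (((irrPerm N).comp (conjAutHom N M hnorm)) x φ)
        rw [hφ'] at h5
        have h6 : ψ ∘ α.symm = ψ := by
          have := (invUnder_iff_forall N M hnorm ψ).1 hψi x x.2
          conv_lhs => rw [← this]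
          ext y
          simp [hα]
        rw [← h6, classInner_comp_equiv α.symm, hm φ] at h5
        exact_mod_cast h5.symm
      have e2 : r (((irrPerm N).comp (conjAutHom N M hnorm)) x φ) = r φ := by
        have h5 := hr (((irrPerm N).comp (conjAutHom N M hnorm)) x φ)
        rw [hφ'] at h5
        have h6 : ((φ : N → ℂ) ∘ α.symm) ∘ Subgroup.inclusion hEN =
            (φ : N → ℂ) ∘ Subgroup.inclusion hEN := by
          ext e
          simp only [Function.comp_apply]
          have h7 : α.symm (Subgroup.inclusion hEN e) = Subgroup.inclusion hEN e := by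
            rw [MulEquiv.symm_apply_eq]
            apply Subtype.ext
            rw [hα, conjAut_apply]
            show (e : Γ) = x * e * (x : Γ)⁻¹
            rw [hE e e.2 x x.2]
            group
          rw [h7]
        rw [h6, hr φ] at h5
        exact_mod_cast h5.symm
      rw [e1, e2]
    · intro φ
      rw [hs, Finset.mem_filter, irrAct_fixed_iff]
      simp
  have hB : p ∣ ∑ φ ∈ sᶜ.erase ⟨θ, hθ⟩, m φ * r φ := by
    refine Finset.dvd_sum fun φ hφ => ?_
    apply Dvd.dvd.mul_left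
    by_contra hpr
    have hφi : InvUnder N M (φ : N → ℂ) := by
      have := Finset.mem_of_mem_erase hφ
      rw [Finset.mem_compl, hs, Finset.mem_filter] at this
      simpa using this
    exact (Finset.ne_of_mem_erase hφ) (Subtype.ext
      (hN.inj _ _ φ.2 hθ hφi hθi ξ hξ ⟨r φ, hr φ, hpr⟩ hc))
  have hθs : (⟨θ, hθ⟩ : IrrCharacter N) ∈ sᶜ := by
    rw [Finset.mem_compl, hs, Finset.mem_filter]
    simpa using hθi
  rw [← Finset.sum_add_sum_compl s, ← Finset.add_sum_erase _ _ hθs, hm0, hr0] at h3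
  obtain ⟨q1, hq1⟩ := hA
  obtain ⟨q2, hq2⟩ := hB
  exact ⟨q1 + q2, by rw [h3, hq1, hq2]; ring⟩

end Cfsg.Agent.Lib.Helper25
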