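import Mathlib
import Cfsg.Agent.Lib.Helper25.Cop3
import Cfsg.Agent.Lib.Helper25.Glaub15
import Cfsg.Agent.Lib.Helper17.Core
import Cfsg.Agent.Lib.Helper26.ProjExt2

set_option autoImplicit false

namespace Cfsg.Agent.Lib.Helper25

open Cfsg
open scoped ComplexConjugate

universe u

variable {G : Type u} [Group G]

theorem invariant_of_sup_eq_top [Finite G] (N S : Subgroup G) [hN : N.Normal] (hsup : N ⊔ S = ⊤)
    {θ : N → ℂ} (hθ : IsClassFunction N θ) (hinv : InvUnder N S θ) (g : G) (n : N) :
    θ ⟨g * n * g⁻¹, hN.conj_mem n n.2 g⟩ = θ n := by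
  have h1 : S ≤ stabSub N θ :=
    le_stabSub_of_invUnder (le_normalizer_of_conj_mem N S fun s _ x hx => hN.conj_mem x hx s) hinv
  have h2 : N ≤ stabSub N θ := fun x hx =>
    ⟨le_normalizer_of_conj_mem N N (fun s _ x hx => hN.conj_mem x hx s) hx, fun a a' h => by
      rw [← hθ a ⟨x, hx⟩]
      congr 1
      exact Subtype.ext h⟩
  have h3 : g ∈ stabSub N θ := (sup_le h2 h1) (hsup ▸ Subgroup.mem_top g)
  exact h3.2 n _ rfl

theorem detOrder_coprime_pResidual [Finite G] {p : ℕ} (hp : p.Prime) {θ : pResidual p G → ℂ}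
    (hθ : IsCharacter (pResidual p G) θ) : (detOrder θ).Coprime p := by
  obtain ⟨l, hl⟩ := exists_hom_detChar hθ
  set m := ordCompl[p] (Nat.card G) with hm
  have hmp : m.Coprime p := (Nat.coprime_ordCompl hp Nat.card_pos.ne').symm
  have hgm : ∀ g : G, (orderOf g).Coprime p → g ^ m = 1 := by
    intro g hg
    apply orderOf_dvd_iff_pow_eq_one.1
    have h1 : orderOf g ∣ p ^ (Nat.card G).factorization p * m := by
      rw [hm, Nat.ordProj_mul_ordCompl_eq_self]
      exact orderOf_dvd_natCard g
    exact (Nat.Coprime.pow_right _ hg).dvd_of_dvd_mul_left h1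
  have hle : pResidual p G ≤
      (((powMonoidHom m : ℂˣ →* ℂˣ).comp l).ker).map (pResidual p G).subtype := by
    unfold pResidual
    rw [Subgroup.closure_le]
    intro g hg
    refine ⟨⟨g, Subgroup.subset_closure hg⟩, ?_, rfl⟩
    have h2 : (⟨g, Subgroup.subset_closure hg⟩ : pResidual p G) ^ m = 1 := Subtype.ext (hgm g hg)
    show l (⟨g, Subgroup.subset_closure hg⟩ : pResidual p G) ^ m = 1
    rw [← map_pow, h2, map_one]
  have hall : ∀ x : pResidual p G, l x ^ m = 1 := by
    intro x
    obtain ⟨y, hy, hyx⟩ := hle x.2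
    have : y = x := Subtype.ext hyx
    rw [← this]
    exact hy
  refine Nat.Coprime.coprime_dvd_left ?_ hmp
  apply orderOf_dvd_of_pow_eq_one
  funext x
  simp only [Pi.pow_apply, Pi.one_apply, hl]
  have := congrArg Units.val (hall x)
  simpa using this

theorem restrict_irr_of_not_dvd [Finite G] {p : ℕ} (hp : p.Prime) (N : Subgroup G) [hN : N.Normal]
    {k : ℕ} (hidx : N.index = p ^ k) {χ : G → ℂ} (hχ : IsIrrCharacter G χ)
    (hdeg : ¬ p ∣ charDegree χ) : IsIrrCharacter N (fun n : N => χ n) := by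
  classical
  cases nonempty_fintype G
  have hχc := Helper7.isCharacter_of_irr hχ
  obtain ⟨d, hd0, hd⟩ := Helper7.irr_apply_one hχ
  rw [charDegree_eq hd] at hdeg
  have hres := Helper7.isCharacter_restrict hχc N
  obtain ⟨θ, hθ, hconst⟩ := exists_irr_constituent hres (by
    intro h
    have := congrFun h 1
    simp only [OneMemClass.coe_one, Pi.zero_apply, hd] at this
    exact hd0.ne' (by exact_mod_cast this))
  have hθc := Helper7.isCharacter_of_irr hθ
  obtain ⟨t, ht0, ht⟩ := Helper7.irr_apply_one hθ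
  obtain ⟨e, he, hediv⟩ := Helper26.degree_ratio N hχ hθ hconst
  rw [hd, ht] at he
  have he' : d = e * t := by exact_mod_cast he
  have he1 : e = 1 := by
    rw [hidx] at hediv
    obtain ⟨j, -, rfl⟩ := (Nat.dvd_prime_pow hp).1 hediv
    rcases Nat.eq_zero_or_pos j with rfl | hj
    · simp
    · exact absurd (he' ▸ Dvd.dvd.mul_right (dvd_pow_self p hj.ne') t) hdeg
  obtain ⟨a, ha⟩ := Helper7.classInner_char_nat hres hθc
  have hdegree := clifford_degree N hχ hθ hconst (inertia N θ) (mem_inertia N θ)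
  rw [hd, ha, ht] at hdegree
  have hdegree' : d = a * ((inertia N θ).index * t) := by exact_mod_cast hdegree
  rw [he', he1, one_mul] at hdegree'
  have h1 : a * (inertia N θ).index = 1 := by
    have : t * 1 = t * (a * (inertia N θ).index) := by
      rw [mul_one]; conv_lhs => rw [hdegree']
      ring
    exact (Nat.eq_of_mul_eq_mul_left ht0 this).symm
  have ha1 : a = 1 := Nat.eq_one_of_mul_eq_one_right h1
  have hT1 : (inertia N θ).index = 1 := Nat.eq_one_of_mul_eq_one_left h1
  have hT : inertia N θ = ⊤ := Subgroup.index_eq_one.1 hT1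
  have hinvX : ∀ g : G, conjFun N θ g = θ := by
    intro g
    have : g ∈ inertia N θ := by rw [hT]; trivial
    exact this
  have := restrict_eq_smul_of_invariant N hχ hθ hconst hinvX
  rw [this, ha, ha1]
  simpa using hθ

end Cfsg.Agent.Lib.Helper25
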