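import Mathlib
import Cfsg.Agent.Lib.Helper25.AbQuot
import Cfsg.Agent.Lib.Helper2.CharConst
import Cfsg.Agent.Lib.Helper2.CharEigen

set_option autoImplicit false

namespace Cfsg.Agent.Lib.Helper25

open Cfsg
open scoped ComplexConjugate

universe u

variable {X : Type u} [Group X]

theorem exists_degree_norm_le [Finite X] {χ : X → ℂ} (hχ : IsCharacter X χ) (g : X) :
    ∃ n : ℕ, χ 1 = n ∧ ‖χ g‖ ≤ n := by
  obtain ⟨n, ρ, rfl⟩ := hχ
  refine ⟨n, by rw [Representation.char_one]; simp, ?_⟩
  have := Helper2.norm_char_le ρ g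
  simpa using this

/-- The kernel of a character is contained in the kernel of each constituent. -/
theorem ker_constituent [Fintype X] {f φ : X → ℂ} (hf : IsCharacter X f)
    (hφ : IsIrrCharacter X φ) (hne : classInner f φ ≠ 0) {x : X} (hx : f x = f 1) :
    φ x = φ 1 := by
  have hr := Helper2.IsCharacter.sub_constituent hf hφ hne
  obtain ⟨a, ha, ha'⟩ := exists_degree_norm_le (Helper7.isCharacter_of_irr hφ) x
  obtain ⟨b, hb, hb'⟩ := exists_degree_norm_le hr x
  have h1 : φ x + (f - φ) x = (a : ℂ) + b := by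
    rw [← ha, ← hb]
    simp [hx]
  have h2 := congrArg Complex.re h1
  simp only [Complex.add_re, Complex.natCast_re] at h2
  have h3 : (φ x).re ≤ a := le_trans (Complex.re_le_norm _) ha'
  have h4 : ((f - φ) x).re ≤ b := le_trans (Complex.re_le_norm _) hb'
  have h5 : (φ x).re = a := by linarith
  have h6 : (φ x).im = 0 := by
    have h7 := Complex.sq_norm (φ x)
    rw [Complex.normSq_apply, h5] at h7
    have h8 : ‖φ x‖ ^ 2 ≤ (a : ℝ) ^ 2 := by
      apply pow_le_pow_left₀ (norm_nonneg _) ha'
    have h9 : (φ x).im * (φ x).im ≤ 0 := by nlinarith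
    nlinarith [mul_self_nonneg (φ x).im]
  rw [ha]
  apply Complex.ext
  · simpa using h5
  · simpa using h6

end Cfsg.Agent.Lib.Helper25
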