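import Mathlib
import Cfsg.Agent.Lib.Helper25.Perm
import Cfsg.Agent.Lib.Helper25.CliffordCorr
import Cfsg.Agent.Lib.Helper7.CharColumn

set_option autoImplicit false

namespace Cfsg.Agent.Lib.Helper25

open Cfsg

universe u

variable {G : Type u} [Group G]

/-- If `θ` is a constituent of `χ_A` then `χ(1) ≤ |G:A| θ(1)`. -/
theorem degree_le_index_mul [Fintype G] {χ : G → ℂ} (hχ : IsIrrCharacter G χ) (A : Subgroup G)
    [Fintype A] {θ : A → ℂ} (hθ : IsIrrCharacter A θ) (hne : classInner (fun a : A => χ a) θ ≠ 0)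
    {d e : ℕ} (hd : χ 1 = d) (he : θ 1 = e) : d ≤ A.index * e := by
  classical
  have hχc := Helper7.isCharacter_of_irr hχ
  have hind := isCharacter_indFun A θ (Helper7.isCharacter_of_irr hθ)
  have hne' : classInner (indFun A θ) χ ≠ 0 := by
    rw [frobenius_reciprocity _ _ _ (Helper7.isClassFunction_of_isCharacter hχc),
      ← Helper7.classInner_conj_symm]
    simpa using hne
  have hsub := isCharacter_sub_irr hind hχ hne'
  obtain ⟨r, hr⟩ := Helper7.isCharacter_apply_one hsub
  rw [Pi.sub_apply, indFun_one, he, hd] at hr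
  have : ((A.index * e : ℕ) : ℂ) = ((r + d : ℕ) : ℂ) := by
    push_cast
    linear_combination hr
  have h2 : A.index * e = r + d := by exact_mod_cast this
  omega

/-- The degree of an irreducible character is at most the index of any abelian subgroup. -/
theorem degree_le_index_of_comm [Finite G] {χ : G → ℂ} (hχ : IsIrrCharacter G χ) (A : Subgroup G)
    [IsMulCommutative A] {d : ℕ} (hd : χ 1 = d) : d ≤ A.index := by
  classical
  have : Fintype G := Fintype.ofFinite G
  have hχc := Helper7.isCharacter_of_irr hχ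
  have hres := Helper7.isCharacter_restrict hχc A
  have hne0 : (fun a : A => χ a) ≠ 0 := by
    intro h0
    have h1 := congrFun h0 1
    simp only [OneMemClass.coe_one, Pi.zero_apply] at h1
    exact Helper7.irr_apply_one_ne_zero hχ h1
  obtain ⟨θ, hθ, hne⟩ := exists_irr_constituent hres hne0
  have h1 := degree_le_index_mul hχ A hθ hne hd (e := 1)
    (by rw [Helper7.irr_apply_one_of_comm hθ]; simp)
  omega

theorem degree_sq_le_card [Finite G] {χ : G → ℂ} (hχ : IsIrrCharacter G χ) {d : ℕ}
    (hd : χ 1 = d) : d ^ 2 ≤ Nat.card G := by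
  classical
  have : Fintype G := Fintype.ofFinite G
  have : Fintype (IrrCharacter G) := Fintype.ofFinite _
  choose e _ he using fun ψ : IrrCharacter G => Helper7.irr_apply_one ψ.2
  have h1 := Helper7.sum_sq_degrees (G := G)
  simp only [he] at h1
  have h2 : ∑ ψ : IrrCharacter G, e ψ ^ 2 = Nat.card G := by exact_mod_cast h1
  have h3 : e ⟨χ, hχ⟩ = d := by
    have := he ⟨χ, hχ⟩
    simp only [hd] at this
    exact_mod_cast this.symm
  rw [← h2, ← h3]
  exact Finset.single_le_sum (f := fun ψ : IrrCharacter G => e ψ ^ 2) (fun _ _ => Nat.zero_le _)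
    (Finset.mem_univ _)

end Cfsg.Agent.Lib.Helper25
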