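import Mathlib
import Cfsg.Agent.Lib.Helper25.FrobSchur2
import Cfsg.Agent.Lib.Helper25.Codegree
import Cfsg.Agent.Lib.Helper25.GalSum
import Cfsg.Agent.Lib.Helper7.CharColumn

set_option autoImplicit false

namespace Cfsg.Agent.Lib.Helper25

open Cfsg
open scoped ComplexConjugate

universe u

variable {G : Type u} [Group G]

theorem apply_one_eq_charDegree {χ : G → ℂ} (hχ : IsIrrCharacter G χ) :
    χ 1 = (charDegree χ : ℂ) := by
  obtain ⟨d, -, hd⟩ := Helper7.irr_apply_one hχ
  rw [charDegree_eq hd, hd]

theorem card_sq_eq_one [Fintype G] [DecidableEq G] :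
    (Finset.univ.filter (fun u : G => u * u = 1)).card = Nat.card {x : G // orderOf x = 2} + 1 := by
  have h1 : Finset.univ.filter (fun u : G => u * u = 1)
      = insert 1 (Finset.univ.filter (fun u : G => orderOf u = 2)) := by
    ext u
    simp only [Finset.mem_filter, Finset.mem_univ, true_and, Finset.mem_insert]
    rw [orderOf_eq_prime_iff (p := 2), pow_two]
    by_cases h : u = 1
    · simp [h]
    · simp [h]
  rw [h1, Finset.card_insert_of_notMem (by simp), Nat.card_eq_fintype_card, Fintype.card_subtype]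

open Classical in
theorem succ_involutions_le [Fintype G] [Fintype (IrrCharacter G)] :
    Nat.card {x : G // orderOf x = 2} + 1 ≤
      ∑ χ ∈ Finset.univ.filter (fun χ : IrrCharacter G => ∀ g, ((χ : G → ℂ) g).im = 0),
        charDegree (χ : G → ℂ) := by
  have h1 : ((Nat.card {x : G // orderOf x = 2} + 1 : ℕ) : ℂ)
      = ∑ χ : IrrCharacter G, fsInd (χ : G → ℂ) * (χ : G → ℂ) 1 := by
    rw [← card_sq_eq_one (G := G)]
    convert card_sqrt_eq_sum (G := G) 1
  have h2 := congrArg Complex.re h1
  rw [Complex.natCast_re, Complex.re_sum] at h2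
  have h3 : ∀ χ : IrrCharacter G, (fsInd (χ : G → ℂ) * (χ : G → ℂ) 1).re ≤
      if (∀ g, ((χ : G → ℂ) g).im = 0) then (charDegree (χ : G → ℂ) : ℝ) else 0 := by
    intro χ
    rw [apply_one_eq_charDegree χ.2]
    rcases fsInd_trichotomy χ.2 with h | h | h
    · rw [h]
      split_ifs <;> simp
    · have hr : ∀ g, ((χ : G → ℂ) g).im = 0 := by
        by_contra hcon
        push Not at hcon
        rw [(fsInd_eq_zero_iff χ.2).2 hcon] at h
        exact zero_ne_one h
      rw [h, if_pos hr]
      simp
    · have hr : ∀ g, ((χ : G → ℂ) g).im = 0 := by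
        by_contra hcon
        push Not at hcon
        rw [(fsInd_eq_zero_iff χ.2).2 hcon] at h
        have : (0 : ℂ) ≠ -1 := by norm_num
        exact this h
      rw [h, if_pos hr]
      simp only [neg_mul, one_mul, Complex.neg_re, Complex.natCast_re]
      have : (0 : ℝ) ≤ charDegree (χ : G → ℂ) := by positivity
      linarith
  have h4 := Finset.sum_le_sum (fun χ (_ : χ ∈ Finset.univ) => h3 χ)
  rw [← h2, ← Finset.sum_filter] at h4
  exact_mod_cast h4

theorem sum_charDegree_sq [Fintype G] [Fintype (IrrCharacter G)] :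
    ∑ χ : IrrCharacter G, (charDegree (χ : G → ℂ)) ^ 2 = Nat.card G := by
  have h1 := Helper7.sum_sq_degrees (G := G)
  simp only [fun χ : IrrCharacter G => apply_one_eq_charDegree χ.2] at h1
  exact_mod_cast h1

theorem sum_card_centralizer [Fintype G] [Fintype (IrrCharacter G)] :
    ∑ x : G, Nat.card (Subgroup.centralizer ({x} : Set G))
      = Fintype.card (IrrCharacter G) * Nat.card G := by
  have h1 : ∀ x : G, (Nat.card (Subgroup.centralizer ({x} : Set G)) : ℝ)
      = ∑ χ : IrrCharacter G, ‖(χ : G → ℂ) x‖ ^ 2 := by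
    intro x
    have h1 := Helper7.column_orthogonality_self (G := G) x
    simp only [Complex.mul_conj, Complex.normSq_eq_norm_sq] at h1
    exact_mod_cast h1.symm
  have h2 : ((∑ x : G, Nat.card (Subgroup.centralizer ({x} : Set G)) : ℕ) : ℝ)
      = ((Fintype.card (IrrCharacter G) * Nat.card G : ℕ) : ℝ) := by
    push_cast
    rw [Finset.sum_congr rfl (fun x _ => h1 x), Finset.sum_comm,
      Finset.sum_congr rfl (fun χ _ => sum_norm_sq_eq_card χ.2), Finset.sum_const, Finset.card_univ,
      nsmul_eq_mul]
  exact_mod_cast h2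

end Cfsg.Agent.Lib.Helper25
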