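import Mathlib
import Cfsg.Agent.Lib.Helper25.FS5
import Cfsg.Agent.Lib.Helper25.Gallagher
import Cfsg.Agent.Lib.Helper25.AbQuot3
import Cfsg.Agent.Lib.Helper25.IndChar
import Cfsg.Agent.Lib.Helper7.BlockNormal

set_option autoImplicit false

namespace Cfsg.Agent.Lib.Helper25

open Cfsg
open scoped ComplexConjugate

universe u

variable {G : Type u} [Group G]

theorem restrict_irr_of_sup_ker [Finite G] (χ : IrrCharacter G) (K H : Subgroup G) [K.Normal]
    (hK : ∀ u ∈ K, (χ : G → ℂ) u = (χ : G → ℂ) 1) (hKH : K ⊔ H = ⊤) :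
    IsIrrCharacter H (fun h : H => (χ : G → ℂ) h) := by
  obtain ⟨ψ, hψ⟩ := Helper7.exists_quotient_char χ K hK
  have hsurj : Function.Surjective ((QuotientGroup.mk' K).comp H.subtype) := by
    intro x
    obtain ⟨g, rfl⟩ := QuotientGroup.mk'_surjective K x
    have hg : g ∈ K ⊔ H := hKH ▸ Subgroup.mem_top g
    rw [Subgroup.mem_sup_of_normal_left] at hg
    obtain ⟨k, hk, h, hh, rfl⟩ := hg
    refine ⟨⟨h, hh⟩, ?_⟩
    simp only [MonoidHom.comp_apply, Subgroup.subtype_apply, map_mul]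
    have : (QuotientGroup.mk' K) k = 1 := (QuotientGroup.eq_one_iff (N := K) k).2 hk
    rw [this, one_mul]
  have := isIrrCharacter_comp_surjective _ hsurj ψ.2
  convert this using 1
  funext h
  exact hψ h

theorem eq_zero_of_apply_one_eq_zero [Finite G] {f : G → ℂ} (hf : IsCharacter G f) (h0 : f 1 = 0) :
    f = 0 := by
  funext g
  obtain ⟨n, hn, hle⟩ := exists_degree_norm_le hf g
  rw [h0] at hn
  have : n = 0 := by exact_mod_cast hn.symm
  rw [this] at hle
  simpa using hle

/-- A constituent of no larger degree is everything. -/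
theorem eq_of_constituent_of_degree_le [Fintype G] {f φ : G → ℂ} (hf : IsCharacter G f)
    (hφ : IsIrrCharacter G φ) (hne : classInner f φ ≠ 0) {a b : ℕ} (ha : f 1 = a) (hb : φ 1 = b)
    (hab : a ≤ b) : f = φ := by
  have h1 := Helper2.IsCharacter.sub_constituent hf hφ hne
  obtain ⟨k, hk⟩ := Helper2.IsCharacter.degree_constituent hf hφ hne
  rw [ha, hb] at hk
  have hk' : a = b + k := by exact_mod_cast hk
  have hk0 : a = b := by omega
  have h2 := eq_zero_of_apply_one_eq_zero h1 (by simp [ha, hb, hk0])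
  exact sub_eq_zero.1 h2

theorem indFun_one_apply [Fintype G] [DecidableEq G] (H : Subgroup G) [DecidablePred (· ∈ H)] (g : G) :
    indFun H (fun _ => 1) g
      = (Nat.card H : ℂ)⁻¹ * ((Finset.univ.filter (fun x : G => x⁻¹ * g * x ∈ H)).card : ℂ) := by
  rw [indFun_apply]
  congr 1
  rw [Finset.card_filter]
  push_cast
  apply Finset.sum_congr rfl
  intro x _
  by_cases h : x⁻¹ * g * x ∈ H
  · rw [extendByZero_mem H _ h, if_pos h]
  · rw [extendByZero_not_mem H _ h, if_neg h]

/-- Either the character induced from an irreducible restriction has a constituent of larger degree,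
or the character vanishes on `H` off the core of `H`. -/
theorem exists_larger_or_core [Fintype G] (χ : IrrCharacter G) (H : Subgroup G)
    (hirr : IsIrrCharacter H (fun h : H => (χ : G → ℂ) h)) :
    (∃ ψ : IrrCharacter G, classInner (indFun H (fun h : H => (χ : G → ℂ) h)) (ψ : G → ℂ) ≠ 0 ∧
      charDegree (χ : G → ℂ) < charDegree (ψ : G → ℂ)) ∨
    (∀ h ∈ H, (χ : G → ℂ) h ≠ 0 → h ∈ H.normalCore) := by
  classical
  by_contra hcon
  push Not at hcon
  obtain ⟨hle, h, hh, hχh, hcore⟩ := hcon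
  have := Helper2.finite_irrCharacter (G := G)
  cases nonempty_fintype (IrrCharacter G)
  set Θ := indFun H (fun h : H => (χ : G → ℂ) h) with hΘ
  have hΘc : IsCharacter G Θ := isCharacter_indFun H _ (Helper7.isCharacter_of_irr hirr)
  have hcf : IsClassFunction G (χ : G → ℂ) :=
    Helper7.isClassFunction_of_isCharacter (Helper7.isCharacter_of_irr χ.2)
  have hΘπ : Θ = indFun H (fun _ => 1) * (χ : G → ℂ) := by
    rw [← indFun_mul_restrict H _ hcf, hΘ]
    congr 1
    funext x
    simp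
  have hres : ∀ ψ : IrrCharacter G, classInner Θ (ψ : G → ℂ) ≠ 0 →
      ∀ y ∈ H, (ψ : G → ℂ) y = (χ : G → ℂ) y := by
    intro ψ hψ y hy
    have hcfψ : IsClassFunction G (ψ : G → ℂ) :=
      Helper7.isClassFunction_of_isCharacter (Helper7.isCharacter_of_irr ψ.2)
    have h1 : classInner (fun h : H => (ψ : G → ℂ) h) (fun h : H => (χ : G → ℂ) h) ≠ 0 := by
      rw [← classInner_conj_symm, ← frobenius_reciprocity H _ _ hcfψ]
      intro h0
      exact hψ ((map_eq_zero _).1 h0)
    have h2 := eq_of_constituent_of_degree_le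
      (Helper7.isCharacter_restrict (Helper7.isCharacter_of_irr ψ.2) H) hirr h1
      (a := charDegree (ψ : G → ℂ)) (b := charDegree (χ : G → ℂ))
      (apply_one_eq_charDegree ψ.2) (apply_one_eq_charDegree χ.2) (hle ψ hψ)
    exact congrFun h2 ⟨y, hy⟩
  have hsum : ∀ y ∈ H, Θ y = (∑ ψ : IrrCharacter G, classInner Θ (ψ : G → ℂ)) * (χ : G → ℂ) y := by
    intro y hy
    conv_lhs => rw [Helper2.IsCharacter.eq_sum_irr hΘc]
    rw [Finset.sum_apply, Finset.sum_mul]
    apply Finset.sum_congr rfl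
    intro ψ _
    rw [Pi.smul_apply, smul_eq_mul]
    by_cases h0 : classInner Θ (ψ : G → ℂ) = 0
    · rw [h0, zero_mul, zero_mul]
    · rw [hres ψ h0 y hy]
  have hχ1 : (χ : G → ℂ) 1 ≠ 0 := by
    obtain ⟨d, hd0, hd⟩ := Helper7.irr_apply_one χ.2
    rw [hd]
    exact_mod_cast hd0.ne'
  have e1 := hsum 1 H.one_mem
  have e2 := hsum h hh
  rw [hΘπ, Pi.mul_apply] at e1 e2
  have e3 : indFun H (fun _ => 1) 1 = indFun H (fun _ => 1) h :=
    (mul_right_cancel₀ hχ1 e1).trans (mul_right_cancel₀ hχh e2).symm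
  rw [indFun_one_apply, indFun_one_apply] at e3
  have hH0 : ((Nat.card H : ℂ))⁻¹ ≠ 0 := by
    apply inv_ne_zero
    exact_mod_cast Nat.card_pos.ne'
  have e4 := mul_left_cancel₀ hH0 e3
  have e5 : (Finset.univ.filter (fun x : G => x⁻¹ * 1 * x ∈ H)).card
      = (Finset.univ.filter (fun x : G => x⁻¹ * h * x ∈ H)).card := by exact_mod_cast e4
  have e6 : Finset.univ.filter (fun x : G => x⁻¹ * 1 * x ∈ H) = Finset.univ := by
    ext x
    simp [H.one_mem]
  rw [e6] at e5
  have e7 : Finset.univ.filter (fun x : G => x⁻¹ * h * x ∈ H) = Finset.univ :=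
    Finset.eq_univ_of_card _ (by rw [← e5, Finset.card_univ])
  apply hcore
  show ∀ b : G, b * h * b⁻¹ ∈ H
  intro b
  have : b⁻¹ ∈ Finset.univ.filter (fun x : G => x⁻¹ * h * x ∈ H) := by
    rw [e7]; exact Finset.mem_univ _
  simpa using this

end Cfsg.Agent.Lib.Helper25
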