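import Mathlib
import Cfsg.Agent.Lib.Helper25.BG1
import Cfsg.Agent.Lib.Helper25.AbQuot
import Cfsg.Agent.Lib.Helper17.Syl
import Cfsg.Agent.Lib.Helper1.Fitting

set_option autoImplicit false

namespace Cfsg.Agent.Lib.Helper25

open Cfsg
open scoped ComplexConjugate

universe u

variable {G : Type u} [Group G]

theorem exists_kernel [Finite G] {ψ : G → ℂ} (hψ : IsCharacter G ψ) :
    ∃ L : Subgroup G, L.Normal ∧ ∀ g, g ∈ L ↔ ψ g = ψ 1 := by
  obtain ⟨n, ρ, rfl⟩ := hψ
  refine ⟨MonoidHom.ker ρ, inferInstance, fun g => ?_⟩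
  rw [MonoidHom.mem_ker, Representation.char_one, Helper2.char_eq_finrank_iff]
  rfl

theorem bg_of_coatom [Fintype G] (χ : IrrCharacter G) (K : Subgroup G) [K.Normal]
    (hK : ∀ g, g ∈ K ↔ (χ : G → ℂ) g = (χ : G → ℂ) 1) (H : Subgroup G) (hH : IsCoatom H)
    (hKH : K ⊔ H = ⊤)
    (hnc : ¬ ∀ h ∈ H, (χ : G → ℂ) h ≠ 0 → h ∈ H.normalCore) :
    ∃ ψ : IrrCharacter G, charDegree (χ : G → ℂ) < charDegree (ψ : G → ℂ) ∧
      ∃ L : Subgroup G, (∀ g, g ∈ L ↔ (ψ : G → ℂ) g = (ψ : G → ℂ) 1) ∧ L < K := by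
  classical
  have hirr := restrict_irr_of_sup_ker χ K H (fun u hu => (hK u).1 hu) hKH
  rcases exists_larger_or_core χ H hirr with ⟨ψ, hψ, hdeg⟩ | h
  swap
  · exact absurd h hnc
  refine ⟨ψ, hdeg, ?_⟩
  obtain ⟨L, hLn, hL⟩ := exists_kernel (Helper7.isCharacter_of_irr ψ.2)
  refine ⟨L, hL, ?_⟩
  have hcfψ : IsClassFunction G (ψ : G → ℂ) :=
    Helper7.isClassFunction_of_isCharacter (Helper7.isCharacter_of_irr ψ.2)
  have h1 : classInner (fun h : H => (ψ : G → ℂ) h) (fun h : H => (χ : G → ℂ) h) ≠ 0 := by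
    rw [← classInner_conj_symm, ← frobenius_reciprocity H _ _ hcfψ]
    intro h0
    exact hψ ((map_eq_zero _).1 h0)
  have hψH := Helper7.isCharacter_restrict (Helper7.isCharacter_of_irr ψ.2) H
  have hLH : L ≤ H := by
    by_contra hcon
    have htop : L ⊔ H = ⊤ := by
      apply hH.2
      exact lt_of_le_of_ne le_sup_right (fun h => hcon (h ▸ le_sup_left))
    have hirr' := restrict_irr_of_sup_ker ψ L H (fun u hu => (hL u).1 hu) htop
    have h2 := Helper2.irr_orthonormal hirr' hirr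
    rw [if_neg] at h2
    · exact h1 h2
    · intro he
      have := congrFun he 1
      simp only [OneMemClass.coe_one] at this
      rw [apply_one_eq_charDegree ψ.2, apply_one_eq_charDegree χ.2] at this
      have : charDegree (ψ : G → ℂ) = charDegree (χ : G → ℂ) := by exact_mod_cast this
      omega
  have hLK : L ≤ K := by
    intro l hl
    rw [hK]
    have := ker_constituent hψH hirr h1 (x := ⟨l, hLH hl⟩) ((hL l).1 hl)
    exact this
  refine lt_of_le_of_ne hLK ?_
  rintro rfl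
  apply hH.1
  rw [← hKH]
  exact (sup_eq_right.2 hLH).symm

/-- Frattini argument in the form used here. -/
theorem le_of_frattini' [Finite G] {p : ℕ} [Fact p.Prime] {T M W H : Subgroup G}
    (hT : Helper17.IsSyl p T M) (hW : W.Normal) (hTW : T ≤ W) (hWM : W ≤ M) (hWH : W ≤ H)
    (hN : Subgroup.normalizer (T : Set G) ≤ H) : H = ⊤ := by
  rw [eq_top_iff]
  intro g _
  have hT' := hT.of_le hTW hWM
  obtain ⟨n, hn, hn'⟩ := Helper17.frattini_arg (M := ⊤) hT'
    (by rw [Subgroup.normalizer_eq_top]) (Subgroup.mem_top g)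
  have : g = n * (n⁻¹ * g) := by group
  rw [this]
  exact H.mul_mem (hWH hn) (hN hn')

theorem bg_case1 [Fintype G] (χ : IrrCharacter G) (K : Subgroup G) [K.Normal]
    (hK : ∀ g, g ∈ K ↔ (χ : G → ℂ) g = (χ : G → ℂ) 1) (h : ¬ K ≤ fittingSubgroup G) :
    ∃ ψ : IrrCharacter G, charDegree (χ : G → ℂ) < charDegree (ψ : G → ℂ) ∧
      ∃ L : Subgroup G, (∀ g, g ∈ L ↔ (ψ : G → ℂ) g = (ψ : G → ℂ) 1) ∧ L < K := by
  have hnil : ¬ Group.IsNilpotent K := fun hn => h (Helper1.le_fitting inferInstance hn)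
  have q := (Group.isNilpotent_of_finite_tfae (G := K)).out 0 3
  rw [q] at hnil
  push Not at hnil
  obtain ⟨p, hp, P, hP⟩ := hnil
  set T := (P : Subgroup K).map K.subtype with hT
  have hTs : Helper17.IsSyl p T K := ⟨P, rfl⟩
  have hNtop : Subgroup.normalizer (T : Set G) ≠ ⊤ := by
    intro htop
    apply hP
    have hTn : T.Normal := Subgroup.normalizer_eq_top_iff.1 htop
    have : (P : Subgroup K) = T.subgroupOf K := by
      rw [hT, Subgroup.subgroupOf, Subgroup.comap_map_eq_self_of_injective K.subtype_injective]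
    rw [this]
    infer_instance
  obtain ⟨H, hH, hNH⟩ := (eq_top_or_exists_le_coatom _).resolve_left hNtop
  have hKH : K ⊔ H = ⊤ := by
    rw [eq_top_iff]
    intro g _
    obtain ⟨n, hn, hn'⟩ := Helper17.frattini_arg (M := ⊤) hTs
      (by rw [Subgroup.normalizer_eq_top]) (Subgroup.mem_top g)
    have : g = n * (n⁻¹ * g) := by group
    rw [this]
    exact Subgroup.mul_mem_sup hn (hNH hn')
  apply bg_of_coatom χ K hK H hH hKH
  intro hcore
  apply hH.1
  have hχ1 : (χ : G → ℂ) 1 ≠ 0 := by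
    obtain ⟨d, hd0, hd⟩ := Helper7.irr_apply_one χ.2
    rw [hd]
    exact_mod_cast hd0.ne'
  refine le_of_frattini' (W := H.normalCore ⊓ K) hTs inferInstance ?_ inf_le_right
    (inf_le_left.trans H.normalCore_le) hNH
  intro t ht
  have htK : t ∈ K := hTs.le ht
  have htH : t ∈ H := hNH (Subgroup.le_normalizer ht)
  exact ⟨hcore t htH (by rw [(hK t).1 htK]; exact hχ1), htK⟩

end Cfsg.Agent.Lib.Helper25
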