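import Mathlib
import Cfsg.Agent.Lib.Helper25.BG2
import Cfsg.Agent.Lib.Helper25.DetExt
import Cfsg.Agent.Lib.Helper25.CliffordCorr

set_option autoImplicit false

namespace Cfsg.Agent.Lib.Helper25

open Cfsg
open scoped ComplexConjugate

universe u

variable {K : Type u} [Group K]

theorem norm_restrict_eq [Fintype K] (L : Subgroup K) [Fintype L] {ϑ : K → ℂ}
    (hϑ : IsIrrCharacter K ϑ) :
    classInner (fun l : L => ϑ l) (fun l : L => ϑ l)
      = classInner (indFun L (fun _ => 1) * ϑ) ϑ := by
  have hcf := Helper7.isClassFunction_of_isCharacter (Helper7.isCharacter_of_irr hϑ)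
  rw [← indFun_mul_restrict L _ hcf, frobenius_reciprocity L _ ϑ hcf]
  congr 1
  funext x
  simp

theorem indFun_one_of_mem_normal [Fintype K] (L : Subgroup K) [hL : L.Normal] {k : K} (hk : k ∈ L) :
    indFun L (fun _ => 1) k = (L.index : ℂ) := by
  classical
  rw [indFun_one_apply]
  have : Finset.univ.filter (fun x : K => x⁻¹ * k * x ∈ L) = Finset.univ := by
    ext x
    simp only [Finset.mem_filter, Finset.mem_univ, true_and, iff_true]
    have := hL.conj_mem k hk x⁻¹
    simpa using this
  rw [this, Finset.card_univ, ← Nat.card_eq_fintype_card, ← L.card_mul_index]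
  have hL0 : (Nat.card L : ℂ) ≠ 0 := by exact_mod_cast Nat.card_pos.ne'
  push_cast
  field_simp

theorem norm_restrict_of_vanish [Fintype K] (L : Subgroup K) [L.Normal] [Fintype L] {ϑ : K → ℂ}
    (hϑ : IsIrrCharacter K ϑ) (hv : ∀ k, k ∉ L → ϑ k = 0) :
    classInner (fun l : L => ϑ l) (fun l : L => ϑ l) = (L.index : ℂ) := by
  rw [norm_restrict_eq L hϑ]
  have : indFun L (fun _ => 1) * ϑ = (L.index : ℂ) • ϑ := by
    funext k
    rw [Pi.mul_apply, Pi.smul_apply, smul_eq_mul]
    by_cases hk : k ∈ L
    · rw [indFun_one_of_mem_normal L hk]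
    · rw [hv k hk, mul_zero, mul_zero]
  rw [this, classInner_smul_left, Helper2.irr_orthonormal hϑ hϑ, if_pos rfl, mul_one]

theorem norm_restrict_of_gen [Fintype K] (L : Subgroup K) [L.Normal] [Fintype L]
    (hab : ∀ x y : K, x * y * x⁻¹ * y⁻¹ ∈ L) {ϑ : K → ℂ}
    (hϑ : IsIrrCharacter K ϑ)
    (hgen : Subgroup.closure ((L : Set K) ∪ {k | ϑ k ≠ 0}) = ⊤) :
    classInner (fun l : L => ϑ l) (fun l : L => ϑ l) = 1 := by
  classical
  have := Helper2.finite_irrCharacter (G := K)
  cases nonempty_fintype (IrrCharacter K)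
  rw [norm_restrict_eq L hϑ]
  have hπ : IsCharacter K (indFun L (fun _ => 1)) :=
    isCharacter_indFun L _ (Helper7.isCharacter_of_irr Helper7.isIrrCharacter_one)
  set one : IrrCharacter K := ⟨fun _ => 1, Helper7.isIrrCharacter_one⟩ with hone
  have hdec : indFun L (fun _ => 1) * ϑ
      = ∑ ψ : IrrCharacter K, classInner (indFun L (fun _ => 1)) (ψ : K → ℂ) • ((ψ : K → ℂ) * ϑ) := by
    conv_lhs => rw [Helper2.IsCharacter.eq_sum_irr hπ]
    rw [Finset.sum_mul]
    apply Finset.sum_congr rfl
    intro ψ _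
    rw [smul_mul_assoc]
  rw [hdec, classInner_sum_left, Finset.sum_eq_single one]
  · rw [classInner_smul_left]
    have h1 : (one : K → ℂ) * ϑ = ϑ := by
      funext k; simp [hone]
    rw [h1, Helper2.irr_orthonormal hϑ hϑ, if_pos rfl, mul_one,
      frobenius_reciprocity L _ _ (Helper7.isClassFunction_of_isCharacter
        (Helper7.isCharacter_of_irr one.2))]
    exact (Helper2.irr_orthonormal (Helper7.isIrrCharacter_one (G := L))
      Helper7.isIrrCharacter_one).trans (if_pos rfl)
  · intro ψ _ hψ
    rw [classInner_smul_left]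
    by_cases hm : classInner (indFun L (fun _ => 1)) (ψ : K → ℂ) = 0
    · rw [hm, zero_mul]
    have hker := ker_of_constituent_indFun_one L ψ.2 hm
    have hlin : (ψ : K → ℂ) 1 = 1 := by
      apply linear_of_abelian_mod_ker ψ.2
      intro x y
      exact hker _ (hab x y)
    obtain ⟨lam, hlam⟩ := Helper2.IsCharacter.exists_hom_of_apply_one
      (Helper7.isCharacter_of_irr ψ.2) hlin
    have hirr := isIrrCharacter_linear_mul lam hϑ
    have heq : (ψ : K → ℂ) * ϑ = fun g => (lam g : ℂ) * ϑ g := by
      funext g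
      rw [Pi.mul_apply, hlam]
    rw [heq, Helper2.irr_orthonormal hirr hϑ, if_neg, mul_zero]
    intro he
    apply hψ
    have hle : Subgroup.closure ((L : Set K) ∪ {k | ϑ k ≠ 0}) ≤ lam.ker := by
      rw [Subgroup.closure_le]
      rintro k (hk | hk)
      · rw [SetLike.mem_coe, MonoidHom.mem_ker]
        have := hker k hk
        rw [hlam, hlin] at this
        exact Units.ext this
      · rw [SetLike.mem_coe, MonoidHom.mem_ker]
        have h2 : (lam k : ℂ) * ϑ k = ϑ k := congrFun he k
        have h3 : ((lam k : ℂ) - 1) * ϑ k = 0 := by linear_combination h2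
        rcases mul_eq_zero.1 h3 with h4 | h4
        · have : (lam k : ℂ) = 1 := by linear_combination h4
          exact Units.ext this
        · exact absurd h4 hk
    rw [hgen] at hle
    apply Subtype.ext
    funext k
    rw [hlam, MonoidHom.mem_ker.1 (hle (Subgroup.mem_top k))]
    simp [hone]
  · intro h
    exact absurd (Finset.mem_univ _) h

end Cfsg.Agent.Lib.Helper25
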