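import Mathlib
import Cfsg.Agent.Lib.Helper25.GoDown1
import Cfsg.Agent.Lib.Helper25.Monomial

set_option autoImplicit false

namespace Cfsg.Agent.Lib.Helper25

open Cfsg
open scoped ComplexConjugate

universe u

variable {K : Type u} [Group K]

/-- restriction of an automorphism stabilising `L` -/
noncomputable def restrictAut (L : Subgroup K) (α : K ≃* K) (h : ∀ l, α l ∈ L ↔ l ∈ L) : L ≃* L :=
  MulEquiv.ofBijective
    ((α.toMonoidHom.comp L.subtype).codRestrict L (fun l => (h l).2 l.2))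
    ⟨fun a b hab => by
      have := congrArg Subtype.val hab
      exact Subtype.ext (α.injective this),
     fun l => ⟨⟨α.symm l, (h _).1 (by simp)⟩, Subtype.ext (by simp)⟩⟩

theorem restrictAut_coe (L : Subgroup K) (α : K ≃* K) (h : ∀ l, α l ∈ L ↔ l ∈ L) (l : L) :
    ((restrictAut L α h l : L) : K) = α l := rfl

theorem inertia_invariant [Fintype K] (L : Subgroup K) [hL : L.Normal] [Fintype L]
    (hab : ∀ x y : K, x * y * x⁻¹ * y⁻¹ ∈ L)
    (α : K ≃* K) (hαL : ∀ l, α l ∈ L ↔ l ∈ L)
    {ϑ : K → ℂ} (hϑ : IsIrrCharacter K ϑ) (hinv : ∀ k, ϑ (α k) = ϑ k)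
    {φ : L → ℂ} (hφ : IsIrrCharacter L φ) (hne : classInner (fun l : L => ϑ l) φ ≠ 0)
    {x : K} (hx : x ∈ inertia L φ) : α x ∈ inertia L φ := by
  set αL := restrictAut L α hαL with hαLdef
  have hφα : IsIrrCharacter L (fun l => φ (αL l)) :=
    isIrrCharacter_comp_surjective αL.toMonoidHom αL.surjective hφ
  have hne' : classInner (fun l : L => ϑ l) (fun l => φ (αL l)) ≠ 0 := by
    have h1 := classInner_comp_mulEquiv αL (fun l : L => ϑ l) φ
    have h2 : (fun l : L => ϑ ((αL l : L) : K)) = fun l : L => ϑ l := by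
      funext l
      rw [hαLdef, restrictAut_coe, hinv]
    rw [h2] at h1
    rw [h1]
    exact hne
  obtain ⟨k, hk⟩ : ∃ k : K, (fun l => φ (αL l)) = conjFun L φ k := by
    by_contra hcon
    exact hne' (classInner_restrict_eq_zero_of_not_conj L hϑ hφ hφα hne hcon)
  have hcfφ := Helper7.isClassFunction_of_isCharacter (Helper7.isCharacter_of_irr hφ)
  have hy : k * x * k⁻¹ ∈ inertia L φ := by
    have : k * x * k⁻¹ = (k * x * k⁻¹ * x⁻¹) * x := by group
    rw [this]
    exact Subgroup.mul_mem _ (le_inertia L hcfφ (hab k x)) hx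
  rw [mem_inertia] at hy ⊢
  intro l
  obtain ⟨l', rfl⟩ := αL.surjective l
  have e1 := congrFun hk l'
  have e2 := congrFun hk ⟨x * l' * x⁻¹, hL.conj_mem l' l'.2 x⟩
  simp only [conjFun_apply] at e1 e2
  have e3 : (⟨α x * ((αL l' : L) : K) * (α x)⁻¹, hL.conj_mem _ (αL l').2 _⟩ : L)
      = αL ⟨x * l' * x⁻¹, hL.conj_mem l' l'.2 x⟩ := by
    apply Subtype.ext
    show α x * α l' * (α x)⁻¹ = α (x * l' * x⁻¹)
    simp
  rw [e3, e2, e1]
  have e4 := hy ⟨k * l' * k⁻¹, hL.conj_mem l' l'.2 k⟩
  rw [← e4]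
  congr 1
  apply Subtype.ext
  simp only
  group

theorem going_down [Fintype K] (L : Subgroup K) [hL : L.Normal] [Fintype L]
    (hab : ∀ x y : K, x * y * x⁻¹ * y⁻¹ ∈ L)
    (A : Set (K ≃* K)) (hAL : ∀ α ∈ A, ∀ l, α l ∈ L ↔ l ∈ L)
    (hchief : ∀ M : Subgroup K, L ≤ M → (∀ α ∈ A, ∀ m ∈ M, α m ∈ M) → M = L ∨ M = ⊤)
    {ϑ : K → ℂ} (hϑ : IsIrrCharacter K ϑ) (hinv : ∀ α ∈ A, ∀ k, ϑ (α k) = ϑ k) :
    IsIrrCharacter L (fun l : L => ϑ l) ∨
    (∃ (φ : L → ℂ) (e : ℕ), IsIrrCharacter L φ ∧ (fun l : L => ϑ l) = (e : ℂ) • φ ∧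
      e ^ 2 = L.index) ∨
    (∃ F : Finset (L → ℂ), (∀ φ ∈ F, IsIrrCharacter L φ) ∧ F.card = L.index ∧
      (fun l : L => ϑ l) = ∑ φ ∈ F, φ) := by
  classical
  have hϑc := Helper7.isCharacter_of_irr hϑ
  have hcf := Helper7.isClassFunction_of_isCharacter hϑc
  have hrc : IsCharacter L (fun l : L => ϑ l) := Helper7.isCharacter_restrict hϑc L
  have hr0 : (fun l : L => ϑ l) ≠ 0 := by
    intro h0
    exact Helper7.irr_apply_one_ne_zero hϑ (congrFun h0 1)
  obtain ⟨φ, hφ, hne⟩ := Helper2.IsCharacter.exists_constituent hrc hr0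
  have hcfφ := Helper7.isClassFunction_of_isCharacter (Helper7.isCharacter_of_irr hφ)
  obtain ⟨n, hn⟩ := Helper2.IsCharacter.classInner_nat hrc (Helper7.isCharacter_of_irr hφ)
  rcases hchief (inertia L φ) (le_inertia L hcfφ)
    (fun α hα m hm => inertia_invariant L hab α (hAL α hα) hϑ (hinv α hα) hφ hne hm) with hT | hT
  · -- induced case
    right; right
    have hTm : ∀ g : K, g ∈ L ↔ ∀ h : L, φ ⟨g * h * g⁻¹, hL.conj_mem h h.2 g⟩ = φ h := by
      intro g
      rw [← mem_inertia, hT]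
    have hind : IsIrrCharacter K (indFun L φ) :=
      isIrrCharacter_indFun_of_inertia L L hφ hTm le_rfl hφ (by
        rw [Helper2.irr_orthonormal hφ hφ, if_pos rfl]; exact one_ne_zero)
    have h1 : classInner (indFun L φ) ϑ ≠ 0 := by
      rw [frobenius_reciprocity L φ ϑ hcf, ← classInner_conj_symm]
      intro h0
      exact hne ((map_eq_zero _).1 h0)
    have h2 : indFun L φ = ϑ := by
      by_contra hcon
      rw [Helper2.irr_orthonormal hind hϑ, if_neg hcon] at h1
      exact h1 rfl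
    have h3 : classInner (fun l : L => ϑ l) φ = 1 := by
      rw [← classInner_conj_symm, ← frobenius_reciprocity L φ ϑ hcf, h2,
        Helper2.irr_orthonormal hϑ hϑ, if_pos rfl, map_one]
    have h4 := clifford' L hϑ hφ hne
    rw [h3, one_smul] at h4
    refine ⟨Finset.univ.image (conjFun L φ), ?_, ?_, h4⟩
    · intro ψ hψ
      obtain ⟨g, -, rfl⟩ := Finset.mem_image.1 hψ
      exact isIrrCharacter_conjFun L hφ g
    · have h5 := clifford_degree L hϑ hφ hne L hTm
      rw [h3, one_mul] at h5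
      have h6 := congrFun h4 1
      simp only [OneMemClass.coe_one, Finset.sum_apply] at h6
      have h7 : ∀ ψ ∈ Finset.univ.image (conjFun L φ), ψ 1 = φ 1 := by
        intro ψ hψ
        obtain ⟨g, -, rfl⟩ := Finset.mem_image.1 hψ
        rw [conjFun_apply]
        congr 1
        apply Subtype.ext
        simp
      rw [Finset.sum_congr rfl h7, Finset.sum_const, nsmul_eq_mul, h5] at h6
      have h8 := mul_right_cancel₀ (Helper7.irr_apply_one_ne_zero hφ) h6
      exact_mod_cast h8.symm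
  · -- invariant case
    have hφinv : ∀ g : K, conjFun L φ g = φ := by
      intro g
      have : g ∈ inertia L φ := hT ▸ Subgroup.mem_top g
      exact this
    have hres := restrict_eq_smul_of_invariant L hϑ hφ hne hφinv
    rw [hn] at hres
    have hnorm : classInner (fun l : L => ϑ l) (fun l : L => ϑ l) = ((n ^ 2 : ℕ) : ℂ) := by
      conv_lhs => rw [hres]
      rw [classInner_smul_left, classInner_smul_right, Helper2.irr_orthonormal hφ hφ, if_pos rfl]
      simp [pow_two]
    set V := Subgroup.closure ((L : Set K) ∪ {k | ϑ k ≠ 0}) with hV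
    have hLV : L ≤ V := fun l hl => Subgroup.subset_closure (Or.inl hl)
    rcases hchief V hLV (by
      intro α hα m hm
      have hle : V ≤ V.comap α.toMonoidHom := by
        rw [hV, Subgroup.closure_le]
        rintro k (hk | hk)
        · exact Subgroup.subset_closure (Or.inl ((hAL α hα k).2 hk))
        · refine Subgroup.subset_closure (Or.inr ?_)
          show ϑ (α k) ≠ 0
          rw [hinv α hα]
          exact hk
      exact hle hm) with hVL | hVtop
    · right; left
      refine ⟨φ, n, hφ, hres, ?_⟩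
      have hv : ∀ k, k ∉ L → ϑ k = 0 := by
        intro k hk
        by_contra hk0
        apply hk
        rw [← hVL]
        exact Subgroup.subset_closure (Or.inr hk0)
      rw [norm_restrict_of_vanish L hϑ hv] at hnorm
      exact_mod_cast hnorm.symm
    · left
      rw [norm_restrict_of_gen L hab hϑ hVtop] at hnorm
      have h1 : n ^ 2 = 1 := by exact_mod_cast hnorm.symm
      have h2 : n = 1 := by
        rcases Nat.pow_eq_one.1 h1 with h | h
        · exact h
        · omega
      rw [hres, h2]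
      simpa using hφ

end Cfsg.Agent.Lib.Helper25
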