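import Cfsg.Agent.Lib.Helper1.Glauberman
import Cfsg.Agent.Lib.Helper25.Glaub15
import Cfsg.Agent.Lib.Helper25.GoDown2
import Cfsg.Agent.Lib.Helper25.AbQuot

set_option autoImplicit false

namespace Cfsg.Agent.Lib.Helper25

open scoped ComplexConjugate
open Cfsg

universe u

/-- Glauberman's lemma for permutation groups and an invariant subset. -/
theorem glauberman_perm {Y : Type*} [Finite Y] (H K : Subgroup (Equiv.Perm Y))
    (hHK : ∀ h ∈ H, ∀ k ∈ K, h * k * h⁻¹ ∈ K)
    (hcop : (Nat.card H).Coprime (Nat.card K))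
    (hsolv : Group.IsSolvable H ∨ Group.IsSolvable K)
    (X : Set Y) (hX : X.Nonempty) (hHX : ∀ h ∈ H, ∀ x ∈ X, h x ∈ X)
    (hKX : ∀ k ∈ K, ∀ x ∈ X, k x ∈ X)
    (htrans : ∀ x ∈ X, ∀ y ∈ X, ∃ k ∈ K, k x = y) :
    ∃ x ∈ X, ∀ h ∈ H, h x = x := by
  classical
  have : Nonempty X := hX.to_subtype
  letI i1 : MulAction H X :=
    { smul := fun h x => ⟨h.1 x.1, hHX h h.2 x x.2⟩
      one_smul := fun x => Subtype.ext rfl
      mul_smul := fun a b x => Subtype.ext rfl }
  letI i2 : MulAction K X :=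
    { smul := fun h x => ⟨h.1 x.1, hKX h h.2 x x.2⟩
      one_smul := fun x => Subtype.ext rfl
      mul_smul := fun a b x => Subtype.ext rfl }
  have hn : H ≤ Subgroup.normalizer (K : Set (Equiv.Perm Y)) := by
    intro h hh
    rw [Subgroup.mem_normalizer_iff]
    intro k
    constructor
    · exact hHK h hh k
    · intro hk
      have := hHK h⁻¹ (H.inv_mem hh) _ hk
      simpa [mul_assoc] using this
  obtain ⟨⟨x, hx⟩, -⟩ := Helper1.glauberman_sub H K hn (X := X) (by
    intro a n x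
    apply Subtype.ext
    show a.1 (n.1 x.1) = (a.1 * n.1 * a.1⁻¹) (a.1 x.1)
    simp) hcop hsolv (by
    intro x y
    obtain ⟨k, hk, hkx⟩ := htrans x x.2 y y.2
    exact ⟨⟨k, hk⟩, Subtype.ext hkx⟩)
  exact ⟨x, x.2, fun h hh => congrArg Subtype.val (hx ⟨h, hh⟩)⟩

theorem exists_linear_mul_of_abelian_quotient' {X : Type u} [Group X] [Fintype X] (N : Subgroup X)
    [hN : N.Normal] [Fintype N]
    (hab : ∀ x y : X, x * y * x⁻¹ * y⁻¹ ∈ N) {θ : N → ℂ} (hθ : IsIrrCharacter N θ)
    (hinv : ∀ g : X, conjFun N θ g = θ) {ψ ψ' : X → ℂ} (hψ : IsIrrCharacter X ψ)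
    (hψ' : IsIrrCharacter X ψ') (h : classInner (fun n : N => ψ n) θ ≠ 0)
    (h' : classInner (fun n : N => ψ' n) θ ≠ 0) :
    ∃ f : X →* ℂˣ, N ≤ f.ker ∧ ψ = fun x => (f x : ℂ) * ψ' x := by
  classical
  have : Fintype (IrrCharacter X) := Fintype.ofFinite _
  have hcfψ := Helper7.isClassFunction_of_isCharacter (Helper7.isCharacter_of_irr hψ)
  have hcfψ' := Helper7.isClassFunction_of_isCharacter (Helper7.isCharacter_of_irr hψ')
  have h1 := indFun_mul_restrict N (fun _ => 1) hcfψ'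
  have r := restrict_eq_smul_of_invariant N hψ hθ h hinv
  have r' := restrict_eq_smul_of_invariant N hψ' hθ h' hinv
  have h2 : classInner (indFun N ((fun _ => 1) * fun n : N => ψ' n)) ψ ≠ 0 := by
    rw [frobenius_reciprocity N _ ψ hcfψ]
    have : ((fun _ => 1 : N → ℂ) * fun n : N => ψ' n) = fun n : N => ψ' n := by
      funext n; simp
    rw [this, r, r', classInner_smul_left, classInner_smul_right, Helper7.classInner_irr_self hθ]
    simp only [mul_one]
    exact mul_ne_zero h' ((map_ne_zero _).2 h)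
  rw [h1] at h2
  obtain ⟨m, hm, hsum⟩ := Helper7.character_eq_sum_nat
    (isCharacter_indFun N (fun _ => 1) (Helper7.isCharacter_of_irr Helper7.isIrrCharacter_one))
  have h3 : classInner (indFun N (fun _ => 1) * ψ') ψ
      = ∑ β : IrrCharacter X, (m β : ℂ) * classInner ((β : X → ℂ) * ψ') ψ := by
    conv_lhs => rw [hsum]
    rw [Finset.sum_mul, classInner_sum_left]
    apply Finset.sum_congr rfl
    intro β _
    rw [smul_mul_assoc, ← Nat.cast_smul_eq_nsmul ℂ, classInner_smul_left]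
  rw [h3] at h2
  obtain ⟨β, -, hβ⟩ := Finset.exists_ne_zero_of_sum_ne_zero h2
  obtain ⟨hβ1, hβ2⟩ := mul_ne_zero_iff.1 hβ
  have hker := ker_of_constituent_indFun_one N β.2 (by rw [hm]; exact hβ1)
  have hlin := linear_of_abelian_mod_ker β.2 (fun x y => hker _ (hab x y))
  obtain ⟨f, hf⟩ := Helper7.exists_hom_of_linear (Helper7.isCharacter_of_irr β.2) hlin
  refine ⟨f, ?_, ?_⟩
  · intro n hn
    rw [MonoidHom.mem_ker]
    apply Units.ext
    rw [← hf, hker n hn, hlin, Units.val_one]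
  have hirr := isIrrCharacter_linear_mul f hψ'
  have heq : ((β : X → ℂ) * ψ') = fun x => (f x : ℂ) * ψ' x := by
    funext x
    rw [Pi.mul_apply, hf]
  rw [heq, Helper7.classInner_irr hirr hψ] at hβ2
  by_contra hne
  rw [if_neg (fun h => hne h.symm)] at hβ2
  exact hβ2 rfl

/-- restriction of an action by automorphisms to a stable subgroup -/
noncomputable def restrictAutHom {𝒜 : Type*} [Group 𝒜] {G : Type u} [Group G] (a : 𝒜 →* MulAut G)
    (M : Subgroup G) (h : ∀ s l, a s l ∈ M ↔ l ∈ M) : 𝒜 →* MulAut M where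
  toFun s := restrictAut M (a s) (h s)
  map_one' := by
    ext l
    rw [restrictAut_coe]
    simp
  map_mul' s t := by
    ext l
    rw [restrictAut_coe, MulAut.mul_apply, restrictAut_coe, restrictAut_coe]
    simp

theorem restrictAutHom_coe {𝒜 : Type*} [Group 𝒜] {G : Type u} [Group G] (a : 𝒜 →* MulAut G)
    (M : Subgroup G) (h : ∀ s l, a s l ∈ M ↔ l ∈ M) (s : 𝒜) (l : M) :
    ((restrictAutHom a M h s l : M) : G) = a s l := rfl

theorem irrPerm_apply {N : Type u} [Group N] (α : MulAut N) (φ : IrrCharacter N) (x : N) :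
    ((irrPerm N α φ : IrrCharacter N) : N → ℂ) x = (φ : N → ℂ) (α⁻¹ x) := rfl

theorem irrPerm_fixed_iff {𝒜 : Type*} [Group 𝒜] {N : Type u} [Group N] (b : 𝒜 →* MulAut N)
    (φ : IrrCharacter N) :
    (∀ h ∈ ((irrPerm N).comp b).range, h φ = φ) ↔ ∀ s x, (φ : N → ℂ) (b s x) = (φ : N → ℂ) x := by
  constructor
  · intro h s x
    have h1 := h _ ⟨s⁻¹, rfl⟩
    have h2 := congrFun (congrArg Subtype.val h1) x
    rw [MonoidHom.comp_apply, irrPerm_apply, map_inv, inv_inv] at h2
    exact h2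
  · rintro h _ ⟨s, rfl⟩
    apply Subtype.ext
    funext x
    rw [MonoidHom.comp_apply, irrPerm_apply, ← map_inv]
    exact h _ _

end Cfsg.Agent.Lib.Helper25
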