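import Cfsg.Agent.Lib.Helper7.CharColumn
import Cfsg.Agent.Lib.Helper2.CharReg

set_option autoImplicit false

namespace Cfsg.Agent.Lib.Helper25

open scoped ComplexConjugate
open Cfsg

universe u

variable {G : Type u} [Group G] [Fintype G]

/-- Convolution of irreducible characters. -/
theorem sum_irr_conv {χ ψ : G → ℂ} (hχ : IsIrrCharacter G χ) (hψ : IsIrrCharacter G ψ) (g : G)
    [Decidable (χ = ψ)] :
    ∑ z : G, χ z * ψ (z⁻¹ * g) = if χ = ψ then (Nat.card G : ℂ) * χ g / χ 1 else 0 := by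
  have hG : (Nat.card G : ℂ) ≠ 0 := by exact_mod_cast Nat.card_pos.ne'
  have hχc := Helper7.isCharacter_of_irr hχ
  have ha : IsClassFunction G (fun z => χ z⁻¹) := by
    intro a b
    have := Helper7.isClassFunction_of_isCharacter hχc a⁻¹ b
    show χ (b * a * b⁻¹)⁻¹ = χ a⁻¹
    rw [← this]
    congr 1
    group
  have h1 := Helper7.irr_sum_mul hψ (fun z => χ z⁻¹) ha g
  have h2 : ∑ z : G, χ z * ψ (z⁻¹ * g) = ∑ z : G, χ z⁻¹ * ψ (z * g) := by
    apply Fintype.sum_equiv (Equiv.inv G)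
    intro z
    simp
  rw [h2, h1]
  have h3 : ∑ z : G, χ z⁻¹ * ψ z = (Nat.card G : ℂ) * classInner ψ χ := by
    unfold classInner
    rw [← mul_assoc, mul_inv_cancel₀ hG, one_mul]
    apply Finset.sum_congr rfl
    intro z _
    rw [Helper7.char_inv_eq_conj hχc, mul_comm]
  rw [h3, Helper7.classInner_irr hψ hχ]
  by_cases h : χ = ψ
  · subst h
    simp
  · rw [if_neg h, if_neg (fun e => h e.symm)]
    simp

/-- Frobenius' formula for the number of ways to write `z` as a commutator. -/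
theorem card_commutator_eq [Fintype (IrrCharacter G)] (z : G) :
    (Nat.card {xy : G × G // xy.1 * xy.2 * xy.1⁻¹ * xy.2⁻¹ = z} : ℂ)
      = (Nat.card G : ℂ) * ∑ χ : IrrCharacter G, (χ : G → ℂ) z / (χ : G → ℂ) 1 := by
  classical
  have hG : (Nat.card G : ℂ) ≠ 0 := by exact_mod_cast Nat.card_pos.ne'
  have key : (Nat.card {xy : G × G // xy.1 * xy.2 * xy.1⁻¹ * xy.2⁻¹ = z} : ℂ)
      = (Nat.card G : ℂ) * ∑ χ : IrrCharacter G, (χ : G → ℂ) z⁻¹ / (χ : G → ℂ) 1 := by
    have h1 : (Nat.card {xy : G × G // xy.1 * xy.2 * xy.1⁻¹ * xy.2⁻¹ = z} : ℂ)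
        = ∑ y : G, ∑ x : G, if x * y * x⁻¹ * (y⁻¹ * z⁻¹) = 1 then (1 : ℂ) else 0 := by
      rw [Nat.card_eq_fintype_card, Fintype.card_subtype, ← Finset.sum_boole,
        Fintype.sum_prod_type_right]
      apply Finset.sum_congr rfl
      intro y _
      apply Finset.sum_congr rfl
      intro x _
      congr 1
      apply propext
      rw [← mul_assoc, mul_inv_eq_one]
    apply mul_left_cancel₀ hG
    rw [h1, Finset.mul_sum]
    simp_rw [Finset.mul_sum, mul_ite, mul_one, mul_zero, ← Helper2.sum_irr_one_mul]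
    have h2 : ∀ y : G, ∑ x : G, ∑ χ : IrrCharacter G,
        (χ : G → ℂ) 1 * (χ : G → ℂ) (x * y * x⁻¹ * (y⁻¹ * z⁻¹))
        = ∑ χ : IrrCharacter G, (Nat.card G : ℂ) * ((χ : G → ℂ) y * (χ : G → ℂ) (y⁻¹ * z⁻¹)) := by
      intro y
      rw [Finset.sum_comm]
      apply Finset.sum_congr rfl
      intro χ _
      rw [← Finset.mul_sum, Helper2.sum_char_conj_mul χ.2]
      have := Helper7.irr_apply_one_ne_zero χ.2
      field_simp
    simp_rw [h2]
    rw [Finset.sum_comm]
    apply Finset.sum_congr rfl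
    intro χ _
    rw [← Finset.mul_sum, sum_irr_conv χ.2 χ.2, if_pos rfl]
    ring
  have h2 := congrArg conj key
  rw [map_natCast, map_mul, map_natCast, map_sum] at h2
  rw [h2]
  congr 1
  apply Finset.sum_congr rfl
  intro χ _
  rw [map_div₀, Helper7.conj_irr_one, Helper7.char_inv_eq_conj (Helper7.isCharacter_of_irr χ.2),
    Complex.conj_conj]

end Cfsg.Agent.Lib.Helper25
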