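import Mathlib

set_option autoImplicit false

namespace Cfsg.Agent.Lib.Helper25

universe u

theorem commutator_le_ker_of_comm {Q A : Type*} [Group Q] [Group A] (f : Q →* A)
    (h : ∀ a b : Q, f a * f b = f b * f a) : commutator Q ≤ f.ker := by
  rw [commutator_eq_closure, Subgroup.closure_le]
  rintro x ⟨a, b, rfl⟩
  rw [SetLike.mem_coe, MonoidHom.mem_ker, commutatorElement_def, map_mul, map_mul, map_mul,
    map_inv, map_inv, h a b]
  group

theorem hom_eq_one_of_perfect {Q A : Type*} [Group Q] [Group A] (hperf : commutator Q = ⊤)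
    (f : Q →* A) (hf : ∀ a b : Q, f a * f b = f b * f a) (q : Q) : f q = 1 := by
  have := commutator_le_ker_of_comm f hf
  rw [hperf] at this
  exact this (Subgroup.mem_top q)

theorem subsingleton_of_perfect_of_solvable {Q : Type*} [Group Q] [hs : Group.IsSolvable Q]
    (h : commutator Q = ⊤) : Subsingleton Q := by
  obtain ⟨n, hn⟩ := hs.solvable
  have hall : ∀ k, derivedSeries Q k = ⊤ := by
    intro k
    induction k with
    | zero => rfl
    | succ k ih => rw [derivedSeries_succ, ih]; exact h
  rw [hall n] at hn
  exact subsingleton_of_bot_eq_top hn.symm |> fun hh => by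
    constructor
    intro a b
    have ha : a ∈ (⊤ : Subgroup Q) := Subgroup.mem_top a
    have hb : b ∈ (⊤ : Subgroup Q) := Subgroup.mem_top b
    rw [hn, Subgroup.mem_bot] at ha hb
    rw [ha, hb]

/-- A group of order `p n` with `1 ≤ n ≤ p` is not perfect. -/
theorem commutator_ne_top_of_card {Q : Type*} [Group Q] [Finite Q] {p n : ℕ} (hp : p.Prime)
    (hcard : Nat.card Q = p * n) (hn1 : 1 ≤ n) (hnp : n ≤ p) : commutator Q ≠ ⊤ := by
  intro hperf
  haveI : Fact p.Prime := ⟨hp⟩
  rcases Nat.lt_or_ge n p with hlt | hge
  · let P : Sylow p Q := default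
    have hpn : ¬ p ∣ n := Nat.not_dvd_of_pos_of_lt hn1 hlt
    have hPcard : Nat.card P = p := by
      rw [Sylow.card_eq_multiplicity, hcard, Nat.factorization_mul hp.ne_zero (by omega),
        Finsupp.add_apply, hp.factorization_self, Nat.factorization_eq_zero_of_not_dvd hpn]
      simp
    have hidx : (P : Subgroup Q).index = n := by
      have := (P : Subgroup Q).card_mul_index
      rw [hPcard, hcard] at this
      exact Nat.eq_of_mul_eq_mul_left hp.pos this
    have hone : Nat.card (Sylow p Q) = 1 := by
      have h1 := card_sylow_modEq_one p Q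
      have h2 : Nat.card (Sylow p Q) ∣ n := hidx ▸ P.card_dvd_index
      have h3 : Nat.card (Sylow p Q) ≤ n := Nat.le_of_dvd hn1 h2
      have h4 : Nat.card (Sylow p Q) % p = 1 % p := h1
      rw [Nat.mod_eq_of_lt (lt_of_le_of_lt h3 hlt), Nat.mod_eq_of_lt hp.one_lt] at h4
      exact h4
    have hnorm : (P : Subgroup Q).Normal := by
      have hsub : Subsingleton (Sylow p Q) := (Nat.card_eq_one_iff_unique.1 hone).1
      exact Sylow.normal_of_subsingleton P
    have hcyc : IsCyclic P := isCyclic_of_prime_card hPcard
    have hcent : ∀ g : Q, ∀ x : P, g * (x : Q) * g⁻¹ = x := by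
      intro g x
      have h1 := hom_eq_one_of_perfect hperf ((IsCyclic.mulAutMulEquiv P).toMonoidHom.comp
        (MulAut.conjNormal : Q →* MulAut P)) (fun a b => mul_comm _ _) g
      have h2 : (MulAut.conjNormal g : MulAut P) = 1 := by
        apply (IsCyclic.mulAutMulEquiv P).injective
        rw [map_one]
        exact h1
      have h3 := congrArg (fun φ : MulAut P => ((φ x : P) : Q)) h2
      simpa using h3
    have hP : Subgroup.normalizer (P : Set Q) ≤ Subgroup.centralizer (P : Set Q) := by
      intro g _
      rw [Subgroup.mem_centralizer_iff]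
      intro x hx
      have := hcent g ⟨x, hx⟩
      simp only at this
      calc x * g = g * x * g⁻¹ * g := by rw [this]
        _ = g * x := by group
    have hker : (MonoidHom.transferSylow P hP).ker = ⊤ := by
      rw [eq_top_iff]
      intro q _
      rw [MonoidHom.mem_ker]
      apply hom_eq_one_of_perfect hperf
      intro a b
      obtain ⟨z, hz⟩ := hcyc.exists_generator
      obtain ⟨i, hi⟩ := Subgroup.mem_zpowers_iff.1 (hz (MonoidHom.transferSylow P hP a))
      obtain ⟨j, hj⟩ := Subgroup.mem_zpowers_iff.1 (hz (MonoidHom.transferSylow P hP b))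
      rw [← hi, ← hj, ← zpow_add, ← zpow_add, add_comm]
    have hcomp := MonoidHom.ker_transferSylow_isComplement' P hP
    rw [hker] at hcomp
    have := hcomp.card_mul_card
    rw [Subgroup.card_top, hPcard] at this
    have hpos : 0 < Nat.card Q := Nat.card_pos
    have hp1 := hp.one_lt
    nlinarith
  · have hnp' : n = p := le_antisymm hnp hge
    have hpg : IsPGroup p Q := IsPGroup.of_card (n := 2) (by rw [hcard, hnp', pow_two])
    haveI : Group.IsNilpotent Q := hpg.isNilpotent
    have := subsingleton_of_perfect_of_solvable hperf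
    have h1 : Nat.card Q = 1 := Nat.card_eq_one_iff_unique.2 ⟨this, ⟨1⟩⟩
    rw [hcard] at h1
    have := hp.one_lt
    nlinarith

end Cfsg.Agent.Lib.Helper25
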