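import Mathlib
import Cfsg.Prelude.Def_Transfer
import Cfsg.Agent.Lib.Helper25.BG2
import Cfsg.Agent.Lib.Helper25.NotPerfect
import Cfsg.Agent.Lib.Helper25.CliffordCorr
import Cfsg.Agent.S0154

set_option autoImplicit false

namespace Cfsg.Agent.Lib.Helper25

open Cfsg
open scoped ComplexConjugate

universe u

variable {P : Type u} [Group P]

theorem center_mul_char [Finite P] {χ : P → ℂ} (hχ : IsIrrCharacter P χ) {z : P}
    (hz : z ∈ Subgroup.center P) (y : P) : χ (z * y) * χ 1 = χ z * χ y := by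
  obtain ⟨n, ρ, hρ, rfl⟩ := hχ
  obtain ⟨ω, hω⟩ := Helper2.schur ρ (ρ z) (by
    intro g
    have h := Subgroup.mem_center_iff.1 hz g
    show ρ z * ρ g = ρ g * ρ z
    rw [← map_mul, ← map_mul, h])
  have e1 : ∀ y, ρ.character (z * y) = ω * ρ.character y := by
    intro y
    simp only [Representation.character, map_mul, hω]
    rw [show (ω • (LinearMap.id : (Fin n → ℂ) →ₗ[ℂ] (Fin n → ℂ))) * ρ y = ω • ρ y from by
      ext v; simp]
    rw [map_smul, smul_eq_mul]
  have e2 := e1 1
  rw [mul_one] at e2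
  rw [e1, e2]
  ring

theorem linear_eq_one_on_commutator [Finite P] {χ : P → ℂ} (hχ : IsCharacter P χ) (h1 : χ 1 = 1)
    {z : P} (hz : z ∈ commutator P) : χ z = 1 := by
  obtain ⟨lam, hlam⟩ := Helper2.IsCharacter.exists_hom_of_apply_one hχ h1
  have := commutator_le_ker_of_comm lam (fun a b => mul_comm _ _) hz
  rw [MonoidHom.mem_ker] at this
  rw [hlam, this]
  simp

/-- nonlinear characters of an extraspecial group vanish off the centre -/
theorem extraspecial_vanish [Finite P] {p : ℕ} [hp : Fact p.Prime] (hP : IsExtraspecial p P)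
    {χ : P → ℂ} (hχ : IsIrrCharacter P χ) (hnl : χ 1 ≠ 1) {x : P} (hx : x ∉ Subgroup.center P) :
    χ x = 0 := by
  obtain ⟨⟨-, -, hcomm⟩, hcard⟩ := hP
  obtain ⟨K, hKn, hK⟩ := exists_kernel (Helper7.isCharacter_of_irr hχ)
  have hKZ : K ⊓ Subgroup.center P = ⊥ := by
    have h1 : Nat.card (K ⊓ Subgroup.center P : Subgroup P) ∣ p := by
      rw [← hcard]
      exact Subgroup.card_dvd_of_le inf_le_right
    rcases (Nat.dvd_prime hp.out).1 h1 with h | h
    · exact Subgroup.card_eq_one.1 h
    · exfalso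
      apply hnl
      have h2 : K ⊓ Subgroup.center P = Subgroup.center P := by
        apply Subgroup.eq_of_le_of_card_ge inf_le_right
        rw [h, hcard]
      apply linear_of_abelian_mod_ker hχ
      intro a b
      rw [← hK]
      have : a * b * a⁻¹ * b⁻¹ ∈ commutator P := by
        rw [commutator_eq_closure]
        exact Subgroup.subset_closure ⟨a, b, rfl⟩
      rw [hcomm, ← h2] at this
      exact this.1
  rw [Subgroup.mem_center_iff] at hx
  push Not at hx
  obtain ⟨h, hh⟩ := hx
  set z := h * x * h⁻¹ * x⁻¹ with hz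
  have hzc : z ∈ Subgroup.center P := by
    rw [← hcomm, commutator_eq_closure]
    exact Subgroup.subset_closure ⟨h, x, rfl⟩
  have hz1 : z ≠ 1 := by
    intro h1
    apply hh
    have : h * x = z * (x * h) := by rw [hz]; group
    rw [this, h1, one_mul]
  have hzK : χ z ≠ χ 1 := by
    intro hc
    apply hz1
    have : z ∈ K ⊓ Subgroup.center P := ⟨(hK z).2 hc, hzc⟩
    rw [hKZ] at this
    exact this
  have e1 := center_mul_char hχ hzc x
  have e2 : χ (z * x) = χ x := by
    have : z * x = h * x * h⁻¹ := by rw [hz]; group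
    rw [this]
    exact Helper7.isClassFunction_of_isCharacter (Helper7.isCharacter_of_irr hχ) x h
  rw [e2] at e1
  have e3 : χ x * (χ 1 - χ z) = 0 := by linear_combination e1
  rcases mul_eq_zero.1 e3 with h0 | h0
  · exact h0
  · exact absurd (sub_eq_zero.1 h0).symm hzK

theorem extraspecial_degree [Finite P] {p n : ℕ} [hp : Fact p.Prime] (hP : IsExtraspecial p P)
    (hcard : Nat.card P = p ^ (2 * n + 1))
    {χ : P → ℂ} (hχ : IsIrrCharacter P χ) (hnl : χ 1 ≠ 1) : χ 1 = (p : ℂ) ^ n := by
  classical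
  cases nonempty_fintype P
  have h1 := sum_norm_sq_eq_card hχ
  obtain ⟨d, hd0, hd⟩ := Helper7.irr_apply_one hχ
  have h2 : ∀ x : P, ‖χ x‖ ^ 2 = if x ∈ Subgroup.center P then (d : ℝ) ^ 2 else 0 := by
    intro x
    split_ifs with hx
    · rw [norm_eq_degree_of_comm_mod_ker hχ x, hd, Complex.norm_natCast]
      intro c
      have := Subgroup.mem_center_iff.1 hx c
      have e : x * c * x⁻¹ * c⁻¹ = 1 := by rw [← this]; group
      rw [e]
    · rw [extraspecial_vanish hP hχ hnl hx]; simp
  simp only [h2] at h1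
  rw [← Finset.sum_filter, Finset.sum_const, nsmul_eq_mul] at h1
  have h3 : (Finset.univ.filter (fun x : P => x ∈ Subgroup.center P)).card = p := by
    rw [← hP.2, Nat.card_eq_fintype_card, Fintype.card_subtype]
  rw [h3, hcard] at h1
  have h4 : p * d ^ 2 = p ^ (2 * n + 1) := by exact_mod_cast h1
  have h5 : d ^ 2 = (p ^ n) ^ 2 := by
    have : p * d ^ 2 = p * (p ^ n) ^ 2 := by rw [h4]; ring
    exact Nat.eq_of_mul_eq_mul_left hp.out.pos this
  have h6 : d = p ^ n := by
    exact Nat.pow_left_injective (n := 2) (by norm_num) h5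
  rw [hd, h6]
  push_cast
  rfl

end Cfsg.Agent.Lib.Helper25
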