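import Cfsg.Agent.Lib.Helper25.Extra1
import Cfsg.Agent.Lib.Helper25.FS5
import Cfsg.Agent.Lib.Helper25.Kernel2
import Cfsg.Agent.Lib.Helper25.GalSum
import Cfsg.Agent.Lib.Helper25.AbQuot
import Cfsg.Agent.Lib.Helper7.BlockDefect

set_option autoImplicit false

namespace Cfsg.Agent.Lib.Helper25

open scoped ComplexConjugate
open Cfsg

universe u

variable {G : Type u} [Group G]

theorem card_center_mul_sq_le [Finite G] {χ : G → ℂ} (hχ : IsIrrCharacter G χ) :
    Nat.card (Subgroup.center G) * (charDegree χ) ^ 2 ≤ Nat.card G := by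
  classical
  cases nonempty_fintype G
  have h1 := sum_norm_sq_eq_card hχ
  have hd := apply_one_eq_charDegree hχ
  have h2 : ∑ g ∈ Finset.univ.filter (fun x : G => x ∈ Subgroup.center G), ‖χ g‖ ^ 2
      ≤ ∑ g : G, ‖χ g‖ ^ 2 :=
    Finset.sum_le_sum_of_subset_of_nonneg (Finset.subset_univ _) (fun _ _ _ => by positivity)
  have h3 : ∑ g ∈ Finset.univ.filter (fun x : G => x ∈ Subgroup.center G), ‖χ g‖ ^ 2
      = (Nat.card (Subgroup.center G) : ℝ) * (charDegree χ : ℝ) ^ 2 := by
    rw [Finset.sum_congr rfl (g := fun _ => (charDegree χ : ℝ) ^ 2), Finset.sum_const,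
      nsmul_eq_mul, Nat.card_eq_fintype_card, Fintype.card_subtype]
    intro x hx
    have hx' := (Finset.mem_filter.mp hx).2
    rw [norm_eq_degree_of_comm_mod_ker hχ x, hd, Complex.norm_natCast]
    intro c
    have := Subgroup.mem_center_iff.1 hx' c
    have e : x * c * x⁻¹ * c⁻¹ = 1 := by rw [← this]; group
    rw [e]
  rw [h3, h1] at h2
  exact_mod_cast h2

theorem sum_sq_of_le_ker [Fintype G] [Fintype (IrrCharacter G)] (M : Subgroup G) [M.Normal]
    [DecidablePred (fun χ : IrrCharacter G => ∀ n ∈ M, (χ : G → ℂ) n = (χ : G → ℂ) 1)] :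
    ∑ χ ∈ Finset.univ.filter (fun χ : IrrCharacter G => ∀ n ∈ M, (χ : G → ℂ) n = (χ : G → ℂ) 1),
      (charDegree (χ : G → ℂ)) ^ 2 = M.index := by
  classical
  have : Fintype M := Fintype.ofFinite _
  have hMc : (Nat.card M : ℂ) ≠ 0 := by exact_mod_cast Nat.card_pos.ne'
  have h1 : ∀ χ : IrrCharacter G, (χ : G → ℂ) 1 * ((Nat.card M : ℂ)⁻¹ * ∑ n : M, (χ : G → ℂ) n)
      = if (∀ n ∈ M, (χ : G → ℂ) n = (χ : G → ℂ) 1) then (((charDegree (χ : G → ℂ)) ^ 2 : ℕ) : ℂ)
        else (0 : ℂ) := by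
    intro χ
    have := avg_normal M χ.2 1
    simp only [mul_one] at this
    rw [this]
    split_ifs
    · rw [apply_one_eq_charDegree χ.2]
      push_cast
      ring
    · rw [mul_zero]
  have h2 : ∑ χ : IrrCharacter G,
      (χ : G → ℂ) 1 * ((Nat.card M : ℂ)⁻¹ * ∑ n : M, (χ : G → ℂ) n) = (M.index : ℂ) := by
    simp_rw [Finset.mul_sum]
    rw [Finset.sum_comm]
    have h3 : ∀ n : M, ∑ χ : IrrCharacter G, (χ : G → ℂ) 1 * ((Nat.card M : ℂ)⁻¹ * (χ : G → ℂ) n)
        = if n = 1 then (M.index : ℂ) else 0 := by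
      intro n
      have h4 := Helper7.column_orthogonality (n : G) 1
      simp only [Helper7.conj_irr_one] at h4
      have h5 : ∑ χ : IrrCharacter G, (χ : G → ℂ) 1 * ((Nat.card M : ℂ)⁻¹ * (χ : G → ℂ) n)
          = (Nat.card M : ℂ)⁻¹ * ∑ χ : IrrCharacter G, (χ : G → ℂ) n * (χ : G → ℂ) 1 := by
        rw [Finset.mul_sum]
        exact Finset.sum_congr rfl fun χ _ => by ring
      rw [h5, h4]
      by_cases hn : n = 1
      · subst hn
        rw [if_pos rfl, if_pos (by simp)]
        have hcen : Subgroup.centralizer ({((1 : M) : G)} : Set G) = ⊤ := by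
          rw [eq_top_iff]; intro x _; simp [Subgroup.mem_centralizer_iff]
        rw [hcen, Subgroup.card_top, ← M.card_mul_index]
        push_cast
        field_simp
      · rw [if_neg hn, if_neg, mul_zero]
        intro hc
        apply hn
        have := isConj_one_right.mp hc.symm
        exact Subtype.ext this
    simp_rw [h3]
    simp
  simp_rw [h1] at h2
  rw [← Finset.sum_filter] at h2
  exact_mod_cast h2

theorem eq_degree_on_commutator_of_not_dvd [Finite G] {p : ℕ} [hp : Fact p.Prime]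
    (P : Subgroup G) [hPn : P.Normal] (hP : IsPGroup p P) {χ : G → ℂ} (hχ : IsIrrCharacter G χ)
    (hpd : ¬ p ∣ charDegree χ) : ∀ x ∈ ⁅P, P⁆, χ x = χ 1 := by
  classical
  cases nonempty_fintype G
  have : Fintype P := Fintype.ofFinite _
  have := Helper2.finite_irrCharacter (G := P)
  have : Fintype (IrrCharacter P) := Fintype.ofFinite _
  intro x hx
  rw [← Subgroup.map_subtype_commutator] at hx
  obtain ⟨y, hy, rfl⟩ := hx
  obtain ⟨m, hm, hsum⟩ := Helper7.character_eq_sum_nat
    (Helper7.isCharacter_restrict (Helper7.isCharacter_of_irr hχ) P)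
  have e1 := congrFun hsum y
  have e2 := congrFun hsum 1
  simp only [Finset.sum_apply, Pi.smul_apply] at e1 e2
  show χ (y : G) = χ 1
  rw [e1]
  have e3 : χ 1 = χ ((1 : P) : G) := rfl
  rw [e3, e2]
  apply Finset.sum_congr rfl
  intro θ _
  by_cases hm0 : m θ = 0
  · rw [hm0, zero_smul, zero_smul]
  · have hc : classInner (fun n : P => χ n) (θ : P → ℂ) ≠ 0 := by
      rw [hm θ]
      exact_mod_cast hm0
    have h1 := clifford_degree P hχ θ.2 hc (inertia P (θ : P → ℂ)) (mem_inertia P _)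
    rw [hm θ, apply_one_eq_charDegree hχ, apply_one_eq_charDegree θ.2] at h1
    have h2 : charDegree χ = m θ * ((inertia P (θ : P → ℂ)).index * charDegree (θ : P → ℂ)) := by
      exact_mod_cast h1
    have h3 : charDegree (θ : P → ℂ) ∣ charDegree χ := ⟨m θ * (inertia P (θ : P → ℂ)).index, by
      rw [h2]; ring⟩
    obtain ⟨k, hk⟩ := IsPGroup.iff_card.mp hP
    have h4 := Helper7.charDegree_dvd_card θ
    rw [hk] at h4
    obtain ⟨j, -, hj⟩ := (Nat.dvd_prime_pow hp.out).mp h4
    have hj0 : j = 0 := by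
      by_contra hj0
      apply hpd
      refine dvd_trans ?_ h3
      rw [hj]
      exact dvd_pow_self p hj0
    rw [hj0, pow_zero] at hj
    have h5 : (θ : P → ℂ) 1 = 1 := by rw [apply_one_eq_charDegree θ.2, hj, Nat.cast_one]
    rw [linear_eq_one_on_commutator (Helper7.isCharacter_of_irr θ.2) h5 hy, h5]

end Cfsg.Agent.Lib.Helper25
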