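import Mathlib
import Cfsg.Agent.Lib.Helper25.FrobSchur2
import Cfsg.Agent.Lib.Helper25.Kernel2

set_option autoImplicit false

namespace Cfsg.Agent.Lib.Helper25

open Cfsg
open scoped ComplexConjugate
open Cfsg.Agent.Lib.Helper7

universe u
variable {G : Type u} [Group G]

theorem sum_sq_eq_sum_of_odd_index [Fintype G] (N : Subgroup G) [N.Normal] (hodd : Odd N.index)
    {f : G → ℂ} (hinv : ∀ g n, n ∈ N → f (g * n) = f g) : ∑ g, f (g * g) = ∑ g, f g := by
  classical
  have : Fintype (G ⧸ N) := Fintype.ofFinite _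
  let F : G ⧸ N → ℂ := fun q => f q.out
  have hF : ∀ g, F (QuotientGroup.mk' N g) = f g := by
    intro g
    obtain ⟨h, hh⟩ := QuotientGroup.mk_out_eq_mul N g
    show f (Quotient.out (QuotientGroup.mk g : G ⧸ N)) = _
    rw [hh]; exact hinv g h h.2
  have hcop : (Nat.card (G ⧸ N)).Coprime 2 := Nat.coprime_two_right.2 hodd
  calc ∑ g, f (g * g) = ∑ g, (fun q => F (q * q)) (QuotientGroup.mk' N g) := by
        refine Finset.sum_congr rfl (fun g _ => ?_)
        show _ = F (_ * _)
        rw [← map_mul, hF]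
    _ = (Nat.card N : ℂ) * ∑ q, F (q * q) := sum_comp_quotient_mk N (fun q => F (q * q))
    _ = (Nat.card N : ℂ) * ∑ q, F q := by
        congr 1
        refine Fintype.sum_equiv (powCoprime hcop) _ _ (fun q => ?_)
        show _ = F (q ^ 2)
        rw [pow_two]
    _ = ∑ g, F (QuotientGroup.mk' N g) := (sum_comp_quotient_mk N F).symm
    _ = ∑ g, f g := Finset.sum_congr rfl (fun g _ => hF g)

theorem eq_one_of_real_of_odd_index [Fintype G] (N : Subgroup G) [N.Normal] (hodd : Odd N.index)
    {χ : G → ℂ} (hχ : IsIrrCharacter G χ) (hker : ∀ n ∈ N, χ n = χ 1)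
    (hreal : ∀ g, (χ g).im = 0) : χ = fun _ => 1 := by
  by_contra hne
  have h0 := classInner_irr_ne hχ isIrrCharacter_one hne
  have h1 : fsInd χ = 0 := by
    rw [fsInd, sum_sq_eq_sum_of_odd_index N hodd
      (fun g n hn => char_mul_of_mem_ker' (isCharacter_of_irr hχ) (hker n hn) g)]
    simpa [classInner] using h0
  obtain ⟨g, hg⟩ := (fsInd_eq_zero_iff hχ).1 h1
  exact hg (hreal g)

theorem classInner_eq_zero_of_invariant [Fintype G] (K : Subgroup G) [K.Normal] {f : G → ℂ}
    (hf : ∀ k ∈ K, ∀ g, f (k * g) = f g) {χ : G → ℂ} (hχ : IsIrrCharacter G χ)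
    (hker : ¬ ∀ n ∈ K, χ n = χ 1) : classInner f χ = 0 := by
  classical
  haveI : Fintype K := Fintype.ofFinite _
  have hK : (Nat.card K : ℂ) ≠ 0 := by exact_mod_cast Nat.card_pos.ne'
  have h1 : ∀ k : K, ∑ g, f g * conj (χ g) = ∑ g, f g * conj (χ ((k : G) * g)) := by
    intro k
    refine (Fintype.sum_equiv (Equiv.mulLeft (k : G)) _ _ (fun g => ?_)).symm
    simp only [Equiv.coe_mulLeft, hf k k.2]
  have h2 : (Nat.card K : ℂ) * ∑ g, f g * conj (χ g) = 0 := by
    have : (Nat.card K : ℂ) * ∑ g, f g * conj (χ g) = ∑ _k : K, ∑ g, f g * conj (χ g) := by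
      rw [Finset.sum_const, Finset.card_univ, nsmul_eq_mul, Nat.card_eq_fintype_card]
    rw [this, Finset.sum_congr rfl (fun k _ => h1 k), Finset.sum_comm]
    refine Finset.sum_eq_zero (fun g _ => ?_)
    rw [← Finset.mul_sum, ← map_sum]
    have h3 := avg_normal K hχ g
    rw [if_neg hker] at h3
    rcases mul_eq_zero.1 h3 with h4 | h4
    · exact absurd (inv_eq_zero.1 h4) hK
    · rw [h4, map_zero, mul_zero]
  rw [classInner, (mul_eq_zero.1 h2).resolve_left hK, mul_zero]

theorem mem_of_mul_self_mem_of_odd_index (N : Subgroup G) [N.Normal] (hodd : Odd N.index) {g : G}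
    (h : g * g ∈ N) : g ∈ N := by
  obtain ⟨k, hk⟩ := hodd
  have h1 := N.pow_index_mem g
  rw [hk, pow_succ, pow_mul, pow_two] at h1
  exact (Subgroup.mul_mem_cancel_left N (N.pow_mem h k)).1 h1

theorem fsInd_indFun_of_odd_index [Fintype G] (N : Subgroup G) [N.Normal] [Fintype N]
    (hodd : Odd N.index) (φ : N → ℂ) : fsInd (indFun N φ) = fsInd φ := by
  have hG : (Nat.card G : ℂ) ≠ 0 := by exact_mod_cast Nat.card_pos.ne'
  have h1 : ∀ x : G, ∑ g, extendByZero N φ (x⁻¹ * (g * g) * x) = ∑ g, extendByZero N φ (g * g) := by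
    intro x
    refine Fintype.sum_equiv (MulAut.conj x⁻¹).toEquiv _ _ (fun g => ?_)
    simp only [MulEquiv.toEquiv_eq_coe, MulEquiv.coe_toEquiv, MulAut.conj_apply, inv_inv]
    congr 1
    group
  have h2 : ∑ g, extendByZero N φ (g * g) = ∑ n : N, φ (n * n) := by
    rw [← sum_extendByZero N (fun n : N => φ (n * n))]
    refine Finset.sum_congr rfl (fun g _ => ?_)
    by_cases hg : g ∈ N
    · rw [extendByZero_mem N _ hg, extendByZero_mem N _ (N.mul_mem hg hg)]
      rfl
    · rw [extendByZero_not_mem N _ hg,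
        extendByZero_not_mem N _ (fun h => hg (mem_of_mul_self_mem_of_odd_index N hodd h))]
  simp only [fsInd, indFun_apply]
  rw [← Finset.mul_sum, Finset.sum_comm, Finset.sum_congr rfl (fun x _ => h1 x), Finset.sum_const,
    Finset.card_univ, nsmul_eq_mul, h2, ← Nat.card_eq_fintype_card]
  field_simp

/-- conjugation on the set of irreducible characters -/
noncomputable def conjIrr [Finite G] (β : IrrCharacter G) : IrrCharacter G :=
  haveI := Fintype.ofFinite G
  ⟨fun g => conj ((β : G → ℂ) g), Cfsg.Agent.Lib.Helper2.IsIrrCharacter.conj β.2⟩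

theorem conjIrr_apply [Finite G] (β : IrrCharacter G) (g : G) :
    (conjIrr β : G → ℂ) g = conj ((β : G → ℂ) g) := rfl

theorem conjIrr_conjIrr [Finite G] (β : IrrCharacter G) : conjIrr (conjIrr β) = β := by
  apply Subtype.ext
  funext g
  simp [conjIrr_apply]

theorem parity_restrict [Fintype G] (N : Subgroup G) [N.Normal] [Fintype N] (hodd : Odd N.index)
    {Ψ : G → ℂ} (hΨ : IsCharacter G Ψ) (hreal : ∀ g, conj (Ψ g) = Ψ g) :
    ∃ a b : ℕ, (Nat.card N : ℂ)⁻¹ * ∑ n : N, Ψ n = a ∧ classInner Ψ (fun _ => 1) = b ∧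
      a % 2 = b % 2 := by
  classical
  haveI : Fintype (IrrCharacter G) := Fintype.ofFinite _
  obtain ⟨m, hm, hsum⟩ := character_eq_sum_nat hΨ
  choose d hd0 hd using fun β : IrrCharacter G => irr_apply_one β.2
  let r : IrrCharacter G → ℕ := fun β => if (∀ n ∈ N, (β : G → ℂ) n = (β : G → ℂ) 1) then d β else 0
  have hr : ∀ β : IrrCharacter G, (Nat.card N : ℂ)⁻¹ * ∑ n : N, (β : G → ℂ) n = r β := by
    intro β
    have := avg_normal N β.2 1
    simp only [mul_one] at this
    rw [this]
    simp only [r]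
    split_ifs
    · exact hd β
    · simp
  let one : IrrCharacter G := ⟨fun _ => 1, isIrrCharacter_one⟩
  refine ⟨∑ β, m β * r β, m one, ?_, hm one, ?_⟩
  · rw [hsum]
    simp only [Finset.sum_apply, Pi.smul_apply, nsmul_eq_mul]
    rw [Finset.sum_comm, Finset.mul_sum]
    push_cast
    refine Finset.sum_congr rfl (fun β _ => ?_)
    rw [← hr β]
    simp only [Pi.mul_apply, Pi.natCast_apply]
    rw [← Finset.mul_sum]
    ring
  · have hmc : ∀ β, m (conjIrr β) = m β := by
      intro β
      have h1 : classInner Ψ (conjIrr β : G → ℂ) = conj (classInner Ψ (β : G → ℂ)) := by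
        simp only [classInner, map_mul, map_inv₀, Complex.conj_natCast, map_sum, hreal,
          conjIrr_apply]
      rw [hm, hm, Complex.conj_natCast] at h1
      exact_mod_cast h1
    have hrc : ∀ β, r (conjIrr β) = r β := by
      intro β
      have h1 : ((r (conjIrr β) : ℕ) : ℂ) = conj ((r β : ℕ) : ℂ) := by
        rw [← hr, ← hr]
        simp only [map_mul, map_inv₀, Complex.conj_natCast, map_sum, conjIrr_apply]
      rw [Complex.conj_natCast] at h1
      exact_mod_cast h1
    have hr1 : r one = 1 := by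
      have h1 := hr one
      have hN : (Nat.card N : ℂ) ≠ 0 := by exact_mod_cast Nat.card_pos.ne'
      simp only [one, Finset.sum_const, Finset.card_univ, nsmul_eq_mul, mul_one,
        ← Nat.card_eq_fintype_card] at h1
      rw [inv_mul_cancel₀ hN] at h1
      exact_mod_cast h1.symm
    have key : ((∑ β, m β * r β : ℕ) : ZMod 2) = (m one : ZMod 2) := by
      rw [← Finset.add_sum_erase _ _ (Finset.mem_univ one), hr1, mul_one]
      push_cast
      rw [add_eq_left]
      apply Finset.sum_involution (fun β _ => conjIrr β)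
      · intro β _
        rw [hmc, hrc]
        exact CharTwo.add_self_eq_zero _
      · intro β hβ hne hfix
        have hβ1 : β ≠ one := Finset.ne_of_mem_erase hβ
        have hrβ : r β ≠ 0 := by
          intro h0
          apply hne
          rw [h0]; simp
        have hker : ∀ n ∈ N, (β : G → ℂ) n = (β : G → ℂ) 1 := by
          by_contra hk
          apply hrβ
          simp only [r, if_neg hk]
        apply hβ1
        apply Subtype.ext
        apply eq_one_of_real_of_odd_index N hodd β.2 hker
        intro g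
        rw [← Complex.conj_eq_iff_im, ← conjIrr_apply, hfix]
      · intro β _
        exact conjIrr_conjIrr β
      · intro β hβ
        refine Finset.mem_erase.2 ⟨?_, Finset.mem_univ _⟩
        intro h
        apply Finset.ne_of_mem_erase hβ
        rw [← conjIrr_conjIrr β, h]
        apply Subtype.ext
        funext g
        simp [conjIrr_apply, one]
    exact (ZMod.natCast_eq_natCast_iff' _ _ _).1 key

end Cfsg.Agent.Lib.Helper25
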