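import Mathlib
import Cfsg.Agent.Lib.Helper25.FrobSchur3
import Cfsg.Agent.Lib.Helper25.CliffordCorr

set_option autoImplicit false

namespace Cfsg.Agent.Lib.Helper25

open Cfsg
open scoped ComplexConjugate
open Cfsg.Agent.Lib.Helper7

universe u
variable {G : Type u} [Group G]

theorem conj_eq_of_fsInd_eq_one [Fintype G] {χ : G → ℂ} (hχ : IsIrrCharacter G χ)
    (h : fsInd χ = 1) (g : G) : conj (χ g) = χ g := by
  rw [Complex.conj_eq_iff_im]
  by_contra hne
  rw [(fsInd_eq_zero_iff hχ).2 ⟨g, hne⟩] at h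
  exact zero_ne_one h

theorem exists_strongly_real_over [Fintype G] (N : Subgroup G) [N.Normal] [Fintype N]
    (hodd : Odd N.index) {φ : N → ℂ} (hφ : IsIrrCharacter N φ) (hν : fsInd φ = 1) :
    ∃ χ : IrrCharacter G, fsInd (χ : G → ℂ) = 1 ∧
      classInner (fun n : N => (χ : G → ℂ) n) φ ≠ 0 := by
  classical
  haveI : Fintype (IrrCharacter G) := Fintype.ofFinite _
  have hΦ : IsCharacter G (indFun N φ) := isCharacter_indFun N φ (isCharacter_of_irr hφ)
  obtain ⟨m, hm, -⟩ := character_eq_sum_nat hΦ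
  have h1 := fsInd_eq_sum_irr (isClassFunction_of_isCharacter hΦ)
  rw [fsInd_indFun_of_odd_index N hodd, hν] at h1
  by_contra hcon
  push Not at hcon
  have h2 : ∀ χ : IrrCharacter G,
      (classInner (indFun N φ) (χ : G → ℂ) * fsInd (χ : G → ℂ)).re ≤ 0 := by
    intro χ
    rcases fsInd_trichotomy χ.2 with h | h | h
    · rw [h]; simp
    · have h3 := hcon χ h
      rw [frobenius_reciprocity N φ _ (isClassFunction_of_isCharacter (isCharacter_of_irr χ.2)),
        ← classInner_conj_symm, h3]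
      simp
    · rw [h, hm]; simp
  have h3 := congrArg Complex.re h1
  rw [Complex.re_sum, Complex.one_re] at h3
  have := Finset.sum_nonpos (fun χ (_ : χ ∈ Finset.univ) => h2 χ)
  linarith

theorem strongly_real_over_unique [Fintype G] (N : Subgroup G) [N.Normal] [Fintype N]
    (hodd : Odd N.index) {φ : N → ℂ} (hφ : IsIrrCharacter N φ) {χ₁ χ₂ : G → ℂ}
    (h₁ : IsIrrCharacter G χ₁) (h₂ : IsIrrCharacter G χ₂)
    (hr₁ : ∀ g, conj (χ₁ g) = χ₁ g) (hr₂ : ∀ g, conj (χ₂ g) = χ₂ g)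
    (hc₁ : classInner (fun n : N => χ₁ n) φ ≠ 0) (hc₂ : classInner (fun n : N => χ₂ n) φ ≠ 0) :
    χ₁ = χ₂ := by
  classical
  have key : ∀ {α β : G → ℂ}, IsIrrCharacter G α → IsIrrCharacter G β →
      (∀ g, conj (α g) = α g) → (∀ g, conj (β g) = β g) →
      ∃ a b : ℕ, classInner (fun n : N => α n) (fun n : N => β n) = a ∧ classInner α β = b ∧
        a % 2 = b % 2 := by
    intro α β hα hβ hrα hrβ
    obtain ⟨a, b, ha, hb, hab⟩ := parity_restrict N hodd
      (isCharacter_mul (isCharacter_of_irr hα) (isCharacter_of_irr hβ))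
      (fun g => by simp only [Pi.mul_apply, map_mul, hrα, hrβ])
    refine ⟨a, b, ?_, ?_, hab⟩
    · rw [← ha]
      simp only [classInner, Pi.mul_apply, hrβ]
    · rw [← hb]
      simp only [classInner, Pi.mul_apply, hrβ, map_one, mul_one]
  have e₁ := clifford' N h₁ hφ hc₁
  have e₂ := clifford' N h₂ hφ hc₂
  obtain ⟨a11, b11, ha11, hb11, h11⟩ := key h₁ h₁ hr₁ hr₁
  obtain ⟨a22, b22, ha22, hb22, h22⟩ := key h₂ h₂ hr₂ hr₂
  obtain ⟨a12, b12, ha12, hb12, h12⟩ := key h₁ h₂ hr₁ hr₂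
  obtain ⟨a21, b21, ha21, hb21, h21⟩ := key h₂ h₁ hr₂ hr₁
  by_contra hne
  rw [classInner_irr_self h₁] at hb11
  rw [classInner_irr_self h₂] at hb22
  rw [classInner_irr_ne h₁ h₂ hne] at hb12
  have hb11' : b11 = 1 := by exact_mod_cast hb11.symm
  have hb22' : b22 = 1 := by exact_mod_cast hb22.symm
  have hb12' : b12 = 0 := by exact_mod_cast hb12.symm
  have hprod : (a12 : ℂ) * a21 = a11 * a22 := by
    rw [← ha12, ← ha21, ← ha11, ← ha22]
    generalize (fun n : N => χ₁ n) = r₁ at *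
    generalize (fun n : N => χ₂ n) = r₂ at *
    generalize classInner r₁ φ = c₁ at *
    generalize classInner r₂ φ = c₂ at *
    rw [e₁, e₂]
    simp only [classInner_smul_left, classInner_smul_right]
    ring
  have hprod' : a12 * a21 = a11 * a22 := by exact_mod_cast hprod
  have : (a12 * a21) % 2 = (a11 * a22) % 2 := by rw [hprod']
  rw [Nat.mul_mod, Nat.mul_mod a11, h12, h11, h22, hb11', hb22', hb12'] at this
  simp at this

end Cfsg.Agent.Lib.Helper25
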