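import Mathlib
import Cfsg.Agent.Lib.Helper25.Glaub13

set_option autoImplicit false

namespace Cfsg.Agent.Lib.Helper25

open Cfsg

universe u

variable {Γ : Type u} [Group Γ]

theorem inf_centralizer_eq_fixSub (G S T : Subgroup Γ) (s₀ : Γ) (hTS : T ≤ S) (hs₀ : s₀ ∈ S)
    (hgen : S ≤ T ⊔ Subgroup.zpowers s₀) :
    G ⊓ Subgroup.centralizer (S : Set Γ) = fixSub (G ⊓ Subgroup.centralizer (T : Set Γ)) s₀ := by
  ext x
  rw [mem_fixSub, mem_inf_centralizer, mem_inf_centralizer]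
  constructor
  · rintro ⟨hx1, hx2'⟩
    exact ⟨⟨hx1, fun t ht => hx2' t (hTS ht)⟩, (hx2' s₀ hs₀).symm⟩
  · rintro ⟨⟨hx1, hx2⟩, hx3⟩
    refine ⟨hx1, ?_⟩
    have hle : T ⊔ Subgroup.zpowers s₀ ≤ Subgroup.centralizer ({x} : Set Γ) := by
      refine sup_le ?_ ?_
      · intro t ht
        rw [Subgroup.mem_centralizer_singleton_iff]
        exact hx2 t ht
      · rw [Subgroup.zpowers_le, Subgroup.mem_centralizer_singleton_iff]
        exact hx3.symm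
    intro s hs
    exact Subgroup.mem_centralizer_singleton_iff.1 (hle (hgen hs))

theorem class_corr_aux [Finite Γ] : ∀ (n : ℕ) (S : Subgroup Γ), Nat.card S = n →
    Group.IsSolvable S → ∀ G : Subgroup Γ, (∀ s ∈ S, ∀ g ∈ G, s * g * s⁻¹ ∈ G) →
    (Nat.card G).Coprime (Nat.card S) →
    (∀ x ∈ G, (∀ s ∈ S, ∃ g ∈ G, s * x * s⁻¹ = g * x * g⁻¹) →
      ∃ k ∈ G, k * x * k⁻¹ ∈ G ⊓ Subgroup.centralizer (S : Set Γ)) ∧
    (∀ x ∈ G ⊓ Subgroup.centralizer (S : Set Γ), ∀ g ∈ G,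
      g * x * g⁻¹ ∈ G ⊓ Subgroup.centralizer (S : Set Γ) →
      ∃ c ∈ G ⊓ Subgroup.centralizer (S : Set Γ), c * x * c⁻¹ = g * x * g⁻¹) := by
  intro n
  induction n using Nat.strong_induction_on with
  | _ n ih =>
  intro S hn hsolv G hnorm hcop
  by_cases hbot : S = ⊥
  · subst hbot
    have hall : ∀ x ∈ G, x ∈ G ⊓ Subgroup.centralizer ((⊥ : Subgroup Γ) : Set Γ) := by
      intro x hx
      refine mem_inf_centralizer.2 ⟨hx, ?_⟩
      intro h hh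
      have : h = 1 := hh
      rw [this]; simp
    exact ⟨fun x hx _ => ⟨1, G.one_mem, by simpa using hall x hx⟩,
      fun x _ g hg _ => ⟨g, hall g hg, rfl⟩⟩
  obtain ⟨T, s₀, hTS, hcard, hs₀, hTn, hgen⟩ := exists_normal_cyclic_quotient S hsolv hbot
  obtain ⟨ihA, ihB⟩ := ih _ (hn ▸ hcard) T rfl
    (Group.isSolvable_of_isSolvable_injective (Subgroup.inclusion_injective hTS)) G
    (fun s hs => hnorm s (hTS hs))
    (Nat.Coprime.coprime_dvd_right (Subgroup.card_dvd_of_le hTS) hcop)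
  rw [inf_centralizer_eq_fixSub G S T s₀ hTS hs₀ hgen]
  set D : Subgroup Γ := G ⊓ Subgroup.centralizer (T : Set Γ) with hD
  have hDG : D ≤ G := inf_le_left
  have hDs : ∀ g ∈ D, s₀ * g * s₀⁻¹ ∈ D := conj_mem_inf_centralizer G S T hnorm hTn s₀ hs₀
  have hcopD : (Nat.card D).Coprime (orderOf s₀) := by
    refine Nat.Coprime.coprime_dvd_left (Subgroup.card_dvd_of_le hDG) ?_
    refine Nat.Coprime.coprime_dvd_right ?_ hcop
    have := orderOf_dvd_natCard (⟨s₀, hs₀⟩ : S)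
    rwa [Subgroup.orderOf_mk] at this
  constructor
  · intro x hx hinv
    obtain ⟨k₁, hk₁, hx₁⟩ := ihA x hx (fun s hs => hinv s (hTS hs))
    obtain ⟨g, hg, hgx⟩ := hinv s₀ hs₀
    -- `s₀ x₁ s₀⁻¹` is `G`-conjugate to `x₁`
    have h1 : s₀ * (k₁ * x * k₁⁻¹) * s₀⁻¹ =
        (s₀ * k₁ * s₀⁻¹ * g * k₁⁻¹) * (k₁ * x * k₁⁻¹) * (s₀ * k₁ * s₀⁻¹ * g * k₁⁻¹)⁻¹ := by
      calc s₀ * (k₁ * x * k₁⁻¹) * s₀⁻¹ = (s₀ * k₁ * s₀⁻¹) * (s₀ * x * s₀⁻¹) * (s₀ * k₁ * s₀⁻¹)⁻¹ := by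
            group
        _ = (s₀ * k₁ * s₀⁻¹) * (g * x * g⁻¹) * (s₀ * k₁ * s₀⁻¹)⁻¹ := by rw [hgx]
        _ = _ := by group
    have hg' : s₀ * k₁ * s₀⁻¹ * g * k₁⁻¹ ∈ G :=
      G.mul_mem (G.mul_mem (hnorm s₀ hs₀ k₁ hk₁) hg) (G.inv_mem hk₁)
    obtain ⟨d, hd, hdx⟩ := ihB _ hx₁ _ hg' (by rw [← h1]; exact hDs _ hx₁)
    obtain ⟨k₂, hk₂, hx₂⟩ := exists_conj_mem_fixSub D s₀ hDs hcopD _ hx₁ d hd (by rw [hdx, ← h1])
    refine ⟨k₂ * k₁, G.mul_mem (hDG hk₂) hk₁, ?_⟩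
    have : k₂ * k₁ * x * (k₂ * k₁)⁻¹ = k₂ * (k₁ * x * k₁⁻¹) * k₂⁻¹ := by group
    rw [this]
    exact hx₂
  · intro x hx g hg hgx
    obtain ⟨d, hd, hdx⟩ := ihB x (fixSub_le D s₀ hx) g hg (fixSub_le D s₀ hgx)
    obtain ⟨c, hc, hcx⟩ := exists_conj_fixSub_of_conj D s₀ hDs hcopD x hx d hd (by rw [hdx]; exact hgx)
    exact ⟨c, hc, hcx.trans hdx⟩

theorem card_conjClasses_inv [Finite Γ] (G S : Subgroup Γ) (hsolv : Group.IsSolvable S)
    (hnorm : ∀ s ∈ S, ∀ g ∈ G, s * g * s⁻¹ ∈ G) (hcop : (Nat.card G).Coprime (Nat.card S)) :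
    Nat.card (ConjClasses (G ⊓ Subgroup.centralizer (S : Set Γ) : Subgroup Γ)) =
      Nat.card {K : ConjClasses G // ∀ s ∈ S, ∀ g g' : G, (g' : Γ) = s * g * s⁻¹ →
        ConjClasses.mk g = K → ConjClasses.mk g' = K} := by
  obtain ⟨hA, hB⟩ := class_corr_aux _ S rfl hsolv G hnorm hcop
  set C : Subgroup Γ := G ⊓ Subgroup.centralizer (S : Set Γ) with hC
  have hCG : C ≤ G := inf_le_left
  let f : ConjClasses C → {K : ConjClasses G // ∀ s ∈ S, ∀ g g' : G, (g' : Γ) = s * g * s⁻¹ →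
        ConjClasses.mk g = K → ConjClasses.mk g' = K} := fun c =>
    ⟨ConjClasses.map (Subgroup.inclusion hCG) c, by
      obtain ⟨c, rfl⟩ := ConjClasses.exists_rep c
      intro s hs g g' hg hK
      have hK' : ConjClasses.mk g = ConjClasses.mk (Subgroup.inclusion hCG c) := hK
      show ConjClasses.mk g' = ConjClasses.mk (Subgroup.inclusion hCG c)
      rw [ConjClasses.mk_eq_mk_iff_isConj, isConj_comm, isConj_iff] at hK' ⊢
      obtain ⟨h, hh⟩ := hK'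
      have hh' : (h : Γ) * c * (h : Γ)⁻¹ = g := congrArg Subtype.val hh
      have hcs := (mem_inf_centralizer.1 c.2).2 s hs
      refine ⟨⟨s * h * s⁻¹, hnorm s hs h h.2⟩, Subtype.ext ?_⟩
      show s * h * s⁻¹ * (c : Γ) * (s * h * s⁻¹)⁻¹ = g'
      rw [hg, ← hh']
      calc s * h * s⁻¹ * (c : Γ) * (s * h * s⁻¹)⁻¹ = s * h * (s⁻¹ * (c * s)) * (h : Γ)⁻¹ * s⁻¹ := by
            group
        _ = s * h * (s⁻¹ * (s * c)) * (h : Γ)⁻¹ * s⁻¹ := by rw [hcs]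
        _ = s * (h * c * (h : Γ)⁻¹) * s⁻¹ := by group⟩
  refine Nat.card_congr (Equiv.ofBijective f ⟨?_, ?_⟩)
  · intro a b hab
    obtain ⟨a, rfl⟩ := ConjClasses.exists_rep a
    obtain ⟨b, rfl⟩ := ConjClasses.exists_rep b
    have h1 : ConjClasses.mk (Subgroup.inclusion hCG a) =
        ConjClasses.mk (Subgroup.inclusion hCG b) := congrArg Subtype.val hab
    rw [ConjClasses.mk_eq_mk_iff_isConj, isConj_iff] at h1
    obtain ⟨g, hg⟩ := h1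
    have hg' : (g : Γ) * a * (g : Γ)⁻¹ = b := congrArg Subtype.val hg
    obtain ⟨c, hc, hcx⟩ := hB a a.2 g g.2 (by rw [hg']; exact b.2)
    rw [ConjClasses.mk_eq_mk_iff_isConj, isConj_iff]
    refine ⟨⟨c, hc⟩, Subtype.ext ?_⟩
    show c * (a : Γ) * c⁻¹ = b
    rw [hcx, hg']
  · rintro ⟨K, hK⟩
    obtain ⟨x, rfl⟩ := ConjClasses.exists_rep K
    obtain ⟨k, hk, hkx⟩ := hA x x.2 (by
      intro s hs
      have h1 := hK s hs x ⟨s * x * s⁻¹, hnorm s hs x x.2⟩ rfl rfl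
      rw [ConjClasses.mk_eq_mk_iff_isConj, isConj_comm, isConj_iff] at h1
      obtain ⟨g, hg⟩ := h1
      exact ⟨g, g.2, (congrArg Subtype.val hg).symm⟩)
    refine ⟨ConjClasses.mk ⟨k * x * k⁻¹, hkx⟩, Subtype.ext ?_⟩
    show ConjClasses.mk (Subgroup.inclusion hCG ⟨k * x * k⁻¹, hkx⟩) = ConjClasses.mk x
    rw [ConjClasses.mk_eq_mk_iff_isConj, isConj_comm, isConj_iff]
    exact ⟨⟨k, hk⟩, Subtype.ext rfl⟩

end Cfsg.Agent.Lib.Helper25
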