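import Mathlib

set_option autoImplicit false

namespace Cfsg.Agent.Lib.Helper25

universe u

/-- Normal Hall subgroups of finite nilpotent groups. -/
theorem exists_normal_hall_of_nilpotent_aux : ∀ (N : ℕ) (E : Type u) [Group E] [Finite E]
    [Group.IsNilpotent E] (n k : ℕ), Nat.card E = N → n.Coprime k → Nat.card E ∣ n * k →
    ∃ A : Subgroup E, A.Normal ∧ Nat.card A ∣ n ∧ A.index ∣ k := by
  intro N
  induction N using Nat.strong_induction_on with
  | _ N ih =>
    intro E _ _ _ n k hN hnk hdvd
    by_cases hc : (Nat.card E).Coprime n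
    · refine ⟨⊥, inferInstance, by simp, ?_⟩
      rw [Subgroup.index_bot]
      exact hc.dvd_of_dvd_mul_left hdvd
    · obtain ⟨p, hp, hpE, hpn⟩ := Nat.Prime.not_coprime_iff_dvd.1 hc
      haveI : Fact p.Prime := ⟨hp⟩
      let P : Sylow p E := default
      have hPcard : 1 < Nat.card P := by
        rw [Sylow.card_eq_multiplicity]
        apply Nat.one_lt_pow _ hp.one_lt
        exact (hp.factorization_pos_of_dvd Nat.card_pos.ne' hpE).ne'
      have hcard := (P : Subgroup E).card_eq_card_quotient_mul_card_subgroup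
      have hposQ : 0 < Nat.card (E ⧸ (P : Subgroup E)) := Nat.card_pos
      have hlt : Nat.card (E ⧸ (P : Subgroup E)) < N := by
        rw [← hN, hcard]
        nlinarith
      obtain ⟨A, hAn, hA1, hA2⟩ := ih _ hlt (E ⧸ (P : Subgroup E)) n k rfl hnk
        (dvd_trans ⟨_, hcard⟩ hdvd)
      refine ⟨A.comap (QuotientGroup.mk' (P : Subgroup E)), inferInstance, ?_, ?_⟩
      · have hidx : (A.comap (QuotientGroup.mk' (P : Subgroup E))).index = A.index :=
          Subgroup.index_comap_of_surjective A (QuotientGroup.mk'_surjective _)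
        have h1 := (A.comap (QuotientGroup.mk' (P : Subgroup E))).card_mul_index
        have h2 := A.card_mul_index
        rw [hidx, hcard, ← h2] at h1
        have hpos : 0 < A.index := Nat.pos_of_ne_zero Subgroup.index_ne_zero_of_finite
        have h3 : Nat.card (A.comap (QuotientGroup.mk' (P : Subgroup E))) =
            Nat.card A * Nat.card P := by
          apply Nat.eq_of_mul_eq_mul_right hpos
          rw [h1]; ring
        have h4 : (Nat.card (A.comap (QuotientGroup.mk' (P : Subgroup E)))).Coprime k := by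
          rw [h3]
          apply Nat.Coprime.mul_left
          · exact Nat.Coprime.coprime_dvd_left hA1 hnk
          · rw [Sylow.card_eq_multiplicity]
            apply Nat.Coprime.pow_left
            exact Nat.Coprime.coprime_dvd_left hpn hnk
        exact h4.dvd_of_dvd_mul_right (dvd_trans (Subgroup.card_subgroup_dvd_card _) hdvd)
      · rw [Subgroup.index_comap_of_surjective A (QuotientGroup.mk'_surjective _)]
        exact hA2

theorem exists_normal_hall_of_nilpotent (E : Type u) [Group E] [Finite E]
    [Group.IsNilpotent E] {n k : ℕ} (hnk : n.Coprime k) (hdvd : Nat.card E ∣ n * k) :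
    ∃ A : Subgroup E, A.Normal ∧ Nat.card A ∣ n ∧ A.index ∣ k :=
  exists_normal_hall_of_nilpotent_aux _ E n k rfl hnk hdvd

theorem mem_iff_pow_eq_one_of_hall {E : Type u} [Group E] [Finite E] (A : Subgroup E) [A.Normal]
    {n k : ℕ} (hnk : n.Coprime k) (hA : Nat.card A ∣ n) (hi : A.index ∣ k) (x : E) :
    x ∈ A ↔ x ^ n = 1 := by
  constructor
  · intro hx
    have h1 : (⟨x, hx⟩ : A) ^ Nat.card A = 1 := pow_card_eq_one'
    obtain ⟨c, hc⟩ := hA
    have h2 : x ^ Nat.card A = 1 := congrArg Subtype.val h1
    rw [hc, pow_mul, h2, one_pow]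
  · intro hx
    rw [← QuotientGroup.eq_one_iff]
    have h1 : (x : E ⧸ A) ^ n = 1 := by rw [← QuotientGroup.mk_pow, hx]; rfl
    have h2 : (x : E ⧸ A) ^ k = 1 := by
      obtain ⟨c, hc⟩ := hi
      have : (x : E ⧸ A) ^ Nat.card (E ⧸ A) = 1 := pow_card_eq_one'
      rw [hc, pow_mul]
      rw [show A.index = Nat.card (E ⧸ A) from rfl, this, one_pow]
    have h3 := pow_gcd_eq_one.2 ⟨h1, h2⟩
    rw [Nat.Coprime.gcd_eq_one hnk, pow_one] at h3
    exact h3

end Cfsg.Agent.Lib.Helper25
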