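import Mathlib
import Cfsg.Agent.Lib.Helper25.NilpHall
import Cfsg.Agent.Lib.Helper11.GenChar
import Cfsg.Agent.Lib.Helper2.Brauer7
import Cfsg.Agent.Lib.Helper2.CharInt

set_option autoImplicit false

namespace Cfsg.Agent.Lib.Helper25

open Cfsg

universe u

/-- On a finite nilpotent group the projection to the Hall part is multiplicative. -/
theorem zpow_mul_of_nilpotent {E : Type u} [Group E] [Finite E] [Group.IsNilpotent E] {n k : ℕ}
    (hnk : n.Coprime k) (hE : Nat.card E ∣ n * k) (s t : ℤ) (hst : s * n + t * k = 1) (a b : E) :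
    (a * b) ^ (t * k) = a ^ (t * k) * b ^ (t * k) := by
  obtain ⟨E1, hE1n, hE1c, hE1i⟩ := exists_normal_hall_of_nilpotent E hnk hE
  obtain ⟨E2, hE2n, hE2c, hE2i⟩ := exists_normal_hall_of_nilpotent E hnk.symm
    (by rwa [mul_comm])
  have hpow : ∀ e : E, e ^ (n * k) = 1 := by
    intro e
    obtain ⟨c, hc⟩ := hE
    rw [hc, pow_mul, pow_card_eq_one', one_pow]
  have h1 : ∀ e : E, e ^ (t * k) ∈ E1 := by
    intro e
    rw [mem_iff_pow_eq_one_of_hall E1 hnk hE1c hE1i, ← zpow_natCast, ← zpow_mul]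
    have : t * (k : ℤ) * n = ((n * k : ℕ) : ℤ) * t := by push_cast; ring
    rw [this, zpow_mul, zpow_natCast, hpow, one_zpow]
  have h2 : ∀ e : E, e ^ (s * n) ∈ E2 := by
    intro e
    rw [mem_iff_pow_eq_one_of_hall E2 hnk.symm hE2c hE2i, ← zpow_natCast, ← zpow_mul]
    have : s * (n : ℤ) * k = ((n * k : ℕ) : ℤ) * s := by push_cast; ring
    rw [this, zpow_mul, zpow_natCast, hpow, one_zpow]
  have hdec : ∀ e : E, e = e ^ (t * k) * e ^ (s * n) := by
    intro e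
    rw [← zpow_add, add_comm, hst, zpow_one]
  have hdisj : Disjoint E1 E2 := by
    rw [Subgroup.disjoint_def]
    intro x hx1 hx2
    rw [mem_iff_pow_eq_one_of_hall E1 hnk hE1c hE1i] at hx1
    rw [mem_iff_pow_eq_one_of_hall E2 hnk.symm hE2c hE2i] at hx2
    have h3 := pow_gcd_eq_one.2 ⟨hx1, hx2⟩
    rwa [Nat.Coprime.gcd_eq_one hnk, pow_one] at h3
  have hcomm : ∀ x ∈ E1, ∀ y ∈ E2, x * y = y * x := fun x hx y hy =>
    Subgroup.commute_of_normal_of_disjoint E1 E2 hE1n hE2n hdisj x y hx hy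
  have hab : (a * b) ^ (t * k) * (a * b) ^ (s * n) =
      (a ^ (t * k) * b ^ (t * k)) * (a ^ (s * n) * b ^ (s * n)) := by
    rw [← hdec (a * b)]
    calc a * b = (a ^ (t * k) * a ^ (s * n)) * (b ^ (t * k) * b ^ (s * n)) := by
          rw [← hdec a, ← hdec b]
      _ = a ^ (t * k) * (a ^ (s * n) * b ^ (t * k)) * b ^ (s * n) := by group
      _ = a ^ (t * k) * (b ^ (t * k) * a ^ (s * n)) * b ^ (s * n) := by
          rw [hcomm _ (h1 b) _ (h2 a)]
      _ = _ := by group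
  have hw : (a ^ (t * k) * b ^ (t * k))⁻¹ * (a * b) ^ (t * k) =
      (a ^ (s * n) * b ^ (s * n)) * ((a * b) ^ (s * n))⁻¹ := by
    rw [inv_mul_eq_iff_eq_mul, ← mul_assoc, eq_mul_inv_iff_mul_eq]
    exact hab
  have hw1 : (a ^ (t * k) * b ^ (t * k))⁻¹ * (a * b) ^ (t * k) ∈ E1 :=
    E1.mul_mem (E1.inv_mem (E1.mul_mem (h1 a) (h1 b))) (h1 _)
  have hw2 : (a ^ (t * k) * b ^ (t * k))⁻¹ * (a * b) ^ (t * k) ∈ E2 := by
    rw [hw]
    exact E2.mul_mem (E2.mul_mem (h2 a) (h2 b)) (E2.inv_mem (h2 _))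
  have := Subgroup.disjoint_def.1 hdisj hw1 hw2
  exact (inv_mul_eq_one.1 this).symm

/-- and its image is a subgroup of order dividing `n`. -/
theorem exists_hall_zpow_mem {E : Type u} [Group E] [Finite E] [Group.IsNilpotent E] {n k : ℕ}
    (hnk : n.Coprime k) (hE : Nat.card E ∣ n * k) (t : ℤ) :
    ∃ E1 : Subgroup E, Nat.card E1 ∣ n ∧ ∀ e : E, e ^ (t * k) ∈ E1 := by
  obtain ⟨E1, hE1n, hE1c, hE1i⟩ := exists_normal_hall_of_nilpotent E hnk hE
  refine ⟨E1, hE1c, ?_⟩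
  have hpow : ∀ e : E, e ^ (n * k) = 1 := by
    intro e
    obtain ⟨c, hc⟩ := hE
    rw [hc, pow_mul, pow_card_eq_one', one_pow]
  intro e
  rw [mem_iff_pow_eq_one_of_hall E1 hnk hE1c hE1i, ← zpow_natCast, ← zpow_mul]
  have : t * (k : ℤ) * n = ((n * k : ℕ) : ℤ) * t := by push_cast; ring
  rw [this, zpow_mul, zpow_natCast, hpow, one_zpow]

theorem isElementary_zpowers {G : Type u} [Group G] [Finite G] (x : G) :
    ∃ p, p.Prime ∧ IsElementary p (Subgroup.zpowers x) := by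
  obtain ⟨p, hp1, hp⟩ := Nat.exists_infinite_primes (orderOf x + 1)
  refine ⟨p, hp, ⟨x, Subgroup.mem_zpowers x⟩, ?_, ?_, 0, ?_⟩
  · rw [Subgroup.mem_center_iff]
    rintro ⟨y, hy⟩
    obtain ⟨i, rfl⟩ := Subgroup.mem_zpowers_iff.1 hy
    apply Subtype.ext
    simp only [Subgroup.coe_mul]
    rw [← zpow_add_one, ← zpow_one_add, add_comm]
  · rw [Subgroup.orderOf_mk]
    exact ((Nat.Prime.coprime_iff_not_dvd hp).2
      (Nat.not_dvd_of_pos_of_lt (orderOf_pos x) (by omega))).symm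
  · rw [pow_zero, Subgroup.index_eq_one, eq_top_iff]
    rintro ⟨y, hy⟩ -
    obtain ⟨i, rfl⟩ := Subgroup.mem_zpowers_iff.1 hy
    exact Subgroup.mem_zpowers_iff.2 ⟨i, Subtype.ext (by simp)⟩

end Cfsg.Agent.Lib.Helper25
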