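import Cfsg.Agent.Lib.Helper25.Monomial
import Cfsg.Agent.Lib.Helper24.CenterDvd

set_option autoImplicit false

namespace Cfsg.Agent.Lib.Helper25

open Cfsg

universe u

theorem ito_aux (n : ℕ) : ∀ (G : Type u) [Group G] [Fintype G], Nat.card G = n →
    ∀ (A : Subgroup G) [A.Normal], (∀ a ∈ A, ∀ b ∈ A, a * b = b * a) →
    ∀ χ : G → ℂ, IsIrrCharacter G χ → ∃ d : ℕ, χ 1 = d ∧ d ∣ A.index := by
  induction n using Nat.strong_induction_on with
  | _ n ih =>
  intro G _ _ hcard A _ hA χ hχ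
  obtain ⟨m, ρ, hρ, rfl⟩ := id hχ
  rcases scalar_or_induced A hA ρ hρ with hs | ⟨T, ψ, hT, hAT, hψ, hind⟩
  · have := hρ
    have h1 := Helper24.finrank_dvd_index_of_scalar ρ A hs
    exact ⟨Module.finrank ℂ (Fin m → ℂ), Representation.char_one ρ, h1⟩
  · have : Fintype T := Fintype.ofFinite _
    have hlt : Nat.card T < n := by
      rw [← hcard]
      apply lt_of_le_of_ne (Subgroup.card_le_card_group T)
      intro h4
      exact hT (Subgroup.eq_top_of_card_eq T h4)
    obtain ⟨d', hd', hdvd⟩ := ih _ hlt T rfl (A.subgroupOf T)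
      (fun a ha b hb => Subtype.ext (hA a (Subgroup.mem_subgroupOf.mp ha) b
        (Subgroup.mem_subgroupOf.mp hb))) ψ hψ
    refine ⟨T.index * d', ?_, ?_⟩
    · rw [← hind, indFun_one, hd']
      push_cast
      ring
    · rw [← Subgroup.relIndex_mul_index hAT, mul_comm]
      exact Nat.mul_dvd_mul_right hdvd _

end Cfsg.Agent.Lib.Helper25
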