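import Cfsg.Agent.Lib.Helper25.GoDown1
import Cfsg.Agent.Lib.Helper25.Gallagher2
import Cfsg.Agent.Lib.Helper25.FS5

set_option autoImplicit false

namespace Cfsg.Agent.Lib.Helper25

open scoped ComplexConjugate
open Cfsg

universe u

/-- If `μ ψ = ψ` with `ψ` irreducible on a subgroup of `ker μ`, then `μ = 1`. -/
theorem linear_fix_trivial {K : Type u} [Group K] [Finite K] (M : Subgroup K) {ψ : K → ℂ}
    (hψ : IsIrrCharacter K ψ) (hM : IsIrrCharacter M (fun m : M => ψ m)) (μ : K →* ℂˣ)
    (hμM : M ≤ μ.ker) (h : ∀ k, (μ k : ℂ) * ψ k = ψ k) : μ = 1 := by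
  classical
  have : Fintype K := Fintype.ofFinite _
  have : Fintype μ.ker := Fintype.ofFinite _
  have hv : ∀ k, k ∉ μ.ker → ψ k = 0 := by
    intro k hk
    have h1 : ((μ k : ℂ) - 1) * ψ k = 0 := by linear_combination h k
    rcases mul_eq_zero.mp h1 with h2 | h2
    · exfalso
      apply hk
      rw [MonoidHom.mem_ker]
      apply Units.ext
      rw [Units.val_one]
      linear_combination h2
    · exact h2
  have h1 := norm_restrict_of_vanish μ.ker hψ hv
  have hirr : IsIrrCharacter μ.ker (fun l : μ.ker => ψ l) := by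
    apply isIrrCharacter_of_restrict (M.subgroupOf μ.ker)
      (Helper7.isCharacter_restrict (Helper7.isCharacter_of_irr hψ) _)
    exact isIrrCharacter_subgroupOf M hμM hM
  rw [Helper7.classInner_irr_self hirr] at h1
  have h2 : μ.ker.index = 1 := by exact_mod_cast h1.symm
  rw [Subgroup.index_eq_one] at h2
  exact (MonoidHom.ker_eq_top_iff).mp h2

/-- The number of extensions of an irreducible character is at most the index. -/
theorem card_extensions_le {G : Type u} [Group G] [Fintype G] [Fintype (IrrCharacter G)]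
    [DecidableEq (IrrCharacter G)] (H : Subgroup G) [Fintype H]
    {μ : H → ℂ} (hμ : IsIrrCharacter H μ) (S : Finset (IrrCharacter G))
    (hS : ∀ χ ∈ S, (fun h : H => (χ : G → ℂ) h) = μ) : S.card ≤ H.index := by
  obtain ⟨m, hm, hsum⟩ := Helper7.character_eq_sum_nat
    (isCharacter_indFun H μ (Helper7.isCharacter_of_irr hμ))
  have h1 := congrFun hsum 1
  rw [indFun_one, apply_one_eq_charDegree hμ] at h1
  have h2 : (∑ χ : IrrCharacter G, m χ • (χ : G → ℂ)) 1
      = ((∑ χ : IrrCharacter G, m χ * charDegree (χ : G → ℂ) : ℕ) : ℂ) := by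
    rw [Finset.sum_apply]
    push_cast
    apply Finset.sum_congr rfl
    intro χ _
    rw [Pi.smul_apply, apply_one_eq_charDegree χ.2, nsmul_eq_mul]
  rw [h2] at h1
  have h3 : H.index * charDegree μ = ∑ χ : IrrCharacter G, m χ * charDegree (χ : G → ℂ) := by
    exact_mod_cast h1
  have h4 : ∑ χ ∈ S, m χ * charDegree (χ : G → ℂ) ≤
      ∑ χ : IrrCharacter G, m χ * charDegree (χ : G → ℂ) :=
    Finset.sum_le_sum_of_subset (Finset.subset_univ S)
  have h5 : ∑ χ ∈ S, m χ * charDegree (χ : G → ℂ) = S.card * charDegree μ := by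
    rw [Finset.sum_congr rfl (g := fun _ => charDegree μ), Finset.sum_const, smul_eq_mul]
    intro χ hχ
    have e1 : m χ = 1 := by
      have := hm χ
      rw [frobenius_reciprocity H μ _
        (Helper7.isClassFunction_of_isCharacter (Helper7.isCharacter_of_irr χ.2)), hS χ hχ,
        Helper7.classInner_irr_self hμ] at this
      exact_mod_cast this.symm
    have e2 : charDegree (χ : G → ℂ) = charDegree μ := by
      have e3 := apply_one_eq_charDegree χ.2
      have e4 := apply_one_eq_charDegree hμ
      have e5 : (χ : G → ℂ) 1 = μ 1 := congrFun (hS χ hχ) 1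
      have : (charDegree (χ : G → ℂ) : ℂ) = charDegree μ := by
        rw [← e3, ← e4, e5]
      exact_mod_cast this
    rw [e1, e2, one_mul]
  have hpos : 0 < charDegree μ := by
    rw [Nat.pos_iff_ne_zero]
    intro h0
    have := apply_one_eq_charDegree hμ
    rw [h0, Nat.cast_zero] at this
    exact Helper7.irr_apply_one_ne_zero hμ this
  rw [h5, ← h3] at h4
  exact Nat.le_of_mul_le_mul_right h4 hpos

end Cfsg.Agent.Lib.Helper25
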